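import Cfsg.Agent.Lib.GW2.IV2

/-!
# The centralizer of an involution normalizes a four-group: the group is of type `A₇`
-/

set_option autoImplicit false
set_option linter.unusedSectionVars false

namespace Cfsg.Agent.GW2

open Subgroup Cfsg.Agent.OO Cfsg.Agent.Coprime Cfsg.Agent.R1 Cfsg.Agent.Blk GW
open scoped commutatorElement Pointwise

universe u

namespace Iv

variable {G : Type u} [Group G] [Finite G] {N X Y Z Q : Subgroup G}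
  {a b d e f g k s t v x y z ρ : G}

/-- counting cosets by the involutions fixing them -/
theorem count_le (T : Set G) (hT : ∀ g ∈ T, g ∈ 𝐂[t]) (ht : t ∈ N)
    (h : ∀ g ∈ T, ∀ x ∈ N, g⁻¹ * (x * t * x⁻¹) * g ∈ N → x * t * x⁻¹ = t) :
    ((QuotientGroup.mk : G → G ⧸ N) '' T).ncard * nI N t ≤ N.index := by
  choose! φ hφ using fun a (ha : a ∈ (fun x => x * t * x⁻¹) '' N) => ha
  rw [nI, ← ncard_conj, ← Set.ncard_prod, index, ← Set.ncard_univ]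
  refine Set.ncard_le_ncard_of_injOn (fun z => φ z.2 • z.1) (fun _ _ => trivial) ?_
  rintro ⟨_, a⟩ ⟨⟨g, hg, rfl⟩, ha⟩ ⟨_, b⟩ ⟨⟨g', hg', rfl⟩, hb⟩ e
  have h3 : (φ a * g)⁻¹ * (φ b * g') ∈ N := QuotientGroup.eq.1 e
  have h4 := h g hg _ (mul_mem (inv_mem (hφ a ha).1) (hφ b hb).1) (by
    have := mul_mem (mul_mem h3 ht) (inv_mem h3)
    rwa [show (φ a * g)⁻¹ * (φ b * g') * t * ((φ a * g)⁻¹ * (φ b * g'))⁻¹ = g⁻¹ * ((φ a)⁻¹ * φ b *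
      (g' * t * g'⁻¹) * ((φ a)⁻¹ * φ b)⁻¹) * g by group, mem_cent1_iff_conj.1 (hT g' hg')] at this)
  obtain rfl : a = b := by
    rw [← (hφ a ha).2, ← (hφ b hb).2]
    nth_rewrite 1 [← h4]
    group
  exact Prod.ext (smul_left_cancel _ e) rfl

/-- the product of two elements that invert `Y` centralizes it -/
theorem mul_mem_cent (hf : ∀ y ∈ Y, f * y * f⁻¹ = y⁻¹) (hx : x ∈ 𝐍(Y)) :
    f * (x * f * x⁻¹) ∈ 𝐂(Y) :=
  mem_cent_iff_conj.2 fun y hy => by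
    rw [mul_cj f, show x * f * x⁻¹ * y * (x * f * x⁻¹)⁻¹ = x * (f * (x⁻¹ * y * x) * f⁻¹) * x⁻¹ by group,
      hf _ (conj_mem_of_norm' hx hy), show x * (x⁻¹ * y * x)⁻¹ * x⁻¹ = y⁻¹ by group,
      hf _ (inv_mem hy), inv_inv]

namespace St

variable (h : St a s t)
include h

theorem inv (x : G) (hx : x ∈ O 𝐂[t]) : a * s * x * (a * s)⁻¹ = x⁻¹ :=
  conj_eq_inv h.p2.e2 h.fW h.W_inf hx

theorem ab : O 𝐂[t] ≤ 𝐂(O 𝐂[t]) := (ab_of_inf_eq_bot h.p2.e2 h.fW h.W_inf).le_cent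

theorem cent_or (hg : g ∈ 𝐍(S4 t s)) : g ∈ 𝐂(O 𝐂[t]) ∨ ∀ x ∈ O 𝐂[t], g * x * g⁻¹ = x⁻¹ := by
  suffices g ∈ 𝐂(O 𝐂[t]) ⊔ zpowers (a * s) by
    obtain ⟨c, hc, y, hy, rfl⟩ := (mem_sup_norm_left (zpowers_le.2 (norm_le_norm_cent _ h.fW))).1 this
    rcases (mem_zp h.p2.e2).1 hy with rfl | rfl
    · exact .inl (by rwa [mul_one])
    · exact .inr fun x hx => by rw [mul_cj c, h.inv x hx, mem_cent_iff_conj.1 hc _ (inv_mem hx)]
  obtain ⟨ρ, r⟩ := h.mn.exists_rot h.p1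
  have hs := le_cent1_iff.1 h.Ws
  have ha : a ∈ 𝐂(O 𝐂[t]) ⊔ zpowers (a * s) := by
    simpa using mul_mem (mem_sup_right (mem_zpowers (a * s))) (mem_sup_left (inv_mem hs))
  have hρ := mul_mem_cent (f := a) (fun y hy => by
    rw [← h.inv y hy, mul_cj, mem_cent_iff_conj.1 hs y hy]) (h.Wn.norm r.mem_norm)
  obtain ⟨k, hk, e⟩ := (r.of_swap h.p1 h.aH h.as).exists_conj h.p1 (conj_mem_of_norm hg (t_mem_S4 _ _))
    (conj_ne_one.2 h.mn.t1)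
  rw [← mul_inv_cancel_left k g]
  refine mul_mem (mem_sup_left (zpowers_le.2 hρ hk)) (h.mn.sdprod.isProd.sup_eq.ge.trans (sup_le
    (le_sup_of_le_left h.ab) (S4_le.2 ⟨ha, mem_sup_left hs⟩)) (mem_cent1_iff_conj.2 ?_))
  rw [mul_cj, ← e]; group

theorem norm_zp (hx : x ∈ O 𝐂[t]) (x1 : x ≠ 1) : 𝐍(zpowers x) = 𝐍(S4 t s) :=
  h.norm_eq ⟨zpowers_le.2 (h.Wn.le hx), fun g hg => ZG.mem_norm_zp (by
    obtain e | e := h.cent_or hg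
    · rw [mem_cent_iff_conj.1 e x hx]; exact mem_zpowers x
    · rw [e x hx]; exact inv_mem (mem_zpowers x))⟩ (mt zpowers_eq_bot.1 x1)

theorem cent_le (hx : x ∈ k •ᶜ O 𝐂[t]) (x1 : x ≠ 1) : 𝐂[x] ≤ k •ᶜ 𝐍(S4 t s) := by
  obtain ⟨y, hy, rfl⟩ := mem_conj_iff_exists.1 hx
  rw [cent1_conj, conj_le_conj_iff, ← h.norm_zp hy (conj_ne_one.1 x1), ← cent_zpowers]
  exact cent_le_norm _

theorem cent_le' (hx : x ∈ O 𝐂[t]) (x1 : x ≠ 1) : 𝐂[x] ≤ 𝐍(S4 t s) :=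
  one_conj 𝐍(S4 t s) ▸ h.cent_le (by rwa [one_conj]) x1

theorem centW_le : 𝐂(O 𝐂[t]) ≤ 𝐍(S4 t s) := h.norm_eq h.Wn h.ne ▸ cent_le_norm _

theorem not_mem : a * s ∉ 𝐂(O 𝐂[t]) := mt le_cent1_iff.2 h.not_le

theorem cent_two : 𝐂[t] ⊓ 𝐂[a * s] = S4 t (a * s) :=
  (eq_of_le_of_card_le (le_inf h.p2.le_cent h.p2.le_cent')
    (by rw [card_cent h.mn.dh h.p2, h.W_inf, h.p2.card]; simp)).symm

theorem eq_t (hv : v ∈ S4 t s) (v1 : v ≠ 1) (hc : v ∈ 𝐂[a * s]) : v = t := by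
  have k : s ∉ 𝐂[a * s] := fun e => h.mn.cf.a2 (by
    have := mem_cent1_iff_conj.1 e
    rw [cj_mul, h.mn.cf.inv, mul_inv_cancel_right, mul_left_inj] at this
    exact mul_eq_one_iff_inv_eq.2 this)
  rcases h.p1.mem.1 hv with rfl | rfl | rfl | rfl
  exacts [absurd rfl v1, rfl, absurd hc k, absurd ((mul_mem_cancel_left h.p2.t_mem).1 hc) k]

theorem inf_eq : 𝐍(S4 t s) ⊓ 𝐂[a * s] = S4 t (a * s) :=
  le_antisymm (fun g hg => h.cent_two.le ⟨mem_cent1_iff_conj.2 (h.eq_t (conj_mem_of_norm hg.1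
    (t_mem_S4 _ _)) (conj_ne_one.2 h.mn.t1) (mul_mem (mul_mem hg.2 h.p2.t_mem) (inv_mem hg.2))), hg.2⟩)
    (le_inf (h.p2.le_cent.trans h.le) h.p2.le_cent')

theorem rel : (𝐂[a * s]).relIndex (O 𝐂[t]) = ♯(O 𝐂[t]) := by
  rw [← inf_relIndex_left, h.W_inf, relIndex_bot_left]

theorem a7t (h3 : ♯(O 𝐂[t]) = 3) : A7T (⊤ : Subgroup G) := by
  obtain ⟨A, C, D, k, -⟩ := h.mn.co G ⊤ a s t h.mn.cf h.mn.oc
  have h1 := (k.a15 (by rw [h.k1]; decide) (by rw [h.k1, h.k2, h.rel, h3])).2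
  have h2 := card_mul_relIndex (le_top : 𝐂[t] ≤ ⊤)
  rw [h.k1, nI] at h1
  rw [h.cardH, h3] at h2
  refine ⟨h.mn.smp, by omega, fun c _ c1 c2 => ?_⟩
  obtain ⟨g, rfl⟩ := h.mn.exists_conj c1 c2
  obtain ⟨w, hw, w1⟩ := exists_mem_ne_one h.ne
  rw [top_inf_eq]
  refine ⟨by rw [cent1_conj, card_conj, h.cardH, h3], g * s * g⁻¹, trivial, g * w * g⁻¹, trivial,
    h.p1.conj g, ?_, ?_, ?_, ?_, ?_⟩
  · rw [← conj_S4, norm_conj, cent1_conj]; exact conj_mono g h.le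
  · rw [orderOf_conj, ← Nat.card_zpowers, eq_zpowers_of_prime (by rw [h3]; decide) hw w1, h3]
  · rw [← conj_S4, cent_conj]; exact conj_mem_conj (h.WV hw)
  · rw [cent1_conj, cent1_conj, conj_le_conj_iff]
    exact fun e => w1 (mem_bot.1 (h.W_inf.le ⟨hw, mem_cent1_comm.1 (e h.p2.e_mem)⟩))
  · rw [top_inf_eq, ← conj_S4, norm_conj, cent1_conj]; exact conj_mono g (h.cent_le' hw w1)

theorem mem_four (hz : z ∈ 𝐂(O 𝐂[t])) (z2 : z * z = 1) : z ∈ S4 t s := by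
  have k := h.mn.cf.mono (h.mn.cf.le_cent.trans h.le) le_top
  obtain ⟨g, hg, e⟩ := k.syl.exists_conj_le (zpowers_le.2 (h.centW_le hz)) (ZG.two_elt z2)
  have h1 := card_mul_relIndex k.four_le
  rw [h.cardS, h.p1.card] at h1
  have h2 := ((covBy_of_relIndex_prime k.four_le (by
    rw [show (S4 t s).relIndex (S4 a s) = 2 by omega]; decide)).eq_or_eq
    (le_inf k.four_le (le_cent_symm h.WV)) inf_le_left).resolve_right fun e' =>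
      h.not_mem (e'.ge (mul_mem (t_mem_S4 _ _) (s_mem_S4 _ _))).2
  exact (mem_norm_iff.1 hg z).2 (h2.le ⟨e (conj_mem_conj (mem_zpowers z)),
    conj_mem_of_norm (norm_le_norm_cent _ (h.Wn.norm hg)) hz⟩)

variable (h3 : ♯(O 𝐂[t]) ≠ 3)
include h3

theorem mem_of_le (hg : g •ᶜ O 𝐂[t] ≤ 𝐍(S4 t s)) : g ∈ 𝐍(S4 t s) := by
  by_cases e : O 𝐂[t] ⊓ g •ᶜ O 𝐂[t] = ⊥
  · have h1 := relIndex_dvd_of_le_norm hg h.Wn.norm
    have h2 := card_mul_relIndex h.Wn.le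
    rw [h.cardM, Nat.mul_right_inj (card_pos' _).ne'] at h2
    rw [h2, ← inf_relIndex_right, e, relIndex_bot_left, card_conj] at h1
    have h4 := (Nat.dvd_prime Nat.prime_three).1 (((Nat.coprime_two_right.2 (odd_O 𝐂[t])).pow_right
      3).dvd_of_dvd_mul_left h1)
    exact absurd (card_eq_one_iff.1 (h4.resolve_right h3)) h.ne
  obtain ⟨x, hx, x1⟩ := exists_mem_ne_one e
  obtain ⟨y, hy, rfl⟩ := mem_conj_iff_exists.1 hx.2
  rw [← h.norm_eq (.refl _) (mt (le_bot_iff.1 <| h.Wn.le.trans ·.le) h.ne), ← conj_eq_self_iff,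
    ← h.norm_zp hy (conj_ne_one.1 x1), ← norm_conj, conj_zpowers, h.norm_zp hx.1 x1,
    h.norm_zp hy (conj_ne_one.1 x1)]

theorem key (hg : g ∈ 𝐂[a * s]) (g1 : g ∉ 𝐍(S4 t (a * s))) (hx : x ∈ 𝐍(S4 t s))
    (e : g⁻¹ * (x * (a * s) * x⁻¹) * g ∈ 𝐍(S4 t s)) : x * (a * s) * x⁻¹ = a * s := by_contra fun h0 => by
  have f2 := h.p2.e2
  have h1 := mul_mem_cent h.inv (h.Wn.norm hx)
  have gf : g⁻¹ * (a * s) * g⁻¹⁻¹ = a * s := mem_cent1_iff_conj.1 (inv_mem hg)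
  have h2 : a * s * (x * (a * s) * x⁻¹) ∈ g •ᶜ 𝐍(S4 t s) := mem_conj.2 (by
    rw [← inv_inv g, inv_inv g⁻¹, cj_mul, gf, inv_inv]
    exact mul_mem h.fM e)
  obtain ⟨d, hd, hp⟩ := ZG.exists_prime_mem (x := a * s * (x * (a * s) * x⁻¹)) fun e' =>
    h0 ((eq_inv_of_mul_eq_one_right e').trans (inv_eq f2))
  have d1 : d ≠ 1 := fun e => hp.one_lt.ne' (orderOf_eq_one_iff.2 e)
  have h4 : a * s * d * (a * s)⁻¹ = d⁻¹ := ZG.inv_of_mem (by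
    rw [← mul_assoc, f2, one_mul, mul_inv_rev (a * s), inv_eq (conj_sq f2 x)]) hd
  have h5 := zpowers_le.2 h1 hd
  have h6 := mem_conj.1 (zpowers_le.2 h2 hd)
  by_cases d2 : d * d = 1
  · obtain rfl := h.eq_t (h.mem_four h5 d2) d1 (mem_cent1_comm.1 (mem_cent1_iff_conj.2
      (h4.trans (inv_eq d2))))
    refine g1 (inv_mem_iff.1 (ZG.mem_norm_S4 (h.inf_eq.le ⟨by rwa [inv_inv], (𝐂[_]).mul_mem
      (mul_mem (inv_mem hg) h.p2.t_mem) (inv_mem (inv_mem hg))⟩) (gf.symm ▸ s_mem_S4 _ _)))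
  have ho := ZG.odd_of_prime hp d2
  obtain ⟨w, hw, w1⟩ := exists_mem_ne_one h.ne
  have h7 : g •ᶜ O 𝐂[t] ≤ 𝐂[d] := by
    rw [le_cent1_iff, cent_conj, mem_conj]
    exact (h.cent_or h6).resolve_right fun e' => w1 (eq_one_of_inv (by rwa [orderOf_conj'])
      (e' w hw) (odd_of_mem (odd_O _) hw))
  have h8 := le_cent1_iff.2 h5
  refine g1 (le_norm_self _ (h.inf_eq.le ⟨h.mem_of_le h3 ?_, hg⟩))
  have mO : ∀ {k y : G}, y ∈ 𝐂[k * t * k⁻¹] → Odd (orderOf y) → y ∈ k •ᶜ O 𝐂[t] := fun hy e =>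
    O_cent_conj _ t ▸ (h.mn.conj _).mem_U.2 ⟨hy, e⟩
  by_cases hJ : Odd ♯𝐂[d]
  · refine (h7.trans ((ab_of_inf_eq_bot f2 (cent_zpowers d ▸ norm_le_norm_cent _ (ZG.mem_norm_zp
      (h4 ▸ inv_mem (mem_zpowers d)))) (eq_bot_iff.2 fun y hy => by_contra fun y1 => d2 ?_)).le_cent.trans
      (cent_anti h8))).trans h.centW_le
    obtain ⟨k, ek⟩ := h.mn.exists_conj h.p2.e1 f2
    have h9 := h.cent_le (mO (ek ▸ hy.2) (odd_of_mem hJ hy.1)) y1 (mem_cent1_comm.1 hy.1)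
    have h10 : a * s ∈ k •ᶜ S4 t s := ek ▸ conj_mem_conj (t_mem_S4 _ _)
    have h11 := mul_mem (conj_mem_of_norm ((norm_conj _ _).ge h9) h10) (inv_mem h10)
    rw [show d * (a * s) * d⁻¹ * (a * s)⁻¹ = d * (a * s * d * (a * s)⁻¹)⁻¹ by group, h4, inv_inv,
      conj_S4] at h11
    exact eq_one_of_odd_of_sq (ho.of_dvd_nat (sq d ▸ orderOf_pow_dvd 2)) ((h.p1.conj k).sq h11)
  obtain ⟨z, hz, z2, z1⟩ : ∃ z ∈ 𝐂[d], z * z = 1 ∧ z ≠ 1 := by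
    by_contra! e
    exact hJ (odd_of_forall e)
  obtain ⟨k, rfl⟩ := h.mn.exists_conj z1 z2
  have h9 := h.cent_le (mO (mem_cent1_comm.1 hz) ho) d1
  exact (h7.trans h9).trans (conj_eq_of_mem (inv_mem_iff.1 (h.mem_of_le h3
    (le_conj_iff_inv_conj_le.1 (h8.trans h9))))).le

theorem false : False := by
  have h1 := count_le (N := 𝐍(S4 t s)) {g | g ∈ 𝐂[a * s] ∧ g ∉ 𝐍(S4 t (a * s))} (fun g hg => hg.1)
    h.fM fun g hg x hx => h.key h3 hg.1 hg.2 hx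
  have h2 := card_inf_mul_relIndex 𝐍(S4 t s) 𝐂[a * s]
  have h4 := card_inf_mul_relIndex 𝐂[a * s] 𝐍(S4 t s)
  obtain ⟨k, ek⟩ := h.mn.exists_conj h.p2.e1 h.p2.e2
  have h5 : ♯𝐂[a * s] = ♯(O 𝐂[t]) * 8 := by rw [← ek, cent1_conj, card_conj, h.cardH]
  rw [h.inf_eq, h.p2.card, h5, ← ncard_mk] at h2
  rw [inf_comm, h.inf_eq, h.p2.card, h.cardM] at h4
  have h6 : 𝐍(S4 t s).relIndex (𝐂[a * s] ⊓ 𝐍(S4 t (a * s))) ≤ 2 := by
    refine (relIndex_le_of_le_left h.le (relIndex_pos _ _).ne').trans ?_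
    rw [← ncard_conj, ← Set.ncard_pair h.p2.mul.ne]
    refine Set.ncard_le_ncard ?_
    rintro _ ⟨g, hg, rfl⟩
    rcases h.p2.mem.1 (conj_mem_of_norm hg.2 (t_mem_S4 _ _)) with e | e | e | e
    exacts [absurd e (conj_ne_one.2 h.mn.t1), .inl e,
      absurd (cj_inj.1 (e.trans (mem_cent1_iff_conj.1 hg.1).symm)) h.p2.ne, .inr e]
  rw [← ncard_mk] at h6
  have h7 := (Set.ncard_le_ncard (Set.image_mono (f := (QuotientGroup.mk : G → G ⧸ 𝐍(S4 t s)))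
    (show (𝐂[a * s] : Set G) ⊆ {g | g ∈ 𝐂[a * s] ∧ g ∉ 𝐍(S4 t (a * s))} ∪
      (𝐂[a * s] ⊓ 𝐍(S4 t (a * s)) : Subgroup G) from fun g hg => by
        by_cases e : g ∈ 𝐍(S4 t (a * s))
        exacts [.inr ⟨hg, e⟩, .inl ⟨hg, e⟩]))).trans
    ((congrArg _ (Set.image_union _ _ _)).trans_le (Set.ncard_union_le _ _))
  have h8 := h.bound
  rw [h.rel, ← relIndex_mul_index h.le, h.idx] at h8
  have h9 := one_lt_card h.ne
  have h10 := odd_O 𝐂[t]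
  rw [nI] at h1
  generalize ♯(O 𝐂[t]) = w at *
  obtain ⟨m, rfl⟩ := h10
  have h11 := (Nat.mul_le_mul (show 4 * m ≤ _ by omega) (show 12 * m + 6 ≤ _ by omega)).trans h1
  have h12 : m * 1 ≤ m * m := Nat.mul_le_mul_left m (by omega)
  nlinarith

end St

end Iv

/-- package IV -/
theorem iv : IV.{u} := fun _ _ _ _ _ _ h1 h2 h3 h4 =>
  (⟨h1, h2, h3, h4⟩ : Iv.St _ _ _).a7t (by_contra (⟨h1, h2, h3, h4⟩ : Iv.St _ _ _).false)

end Cfsg.Agent.GW2
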