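import Cfsg.Agent.Lib.GW2.CpB

/-!
# Groups with a component `L`, `L / O(L) = L₂(q)`
-/

set_option autoImplicit false
set_option linter.unusedSectionVars false

namespace Cfsg.Agent.GW2.Cq

open Subgroup Cfsg.Agent.OO Cfsg.Agent.Coprime GW
open scoped commutatorElement Pointwise

universe u

variable {G : Type u} [Group G] [Finite G] {X Y J P Q R L N M K T : Subgroup G}
  {a b c e f g s t u v w x y z ρ : G} {p : ℕ}

theorem mem_of_coset (hc : L ≤ 𝐂(K)) (ho : Odd ♯K) (hu : u ∈ 𝐍(K)) (u2 : u * u = 1)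
    (h : coset K u ∈ L ⁒ K) : u ∈ L := by
  obtain ⟨l, hl, e⟩ := (mem_quo_of_le (le_norm_of_le_cent hc)).1 h
  have h1 := (coset_eq_iff (le_norm_of_le_cent hc hl) hu).1 e
  have h2 : Commute l (l⁻¹ * u) := le_cent_iff.1 hc l hl _ h1
  have h3 := h2.mul_pow (orderOf (l⁻¹ * u))
  rw [pow_orderOf_eq_one, mul_one, mul_inv_cancel_left] at h3
  exact zpowers_le.2 (h3 ▸ pow_mem hl _) (ZG.mem_zp_pow ((Nat.coprime_two_right.2
    (odd_of_mem ho h1)).coprime_dvd_right (orderOf_dvd_of_pow_eq_one (by rw [sq, u2]))))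

theorem in_quo (ht : In X t) (hX : X ≤ 𝐍(K)) (ho : Odd ♯K) : In (X ⁒ K) (coset K t) := by
  refine ⟨coset_mem_quo _ ht.mem, coset_ne_one ho (hX ht.mem) ht.t1 ht.t2, coset_sq (hX ht.mem) ht.t2,
    ht.or.imp (fun ⟨c, hc, e⟩ => ⟨_, coset_mem_quo _ hc, by rw [← coset_mul (hX hc) (hX hc), e]⟩)
      fun ⟨e, he, ρ, hρ, q, r⟩ => ⟨_, coset_mem_quo _ he, _, coset_mem_quo _ hρ,
        f4_quo q (hX ht.mem) (hX he) ho, ?_, ?_⟩⟩
  · rw [← coset_conj (hX hρ) (hX ht.mem), r.ρt]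
  · rw [← coset_conj (hX hρ) (hX he), r.ρe, coset_mul (hX ht.mem) (hX he)]

/-- `L` covers the socle of `N / O(N)` -/
structure Lf (N L : Subgroup G) : Prop where
  dh : DH G
  normal : L ⊴ N
  cent : L ≤ 𝐂(O N)
  perfect : der L = L
  pg : PG (N ⁒ O N) (L ⁒ O N)

namespace Lf

variable (h : Lf N L)
include h

theorem norm : L ≤ 𝐍(O N) := le_norm_of_le_cent h.cent

theorem quo_cent (hu : u ∈ N) (u2 : u * u = 1) :
    (L ⊓ 𝐂[u]) ⁒ O N = L ⁒ O N ⊓ 𝐂[coset (O N) u] := by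
  rw [← cent_zpowers, quo_inf_cent_of_norm (zpowers_le.2 (O_norm N hu))
    (zpowers_le.2 (h.normal.norm hu)) (coprime_zp (odd_of_le (odd_O N) inf_le_left) u2)
    (.inr (sol_of_ab (ab_of_isCyclic inferInstance))), quo_zpowers (O_norm N hu), cent_zpowers]

theorem quo_O (hu : u ∈ N) (u1 : u ≠ 1) (u2 : u * u = 1) :
    O (L ⊓ 𝐂[u]) ⁒ O N = O (L ⁒ O N ⊓ 𝐂[coset (O N) u]) := by
  rw [← h.quo_cent hu u2]
  refine le_antisymm (quo_Opi_le _ _ _) fun z hz => ?_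
  obtain ⟨x, hx, -, h1, rfl⟩ := exists_piElt_coset_eq (Opi_le _ _ hz) ((Opi_piGrp _ _).piElt hz)
  exact coset_mem_quo _ ((h.dh.pnil u1 u2 inf_le_right).mem_of_normal (O_norm _) hx h1)

theorem quo_KK (hu : u ∈ N) (u1 : u ≠ 1) (u2 : u * u = 1) :
    KK L u ⁒ O N = O (L ⁒ O N ⊓ 𝐂[coset (O N) u]) := by
  rw [KK, quo_commutator (((Opi_le _ _).trans inf_le_left).trans h.norm) (inf_le_left.trans h.norm),
    h.quo_O hu u1 u2, h.quo_cent hu u2]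
  exact KK_eq h.pg (h.dh.coset _) (coset_mem_quo _ hu) (coset_ne_one (odd_O N) (O_norm N hu) u1 u2)
    (coset_sq (O_norm N hu) u2)

theorem cyc_quo (hu : u ∈ N) (u1 : u ≠ 1) (u2 : u * u = 1) :
    IsCyclic (O (L ⁒ O N ⊓ 𝐂[coset (O N) u])) :=
  cyc h.pg (coset_mem_quo _ hu) (coset_ne_one (odd_O N) (O_norm N hu) u1 u2) (coset_sq (O_norm N hu) u2)

theorem ab (hu : u ∈ N) (u1 : u ≠ 1) (u2 : u * u = 1) : Ab (O (L ⊓ 𝐂[u])) := by
  have hA : O (L ⊓ 𝐂[u]) ≤ L := (Opi_le _ _).trans inf_le_left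
  obtain ⟨x, hx, h1⟩ := (isCyclic_quo_iff (hA.trans h.norm)).1 (h.quo_O hu u1 u2 ▸ h.cyc_quo hu u1 u2)
  refine ab_of_Zc_sup_zpowers (A := O N ⊓ O (L ⊓ 𝐂[u])) (le_inf inf_le_right
    (inf_le_left.trans (le_cent_symm (hA.trans h.cent)))) ?_ hx
  rw [sup_comm, ← sup_inf_of_le_left (.inl (zpowers_le.2 (h.norm (hA hx)))) (zpowers_le.2 hx)]
  exact le_inf h1 le_rfl

theorem KK_inf (hu : u ∈ N) (u1 : u ≠ 1) (u2 : u * u = 1) : O N ⊓ KK L u = ⊥ := by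
  obtain ⟨T, hT⟩ := exists_syl 2 (L ⊓ 𝐂[u])
  have h1 := hT.le.trans (O_norm _)
  have ha := h.ab hu u1 u2
  refine eq_bot_iff.2 (coprime_abel_cent_TI h1 (coprime_of_isPGroup hT.isPGroup (Op'_piGrp 2 _)).symm
    ha ▸ le_inf (inf_le_right.trans ?_) (inf_le_left.trans (le_cent_symm
      ((hT.le.trans inf_le_left).trans h.cent))))
  refine (commutator_mono le_rfl ((h.dh.pnil u1 u2 inf_le_right).sdprod hT).sup_eq.ge).trans ?_
  rw [commutator_comm]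
  exact commutator_sup_le (sup_le (le_norm_commutator_left _ _) (le_norm_commutator_right _ _))
    ((ab_iff_der.1 ha).le.trans bot_le) (commutator_comm _ _).le

theorem KK_norm (u : G) : KK L u ≤ 𝐍(O N) := ((KK_le' L u).trans inf_le_left).trans h.norm

theorem card_KK (hu : u ∈ N) (u1 : u ≠ 1) (u2 : u * u = 1) :
    ♯(KK L u) = ♯(O (L ⁒ O N ⊓ 𝐂[coset (O N) u])) := by
  rw [← h.quo_KK hu u1 u2, card_quo_of_inf_eq_bot (h.KK_norm u) (h.KK_inf hu u1 u2)]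

theorem cyc (hu : u ∈ N) (u1 : u ≠ 1) (u2 : u * u = 1) : IsCyclic (KK L u) := by
  have := h.cyc_quo hu u1 u2
  rw [← h.quo_KK hu u1 u2] at this
  exact isCyclic_of_injective (quoOnto (h.KK_norm u)) ((MonoidHom.ker_eq_bot_iff _).1 (by
    rw [ker_quoOnto, ← inf_subgroupOf_right, h.KK_inf hu u1 u2, bot_subgroupOf]))

theorem f4 (q : F4 u v) (hu : u ∈ N) (hv : v ∈ N) : F4 (coset (O N) u) (coset (O N) v) :=
  f4_quo q (O_norm N hu) (O_norm N hv) (odd_O N)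

theorem memO (q : F4 u v) (hu : u ∈ N) (hv : v ∈ N) (hx : x ∈ L ⊓ 𝐂[u] ⊓ 𝐂[v])
    (ho : Odd (orderOf x)) : x ∈ O N :=
  (coset_eq_one_iff (h.norm hx.1.1)).1 (eq_one h.pg (h.f4 q hu hv) (coset_mem_quo _ hu)
    (coset_mem_quo _ hv) ⟨⟨coset_mem_quo _ hx.1.1, coset_mem_cent1 (O_norm N hu) hx.1.2⟩,
      coset_mem_cent1 (O_norm N hv) hx.2⟩ (ho.of_dvd_nat (orderOf_coset_dvd _ x)))

theorem le_sup (hu : u ∈ N) (u1 : u ≠ 1) (u2 : u * u = 1) : O (L ⊓ 𝐂[u]) ≤ KK L u ⊔ L ⊓ O N := by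
  have hA : O (L ⊓ 𝐂[u]) ≤ L := (Opi_le _ _).trans inf_le_left
  rw [inf_comm L (O N), ← sup_inf_of_le_left (.inl (h.KK_norm u)) ((KK_le' L u).trans inf_le_left)]
  exact le_inf ((quo_le_quo_iff_le_sup (hA.trans h.norm) (h.KK_norm u)).1
    ((h.quo_O hu u1 u2).trans (h.quo_KK hu u1 u2).symm).le) hA

theorem comm (hu : u ∈ N) (hv : v ∈ N) (q : F4 u v) : ⁅O (N ⊓ 𝐂[u]), zpowers v⁆ ≤ KK L u ⊔ O N := by
  have h1 : O (N ⊓ 𝐂[u]) ≤ N := (Opi_le _ _).trans inf_le_left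
  rw [← quo_le_quo_iff_le_sup ((commutator_le_of_le h1 (zpowers_le.2 hv)).trans (O_norm N))
    (h.KK_norm u), quo_commutator (h1.trans (O_norm N)) (zpowers_le.2 (O_norm N hv)),
    h.quo_KK hu q.t1 q.t2, quo_zpowers (O_norm N hv)]
  refine (commutator_mono ?_ le_rfl).trans (comm_O h.pg (h.dh.coset _) (coset_mem_quo _ hv)
    (h.f4 q hu hv))
  rw [← quo_cent1_of_odd (O_norm N) (odd_O N) hu q.t2]
  exact quo_Opi_le _ _ _

theorem comm' (hv : v ∈ L) (q : F4 u v) : ⁅O (N ⊓ 𝐂[u]), zpowers v⁆ ≤ KK L u := by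
  have h0 : v ∈ 𝐍(O (N ⊓ 𝐂[u])) := O_norm _ ⟨h.normal.le hv, q.e_mem⟩
  have h1 := commutator_le_left' (zpowers_le.2 h0)
  rw [← comm_zp q.e2 h0 (odd_O _)]
  exact commutator_mono (h.dh.le_O q.t1 q.t2 inf_le_right (le_inf ((commutator_mono ((Opi_le _ _).trans
    inf_le_left) (zpowers_le.2 hv)).trans (commutator_le_right' h.normal.norm))
      (h1.trans ((Opi_le _ _).trans inf_le_right))) (odd_of_le (odd_O _) h1))
    (zpowers_le.2 ⟨hv, q.e_mem⟩)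

theorem mem_cent (ht : t ∈ L) (t1 : t ≠ 1) (t2 : t * t = 1) (hx : x ∈ L ⊓ 𝐂[t]) (ho : Odd (orderOf x))
    (h1 : x ∉ O N) (hg : g ∈ L) (hc : g⁻¹ * x * g ∈ 𝐂[t]) : g ∈ 𝐂[t] := by
  have ht' := h.norm ht
  have h2 := h.pg.good.mem_cent (coset_mem_quo _ ht) (coset_ne_one (odd_O N) ht' t1 t2) (coset_sq ht' t2)
    ⟨coset_mem_quo _ hx.1, coset_mem_cent1 ht' hx.2⟩ (ho.of_dvd_nat (orderOf_coset_dvd _ x))
    (fun e => h1 ((coset_eq_one_iff (h.norm hx.1)).1 e)) (coset_mem_quo _ hg) (by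
      rw [← coset_inv, ← coset_mul (inv_mem (h.norm hg)) (h.norm hx.1),
        ← coset_mul (mul_mem (inv_mem (h.norm hg)) (h.norm hx.1)) (h.norm hg)]
      exact coset_mem_cent1 ht' hc)
  have h3 := (coset_commute_iff (h.norm hg) ht').1 (mem_cent1.1 h2)
  refine mem_cent1.2 (commutatorElement_eq_one_iff_mul_comm.1 (eq_one_of_odd_of_sq
    (odd_of_mem (odd_O N) h3) ?_))
  have h4 : Commute ⁅g, t⁆ t := mem_cent1.1 (le_cent1_iff.2 (h.cent ht) h3)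
  have h5 := conj_sq t2 g
  rwa [show g * t * g⁻¹ = ⁅g, t⁆ * t by rw [commutatorElement_def]; group,
    h4.symm.mul_mul_mul_comm, t2, mul_one] at h5

theorem copZ (ht : t ∈ L) (t1 : t ≠ 1) (t2 : t * t = 1) :
    (♯(KK L t)).Coprime ♯(L ⊓ O N : Subgroup G) := by
  refine Nat.coprime_of_dvd fun p hp hd e => ?_
  have := Fact.mk hp
  have tN := h.normal.le ht
  obtain ⟨z, hz, hzp⟩ := cauchy hp e
  obtain ⟨x, hx, hxp⟩ := cauchy hp hd
  obtain ⟨P, hP⟩ := exists_syl p (L ⊓ 𝐂[t])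
  have hx1 : x ≠ 1 := fun e => hp.one_lt.ne (by rw [← hxp, e, orderOf_one])
  have hxo := odd_of_mem (odd_KK L t) hx
  have hab := h.ab tN t1 t2
  have h1 := h.dh.le_O t1 t2 inf_le_right hP.le (odd_of_isPGroup (fun e => by
    rw [hxp, e] at hxo; exact absurd hxo (by decide)) hP.isPGroup)
  have hxL := KK_le' L t hx
  have h2 : x ∈ P := hP.mem_of_mem_norm hxL (le_norm_of_ab hab h1 (KK_le L t hx))
    (by rw [PiElt, hxp]; exact (isPiNum_prime hp).2 rfl)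
  have h3 : Syl p P L := IsSylowIn.of_syl_norm (hP.le.trans inf_le_left) (hP.mono (le_inf
    (hP.le.trans inf_le_left) (le_norm_self P)) fun g hg => ⟨hg.1, h.mem_cent ht t1 t2 hxL hxo
      (fun e => hx1 (mem_bot.1 (h.KK_inf tN t1 t2 ▸ (⟨e, hx⟩ : x ∈ O N ⊓ KK L t)))) hg.1
      (hP.le (conj_mem_of_norm' hg.2 h2)).2⟩)
  have h4 := eq_one_of_mem_Zc (ab_of_le hab h1) ⟨hz.1, le_cent_symm h.cent hz.2⟩
    (h.perfect.ge hz.1) (hzp ▸ (Nat.Prime.coprime_iff_not_dvd hp).2 h3.not_dvd)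
  exact hp.one_lt.ne (by rw [← hzp, h4, orderOf_one])

theorem yb (co : CO.{u}) [hp : Fact p.Prime] (ht : t ∈ L) (he : e ∈ L) (q : F4 t e) (h2 : p ≠ 2)
    (hd : ¬ p ∣ ♯(L ⊓ O N : Subgroup G)) (hv : v ∈ L ⊓ 𝐂[t]) (hvp : orderOf v = p) :
    {b | b ∈ L ∧ orderOf b = p ∧ Odd ♯(zpowers v ⊔ zpowers b)}.ncard ≤ (p - 1) * (8 * kI L t e + 3) := by
  have k1 : ∀ b ∈ L, orderOf b = p → orderOf (coset (O N) b) = p := fun b hb e =>
    orderOf_eq_prime (by rw [← coset_pow (h.norm hb), ← e, pow_orderOf_eq_one, coset_one]) fun e' =>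
      hd (e ▸ OO.orderOf_dvd_card (⟨hb, (coset_eq_one_iff (h.norm hb)).1 e'⟩ : b ∈ L ⊓ O N))
  refine (Set.ncard_le_ncard_of_injOn (coset (O N)) ?_ ?_).trans (((cp_of_pg h.pg (h.dh.coset _) co
    (O_quo N)).yb _ (coset_mem_quo _ ht) _ (coset_mem_quo _ he) (h.f4 q (h.normal.le ht)
      (h.normal.le he)) p hp.out h2 (by simpa [O_quo] using hp.out.one_lt.ne') _ ⟨coset_mem_quo _ hv.1,
        coset_mem_cent1 (h.norm ht) hv.2⟩ (k1 v hv.1 hvp)).trans (Nat.mul_le_mul_left _ ?_))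
  · rintro b ⟨b1, b2, b3⟩
    refine ⟨coset_mem_quo _ b1, k1 b b1 b2, ?_⟩
    rw [← quo_zpowers (h.norm hv.1), ← quo_zpowers (h.norm b1),
      ← quo_sup (zpowers_le.2 (h.norm hv.1)) (zpowers_le.2 (h.norm b1))]
    exact odd_quo b3 _
  · rintro b ⟨b1, b2, -⟩ c ⟨c1, c2, -⟩ e
    have h3 := (coset_eq_iff (h.norm b1) (h.norm c1)).1 e
    have h4 : Commute b⁻¹ c := by
      have := (show Commute (b⁻¹ * c) b from mem_cent1.1 (le_cent1_iff.2 (h.cent b1) h3)).symm.inv_left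
      simpa using ((Commute.refl b).inv_left.mul_right this)
    refine inv_mul_eq_one.1 (by_contra fun e' => hd ?_)
    rw [← orderOf_eq_prime (p := p) (by rw [h4.mul_pow, inv_pow, ← b2, pow_orderOf_eq_one, b2, ← c2,
      pow_orderOf_eq_one, inv_one, one_mul]) e']
    exact OO.orderOf_dvd_card (⟨L.mul_mem (inv_mem b1) c1, h3⟩ : _ ∈ L ⊓ O N)
  · have h4 := Nat.le_of_dvd (relIndex_pos _ _) ((relIndex_dvd_of_le_left _ ((quo_mono _
      inf_le_right).trans (quo_cent1_le (h.norm he)))).trans (relIndex_quo_dvd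
        (inf_le_left : L ⊓ 𝐂[t] ⊓ 𝐂[e] ≤ _) (inf_le_left.trans h.norm)))
    rw [inf_relIndex_left, h.quo_cent (h.normal.le ht) q.t2] at h4
    exact Nat.add_le_add_right (Nat.mul_le_mul_left _ h4) _

theorem cp (co : CO.{u}) : Cp N L where
  normal := h.normal
  cent := h.cent
  perfect := h.perfect
  oc := oc_of_perfect h.dh h.perfect
  ex _ := ex_of_perfect h.dh h.perfect
  rot _ ht _ he q := h.dh.exists_rot (oc_of_perfect h.dh h.perfect) q ht he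
  com u hu v hv u2 v2 uL vL := by
    have := h.pg.com _ (coset_mem_quo _ hu) _ (coset_mem_quo _ hv) (coset_sq (O_norm N hu) u2)
      (coset_sq (O_norm N hv) v2) (mt (mem_of_coset h.cent (odd_O N) (O_norm N hu) u2) uL)
      (mt (mem_of_coset h.cent (odd_O N) (O_norm N hv) v2) vL)
    rwa [← coset_mul (O_norm N hu) (O_norm N hv), ← quo_sup_self h.norm,
      coset_mem_quo_iff (O_norm N (mul_mem hu hv)) le_sup_right] at this
  cyc _ := h.cyc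
  inv _ hu _ hv q := eq_bot_iff.2 fun x hx => h.KK_inf hu q.t1 q.t2 ▸ (⟨h.memO q hu hv
    ⟨KK_le' _ _ hx.1, hx.2⟩ (odd_of_mem (odd_KK _ _) hx.1), hx.1⟩ : x ∈ O N ⊓ KK L _)
  sup _ := h.le_sup
  comm _ hu _ hv := h.comm hu hv
  comm' _ _ _ := h.comm'
  copZ _ := h.copZ
  cop t ht u hu uL q := by
    have tN := h.normal.le ht
    have q' := h.f4 q tN hu
    have k := (cp_of_pg h.pg (h.dh.coset _) co (O_quo N)).cop _ (coset_mem_quo _ ht) _
      (coset_mem_quo _ hu) (mt (mem_of_coset h.cent (odd_O N) (O_norm N hu) q.e2) uL) q'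
    rw [KK_eq h.pg (h.dh.coset _) (coset_mem_quo _ tN) q'.t1 q'.t2, KK_eq h.pg (h.dh.coset _)
      (coset_mem_quo _ hu) q'.e1 q'.e2, ← h.card_KK tN q.t1 q.t2, ← h.card_KK hu q.e1 q.e2,
      ← h.quo_KK hu q.e1 q.e2] at k
    exact ⟨k.1, fun e => k.2.1 (quo_eq_bot (e.le.trans bot_le)), k.2.2⟩
  oddV t ht u hu q Q hQ ho hS := by
    have hV := (S4_le.2 ⟨ht, hu⟩).trans (O_norm N)
    obtain ⟨v, hv, v1, k⟩ := exists_le_cent h.pg (h.f4 q ht hu) (coset_mem_quo _ ht)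
      (coset_mem_quo _ hu) (quo_mono _ hQ) (odd_quo ho _)
      (S4_quo (O_norm N ht) (O_norm N hu) ▸ quo_le_norm _ hS)
    rw [← S4_quo (O_norm N ht) (O_norm N hu), mem_quo_of_le hV] at hv
    obtain ⟨v, hv, rfl⟩ := hv
    refine ⟨v, hv, fun e => v1 (by rw [e, coset_one]), ?_⟩
    rwa [← quo_le_cent_iff (hQ.trans h.norm) (zpowers_le.2 (hV hv)), quo_zpowers (hV hv), cent_zpowers]
  psl t ht e he q p hp h2 w hw := by
    have := Fact.mk hp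
    have tN := h.normal.le ht
    have h3 := quo_Op_le p _ (O N) (coset_mem_quo _ hw.1)
    rw [quo_cent1_of_odd (O_norm N) (odd_O N) tN q.t2] at h3
    exact (coset_eq_one_iff (O_norm N (Op_le _ _ hw.1).1)).1 (mem_bot.1 (psl h.pg (h.dh.coset _) co
      (coset_mem_quo _ ht) (coset_mem_quo _ he) (h.f4 q tN he) h2 ▸
        mem_inf.2 ⟨h3, coset_mem_cent1 (O_norm N he) hw.2⟩))
  memO _ ht _ he q _ := h.memO q (h.normal.le ht) (h.normal.le he)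
  yb _ ht _ he q _ hp h2 hd _ := h.yb (hp := ⟨hp⟩) co ht he q h2 hd

end Lf

theorem exists_cp (hD : DH G) (co : CO.{u}) (ht : In N t) (hc : O N ≤ 𝐂[t])
    {Lb : Subgroup (Coset (O N))} (h : PG (N ⁒ O N) Lb) : ∃ L, Cp N L ∧ t ∈ L ∧ L ⁒ O N = Lb := by
  have hO : O N ⊴ N := Opi_normal _ N
  have h1 := mem_of_in h (hD.coset _) (in_quo ht hO.norm (odd_O N))
  obtain ⟨L₀, k1, k2, rfl⟩ := exists_quo_eq_normal hO h.normal
  obtain ⟨L, hL⟩ : ∃ L, L = L₀ ⊓ (N ⊓ 𝐂(O N)) := ⟨_, rfl⟩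
  have k3 : L ⊴ N := hL ▸ k2.inf hO.cent
  have k4 : L ≤ 𝐂(O N) := hL.le.trans (inf_le_right.trans inf_le_right)
  have k5 : L ⁒ O N = L₀ ⁒ O N := (h.good.smp _ ((k3.mono (hL.le.trans inf_le_left) k2.le).quo
    _)).resolve_left (quo_ne_bot (k3.le.trans hO.norm) fun e' => not_mem_of_odd (odd_O N) ht.t1 ht.t2
      (e' (hL ▸ ⟨(coset_mem_quo_iff (hO.norm ht.mem) k1).1 h1, ht.mem, le_cent1_iff.1 hc⟩)))
  have k6 : der L ⁒ O N = L₀ ⁒ O N := by rw [quo_der (k3.le.trans hO.norm), k5, h.good.perfect]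
  have k7 : der (der L) = der L := by
    have := (quo_le_quo_iff_le_sup (k3.le.trans hO.norm) (k3.der.le.trans hO.norm)).1 (k5.trans k6.symm).le
    have e1 : IsCprod (der L) (O N ⊓ L) L := ⟨by
      rw [← sup_inf_of_le_left (.inl (k3.der.le.trans hO.norm)) (der_le L), inf_eq_right.2 this],
      inf_le_left.trans (le_cent_symm ((der_le L).trans k4))⟩
    have e2 := e1.der_eq
    rw [ab_iff_der.1 (ab_iff_le_cent.2 (inf_le_right.trans (k4.trans (cent_anti inf_le_left)))),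
      sup_bot_eq] at e2
    exact e2.symm
  exact ⟨der L, Lf.cp ⟨hD, k3.der, (der_le L).trans k4, k7, k6 ▸ h⟩ co, mem_of_coset
    ((der_le L).trans k4) (odd_O N) (hO.norm ht.mem) ht.t2 (k6 ▸ h1), k6⟩

end Cfsg.Agent.GW2.Cq
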