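import Cfsg.Agent.Lib.GW2.IIB3

/-!
# The bad case does not occur
-/

set_option autoImplicit false
set_option linter.unusedSectionVars false

namespace Cfsg.Agent.GW2

open Subgroup Cfsg.Agent.OO Cfsg.Agent.Coprime GW
open scoped commutatorElement Pointwise

universe u

theorem ib_arith {I n g m k q : ℕ} (h1 : I * n = g * m) (h2 : 16 * g ≤ 45 * (m * k) ^ 2)
    (h3 : 21 * k ^ 2 ≤ 16 * n) (h4 : 2 * (q + 1) ≤ k) (h5 : 2 ≤ q) (h6 : m ≤ (q + 1) * (q + 1 + 1))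
    (h7 : q * n * (q * n - q * (4 * k + 3)) ≤ I) : False := by
  obtain ⟨d, rfl⟩ : ∃ d, n = 4 * k + 3 + d := ⟨n - (4 * k + 3), by
    have : 4 * k + 3 ≤ n := by nlinarith
    omega⟩
  rw [← Nat.mul_sub, Nat.add_sub_cancel_left] at h7
  obtain ⟨n, hn⟩ : ∃ n, n = 4 * k + 3 + d := ⟨_, rfl⟩
  rw [← hn] at h1 h3 h7
  have h8 : k ^ 2 * (21 * (q ^ 2 * n * d)) ≤ k ^ 2 * (45 * m ^ 3) := by
    have e1 : 16 * (q * n * (q * d) * n) ≤ 45 * (m * k) ^ 2 * m :=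
      (Nat.mul_le_mul_left 16 ((Nat.mul_le_mul_right n h7).trans h1.le)).trans
        (mul_assoc 16 g m ▸ Nat.mul_le_mul_right m h2)
    have e2 := Nat.mul_le_mul_left (q ^ 2 * n * d) h3
    nlinarith
  have h9 := Nat.le_of_mul_le_mul_left h8 (pow_pos (by omega) 2)
  obtain ⟨j, rfl⟩ := Nat.exists_eq_add_of_le h5
  have h10 : 21 * (2 * (2 + j + 1)) ^ 2 ≤ 16 * n := le_trans (by gcongr) h3
  have h11 : 84 * j ^ 2 + 376 * j + 324 ≤ 16 * d := by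
    obtain ⟨i, rfl⟩ := Nat.exists_eq_add_of_le h4
    nlinarith
  have h12 : m ^ 3 ≤ ((2 + j + 1) * (2 + j + 1 + 1)) ^ 3 := by gcongr
  have h13 := Nat.mul_le_mul (Nat.mul_le_mul_left ((2 + j) ^ 2) h10) h11
  have h14 : (2 + j + 1) ^ 2 * (1764 * (2 + j) ^ 2 * (84 * j ^ 2 + 376 * j + 324)) ≤
      (2 + j + 1) ^ 2 * (11520 * (2 + j + 1) * (2 + j + 1 + 1) ^ 3) := by nlinarith
  have h15 := Nat.le_of_mul_le_mul_left h14 (by positivity)
  ring_nf at h15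
  omega

variable {G : Type u} [Group G] [Finite G] {A D E J K P Q R L N T X : Subgroup G}
  {a b c d e f g s t u v w x y z ρ : G} {p r : ℕ}

namespace Ib

variable (h : Ib a s t e p N L)
include h

theorem exists_frame : ∃ b, Mn b e t ∧ S4 b e ≤ L := by
  obtain ⟨T, hT, h1⟩ := exists_syl_ge (le_inf (S4_le.2 ⟨h.tN, h.eN⟩) h.f4.le_cent) h.f4.two
  obtain ⟨b, k, h3⟩ := h.mn.ib_frame h.f4 hT.isPGroup (hT.le.trans inf_le_right) h1
  have h4 : T = S4 b e := eq_of_nil_of_inf_norm_le (nil_of_isPGroup k.cf.two) h3 fun g hg => by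
    have gH := k.cf.le_cent hg.1
    have q := h.f4.conj_cent gH
    have h5 := h.inf_inner (h.mem_L (hT.le (conj_mem_of_norm hg.2 (h1 (s_mem_S4 t e)))).1 q) q
    refine hT.mem_of_mem_norm ⟨h.norm.le (conj_eq_self_iff.1 ?_), gH⟩ hg.2
      ((piGrp_singleton k.cf.two).piElt hg.1)
    rw [conj_inf, conj_eq_of_mem_norm ((ib_Op_normal p t).norm gH), ← cent1_conj, ← h5]
  exact ⟨b, k, S4_le.2 ⟨(mul_mem_cancel_right h.eL).1 (h.mem_L (hT.le (h4.ge (mul_mem (t_mem_S4 b e)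
    (s_mem_S4 b e)))).1 k.cf.f4'), h.eL⟩⟩

theorem oc : OC N := by
  obtain ⟨b, k, h1⟩ := h.exists_frame
  refine h.cp.oc.mono_of h.cp.le fun i hi i2 => ?_
  obtain ⟨g, hg, h2⟩ := (k.cf.mono (h1.trans h.cp.le) le_top).syl.exists_conj_le (zpowers_le.2 hi)
    (ZG.two_elt i2)
  exact (mem_norm_iff.1 (h.cp.normal.norm hg) i).2 (h1 (h2 (conj_mem_conj (mem_zpowers i))))

theorem cent_four (hc : c ∈ N) (hd : d ∈ N) (q : F4 c d) : 𝐂(S4 c d) ≤ N := by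
  obtain ⟨g, hg, e'⟩ := h.oc c hc t h.tN q.t1 q.t2 h.mn.t1 h.mn.t2
  have q' := e' ▸ q.conj g
  rw [← conj_le_conj_iff (g := g), conj_eq_of_mem hg, ← cent_conj, conj_S4, cent_S4, e']
  exact h.cent_le' (h.mem_L (mul_mem (mul_mem hg hd) (inv_mem hg)) q') q'

theorem comm_mem (hf : f ∈ L) (q : F4 t f) (hρ : ρ ∈ L) (k : Rot t f ρ) (hx : x ∈ O 𝐂[t] ⊓ 𝐂[f]) :
    ⁅x, ρ⁆ ∈ L ⊓ O N := by
  have h2 : O 𝐂[t] ⊓ 𝐂[f] ≤ 𝐂[t] ⊓ 𝐂[f] := inf_le_inf_right _ (Opi_le _ _)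
  have h3 : ⁅x, ρ⁆ ∈ L := commutator_le_right' ((h.cent_le' hf q).trans h.cp.normal.norm)
    (commutator_mem_commutator (h2 hx) hρ)
  have h5 : ⁅x, ρ⁆ ∈ O 𝐂[t] ⊓ 𝐂[f] := by
    rw [commutatorElement_def, mul_assoc, mul_assoc, ← mul_assoc ρ]
    exact mul_mem hx (conj_mem_of_norm (h.mn.dh.mem_norm_B q k.mem_norm) (inv_mem hx))
  exact ⟨h3, h.cp.memO t h.tL f hf q _ ⟨⟨h3, (h2 h5).1⟩, h5.2⟩ (odd_of_mem (odd_O _) h5.1)⟩

theorem O_eq (k : Mn b e t) (h0 : S4 b e ≤ L) :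
    ⁅O 𝐂[t], zpowers e⁆ ⊔ ⁅O 𝐂[t], zpowers (b * e)⁆ ⊔ L ⊓ O N = O 𝐂[t] := by
  have fL := h0 (mul_mem (t_mem_S4 b e) (s_mem_S4 b e))
  obtain ⟨ρ, hρ, r⟩ := h.cp.rot t h.tL e h.eL h.f4
  obtain ⟨ρ', hρ', r'⟩ := h.cp.rot t h.tL _ fL k.cf.f4'
  have h1 := O_norm _ h.f4.e_mem
  refine h.mn.ca G b e t ρ ρ' _ h.mn.simple k.cf r r' ⟨sup_le (sup_le (commutator_le_left'
    (zpowers_le.2 h1)) (commutator_le_left' (zpowers_le.2 (O_norm _ k.cf.f4'.e_mem))))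
    (h.mn.le_U (inf_le_right.trans (h.cp.O_le_cent h.tL)) (odd_of_le (odd_O N) inf_le_right)), ?_⟩
    (le_sup_of_le_left le_sup_left) (le_sup_of_le_left le_sup_right)
    (fun x hx => mem_sup_right (h.comm_mem h.eL h.f4 hρ r hx))
    fun x hx => mem_sup_right (h.comm_mem fL k.cf.f4' hρ' r' hx)
  refine (sup_zp h.f4.e2 h1 (odd_O _)).ge.trans (sup_le (le_norm_of_le (le_sup_of_le_left le_sup_left))
    (le_norm_sup (inf_le_left.trans (le_norm_sup (le_norm_commutator_left _ _)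
      (le_norm_commutator_left _ _))) (((inf_le_inf_right _ (Opi_le _ _)).trans h.cent_le).trans
        (le_norm_inf h.cp.normal.norm (O_norm N)))))

theorem Op_le_commutator (k : Mn b e t) (h0 : S4 b e ≤ L) :
    Op p (O 𝐂[t]) ≤ ⁅O 𝐂[t], zpowers e⁆ ⊔ ⁅O 𝐂[t], zpowers (b * e)⁆ := by
  have := Fact.mk h.prime
  have h1 := le_norm_sup (le_norm_commutator_left (O 𝐂[t]) (zpowers e))
    (le_norm_commutator_left _ (zpowers (b * e)))
  refine (Op_piGrp p _).le_of_relIndex (Op_le _ _) h1 ?_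
  nth_rewrite 3 [← h.O_eq k h0]
  rw [relIndex_sup_eq' (.inr ((le_sup_right.trans (h.O_eq k h0).le).trans h1))]
  exact ((piGrp_compl_singleton h.prime).2 h.not_dvd_Z).relIndex _

theorem exists_ix : ∃ E, Ix a s t e p N L E := by
  have hp := Fact.mk h.prime
  obtain ⟨b, k, h0⟩ := h.exists_frame
  have fL := h0 (mul_mem (t_mem_S4 b e) (s_mem_S4 b e))
  obtain ⟨E, h1, ⟨h2, h3⟩, h4⟩ := Core.exists_minimal_le (P := fun E => E ⊴ 𝐂[t] ∧ E ⊓ 𝐂[e] ≠ ⊥)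
    ⟨ib_Op_normal p t, h.ne_bot⟩
  have hE := (Op_isPGroup p _).to_le h1
  have h5 : der E ⊓ 𝐂[e] = ⊥ := by_contra fun e' => (der_lt (sol_of_isPGroup hE)
    fun e' => h3 (by rw [e', bot_inf_eq])).ne (h4 _ ⟨h2.der, e'⟩ (der_le E))
  have h7 : der E ⊓ 𝐂[b * e] = ⊥ := eq_bot_iff.2 (h5 ▸ le_inf inf_le_left ((inf_le_inf_right _
    ((der_le E).trans h1)).trans ((h.inf_inner fL k.cf.f4').ge.trans inf_le_right)))
  have h8 := (Opi_le _ _ : O 𝐂[t] ≤ _).trans h2.der.norm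
  have h6 := (h1.trans (h.Op_le_commutator k h0)).trans (sup_le
    (commutator_le_cent h.f4.e2 h8 (h2.der.norm h.f4.e_mem) h5)
    (commutator_le_cent k.cf.f4'.e2 h8 (h2.der.norm k.cf.f4'.e_mem) h7))
  refine ⟨E, { h with
    hr := fun f q e' => h.not_cent h.prime (h.cp.le fL) k.cf.f4' h.P_ne
      ((OO.Zc_le _).trans (h.mem_cent_of_refl k q e'))
    ex := ⟨h2, h1, h3, h5, h6, fun x hx => (exponent_odd_nil23 hE (ib_odd h1)
      (.inl ((nilpotencyClass_le_two_iff (nil_of_isPGroup hE)).2 (le_inf (der_le E)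
        (le_cent_symm h6))))).1 x ((h4 _ ⟨h2.Ohm p, ?_⟩ (Ohm_le p E)).ge hx)⟩ }⟩
  rw [inf_comm]
  exact inf_Ohm_ne_bot hE (by rwa [inf_comm])

end Ib

namespace Ix

variable [hp : Fact p.Prime] (h : Ix a s t e p N L E)
include h

theorem der_le_inf : der E ≤ L ⊓ 𝐂[t] := h.der_le_K.trans (KK_le' L t)

theorem ncard_A : (classSupp (sharp (der E)) L).ncard = (p - 1) * nI L t := by
  rw [(normedTI_sharp_of_inf_conj (L := 𝐂[t] ⊓ L) h.der_ne inf_le_right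
    (inf_le_left.trans h.ex.normal.der.norm) fun g hg e' => ⟨(h.norm_H h.ex.normal.der h.der_ne).le
      (conj_eq_self_iff.1 (eq_of_le_of_card_le (le_of_prime_of_inf_ne_bot (h.card_der ▸ hp.out) e')
        (card_conj g _).le).symm), hg⟩).ncard_classSupp, ncard_sharp, h.card_der, inf_relIndex_right]

theorem le_kI (q : F4 t f) : p ≤ kI N t f := by
  have h1 := card_inf_mul_relIndex 𝐂[f] (der E)
  rw [inf_comm, h.der_inf q, card_bot, one_mul, h.card_der] at h1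
  exact h1.ge.trans (relIndex_le_of_le_right (h.der_le_inf.trans (inf_le_inf_right _ h.cp.le))
    (relIndex_pos _ _).ne')

variable (hx : x ∈ classSupp (sharp (der E)) L)
include hx

theorem mem_A : x ∈ L ∧ orderOf x = p := by
  obtain ⟨v, hv, l, hl, rfl⟩ := mem_classSupp_iff.1 hx
  exact ⟨mul_mem (mul_mem hl (h.der_le_inf hv.1).1) (inv_mem hl), by
    rw [orderOf_conj, orderOf_eq_prime (h.ex.pow v (der_le E hv.1)) hv.2]⟩

theorem exists_conj_A (hw : w ∈ E ⊓ 𝐂[e]) (h1 : w ≠ 1) : ∃ g ∈ 𝐂[x], g * w * g⁻¹ = w * x := by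
  obtain ⟨v, hv, l, hl, rfl⟩ := mem_classSupp_iff.1 hx
  obtain ⟨g, hg, h2⟩ := h.exists_conj hw h1 hv.1
  have h3 := mem_cent1_iff_conj.1 (h.L_le hw hl)
  refine ⟨l * g * l⁻¹, cent1_conj l v ▸ conj_mem_conj (cent_le_cent1 hv.1 (h.ex.cent hg)), ?_⟩
  calc _ = l * g * l⁻¹ * (l * w * l⁻¹) * (l * g * l⁻¹)⁻¹ := by rw [h3]
    _ = l * (g * w * g⁻¹) * l⁻¹ := by group
    _ = _ := by rw [h2, ← conj_mul, h3]

theorem eq_of_cent_A (hy : y ∈ classSupp (sharp (der E)) L) (hxy : y ∈ 𝐂[x]) (hc : c ∈ 𝐂[x⁻¹ * y])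
    (hd : d ∈ 𝐂[x⁻¹ * y]) (q : F4 c d) : x = y := by
  obtain ⟨v, hv, l, hl, rfl⟩ := mem_classSupp_iff.1 hx
  obtain ⟨b1, b2⟩ := h.mem_A (classSupp_conj_mem hy (inv_mem hl))
  rw [cent1_conj, mem_conj, ← inv_inv l, inv_inv l⁻¹] at hxy
  have h1 := h.cp.le_KK_of_dvd h.mn.dh h.tL h.mn.t1 h.mn.t2 (h.dvd_K hp.out h.P_ne)
    (zpowers_le.2 ⟨b1, h.cent_le_H hv.1 hv.2 hxy⟩) (isEp_zpowers b1 b2).isPGroup
  have h2 : l⁻¹ * y * l⁻¹⁻¹ ∈ der E := by
    rw [(isEp_one_iff.2 ⟨h.der_le_K, h.card_der⟩).eq_Ohm_of_isCyclic h.cyc]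
    exact mem_Ohm (h1 (mem_zpowers _)) (b2 ▸ pow_orderOf_eq_one _)
  have h3 : (l * v * l⁻¹)⁻¹ * y = l * (v⁻¹ * (l⁻¹ * y * l⁻¹⁻¹)) * l⁻¹ := by group
  by_contra h4
  have k := fun c (hc : c ∈ 𝐂[(l * v * l⁻¹)⁻¹ * y]) (c1 : c ≠ 1) c2 => h.eq_of_cent
    (mul_mem (inv_mem hv.1) h2) (fun e' => h4 (inv_mul_eq_one.1 (by
      rw [h3, e']; simp))) (by rwa [h3, cent1_conj, mem_conj, ← inv_inv l, inv_inv l⁻¹] at hc)
      (conj_ne_one.2 c1) (conj_sq c2 l⁻¹)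
  exact q.ne (by simpa using (k c hc q.t1 q.t2).trans (k d hd q.e1 q.e2).symm)

theorem ncard_odd_le (hf : f ∈ L) (q : F4 t f) :
    {y | y ∈ classSupp (sharp (der E)) L ∧ ¬ ¬ Odd ♯(zpowers x ⊔ zpowers y)}.ncard ≤
      (p - 1) * (8 * kI N t f + 3) := by
  have h1 := h.mem_A hx
  obtain ⟨v, hv, l, hl, rfl⟩ := mem_classSupp_iff.1 hx
  have h2 := h.cp.yb _ (mul_mem (mul_mem hl h.tL) (inv_mem hl)) _ (mul_mem (mul_mem hl hf) (inv_mem hl))
    (q.conj l) p hp.out h.ne_two h.not_dvd_Z _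
    ⟨h1.1, cent1_conj l t ▸ conj_mem_conj (h.der_le_inf hv.1).2⟩ h1.2
  rw [kI, cent1_conj, cent1_conj, ← conj_eq_of_mem hl, ← conj_inf, relIndex_conj,
    conj_eq_of_mem hl] at h2
  have h3 : (𝐂[f]).relIndex (L ⊓ 𝐂[t]) ≤ kI N t f :=
    relIndex_le_of_le_right (inf_le_inf_right _ h.cp.le) (relIndex_pos _ _).ne'
  refine le_trans (Set.ncard_le_ncard fun b hb => ?_) (h2.trans (by gcongr))
  exact ⟨(h.mem_A hb.1).1, (h.mem_A hb.1).2, not_not.1 hb.2⟩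

omit hx in
theorem false : False := by
  obtain ⟨b0, k, hS⟩ := h.exists_frame
  have fL := hS (mul_mem (t_mem_S4 b0 e) (s_mem_S4 b0 e))
  obtain ⟨w, hw, w1⟩ := exists_mem_ne_one h.ex.ne_bot
  have hD := eq_zpowers_of_prime (h.card_inf ▸ hp.out) hw w1
  have hN : 𝐍(zpowers w) = N := hD ▸ h.ex_norm
  have hwo : orderOf w = p := by rw [← Nat.card_zpowers, hD, h.card_inf]
  have hL := h.L_le hw
  have hwN := Opi_le _ _ (h.ex_le_O hw)
  have hwL : w ∉ L := fun e' => h.not_dvd_Z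
    (hwo ▸ OO.orderOf_dvd_card (⟨e', h.ex_le_O hw⟩ : w ∈ L ⊓ O N))
  have ho := hp.out.odd_of_ne_two h.ne_two
  choose! g hg hg' using fun a ha => h.exists_conj_A (x := a) ha hw w1
  have k1 : ∀ a ∈ classSupp (sharp (der E)) L, zpowers (w * a) ⊓ L = ⊥ := fun a ha =>
    inf_eq_bot_of_prime (by rw [Nat.card_zpowers, ← hg' a ha, orderOf_conj, hwo]; exact hp.out)
      fun e' => hwL ((L.mul_mem_cancel_right (h.mem_A ha).1).1 (e' (mem_zpowers _)))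
  have k2 : ∀ a ∈ classSupp (sharp (der E)) L, ∀ b ∈ classSupp (sharp (der E)) L,
      (g a * g b) •ᶜ zpowers w ≤ 𝐂[w * a] := fun a ha b hb => by
    rw [← hg' a ha, cent1_conj, ← conj_conj, conj_zpowers (g b), hg' b hb]
    exact conj_mono _ (zpowers_le.2 (mul_mem (mem_cent1_self w) (hL (h.mem_A hb).1)))
  have h1 := card_pairs (classSupp (sharp (der E)) L) _ ((p - 1) * (4 * (kI N t e + kI N t (b0 * e)) + 3))
    (fun a b => ((g a * g b : G) : G ⧸ N)) (fun a ha => (le_total (kI N t e) (kI N t (b0 * e))).elim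
      (fun e' => (h.ncard_odd_le ha h.eL h.f4).trans (Nat.mul_le_mul_left _ (by omega)))
      fun e' => (h.ncard_odd_le ha fL k.cf.f4').trans (Nat.mul_le_mul_left _ (by omega)))
    fun a ha b hb a' ha' b' hb' h1 h2 => by
    have h3 : (g a * g b) •ᶜ zpowers w = (g a' * g b') •ᶜ zpowers w := by
      rw [conj_eq_iff_eq_inv_conj, conj_conj, conj_eq_of_mem_norm (hN.ge (QuotientGroup.eq.1 h2))]
    obtain ⟨a1, a2⟩ := h.mem_A ha
    obtain ⟨b1, b2⟩ := h.mem_A hb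
    obtain rfl : a = a' := by
      have h4 : g a * (w * a⁻¹) * (g a)⁻¹ = w := by
        rw [← conj_mul, hg' a ha, mem_cent1_iff_conj.1 (mem_cent1_comm.1 (inv_mem
          (mem_cent1_comm.1 (hg a ha)))), mul_inv_cancel_right]
      have h5 := mul_mem (inv_mem a1) (h.mem_A ha').1
      have h6 : g a •ᶜ (zpowers (w * a⁻¹) ⊔ zpowers (w * b)) ≤ 𝐂[a⁻¹ * a'] := by
        rw [conj_sup, conj_zpowers, h4, ← hg' b hb, ← conj_zpowers, conj_conj]
        refine sup_le (zpowers_le.2 (mem_cent1_comm.1 (hL h5))) (le_cent1_iff.2 ?_)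
        rw [show a⁻¹ * a' = (w * a)⁻¹ * (w * a') by group]
        exact mul_mem (inv_mem (le_cent1_iff.1 (k2 a ha b hb))) (le_cent1_iff.1 (h3 ▸ k2 a' ha' b' hb'))
      obtain ⟨c, hc, d, hd, q⟩ := h.mn.dh.ib_f4_of_even (x := w * a⁻¹) (y := w * b)
        (by rwa [← orderOf_conj (g a), h4, hwo]) (by rwa [← hg' b hb, orderOf_conj, hwo]) fun e' => h1 (by
          have h7 : zpowers w ≤ 𝐂(zpowers (w * a⁻¹) ⊔ zpowers (w * b)) := le_cent_symm (cent_zpowers w ▸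
            sup_le (zpowers_le.2 (mul_mem (mem_cent1_self w) (inv_mem (hL a1))))
              (zpowers_le.2 (mul_mem (mem_cent1_self w) (hL b1))))
          have h8 : w ∈ zpowers (w * a⁻¹) ⊔ zpowers (w * b) ⊔ zpowers w := mem_sup_right (mem_zpowers w)
          refine odd_of_le (Odd.of_dvd_nat (e'.mul (by rwa [Nat.card_zpowers, hwo]))
            (card_sup_dvd (.inr (le_norm_of_le_cent h7)))) (sup_le (zpowers_le.2 ?_) (zpowers_le.2 ?_))
          · exact inv_mem_iff.1 ((mul_mem_cancel_left h8).1 (mem_sup_left (mem_sup_left (mem_zpowers _))))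
          · exact (mul_mem_cancel_left h8).1 (mem_sup_left (mem_sup_right (mem_zpowers _))))
      have h7 := sup_le (zpowers_le.2 (mul_mem hwN (inv_mem (h.cp.le a1))))
        (zpowers_le.2 (mul_mem hwN (h.cp.le b1)))
      have h8 := (conj_mono (g a) (S4_le.2 ⟨hc, hd⟩)).trans h6
      have h9 : a⁻¹ * a' ∈ 𝐍(zpowers (w * a)) := by
        rw [← hg' a ha, ← conj_zpowers, norm_conj, hN]
        refine conj_mono _ (h.cent_four (h7 hc) (h7 hd) q) ?_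
        rw [← cent_conj]
        exact le_cent1_iff.1 h8
      have h10 : ⁅a⁻¹ * a', w * a⁆ = ⁅a⁻¹ * a', a⁆ := by
        rw [← mem_cent1.1 (hL a1), commutatorElement_def, commutatorElement_def]
        nth_rewrite 2 [← mem_cent1_iff_conj.1 (mem_cent1_comm.1 (hL (inv_mem h5)))]
        group
      have h11 : a⁻¹ * a' ∈ 𝐂[a] := mem_cent1.2 (commutatorElement_eq_one_iff_commute.1
        (mem_bot.1 ((k1 a ha).le ⟨h10 ▸ commutator_le_right' (zpowers_le.2 h9)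
          (commutator_mem_commutator (mem_zpowers _) (mem_zpowers _)), commutator_le_left'
            (le_norm_self L) (commutator_mem_commutator h5 a1)⟩)))
      exact h.eq_of_cent_A ha ha' ((mul_mem_cancel_left (inv_mem (mem_cent1_self a))).1 h11)
        (h8 (conj_mem_conj (t_mem_S4 c d))) (h8 (conj_mem_conj (s_mem_S4 c d))) (q.conj (g a))
    rw [← conj_conj, ← conj_conj, conj_inj, conj_zpowers, conj_zpowers, hg' b hb, hg' b' hb'] at h3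
    refine ⟨rfl, inv_mul_eq_one.1 (mem_bot.1 ((k1 b hb).le (mem_inf.2 ⟨?_,
      mul_mem (inv_mem b1) (h.mem_A hb').1⟩)))⟩
    rw [show b⁻¹ * b' = (w * b)⁻¹ * (w * b') by group]
    exact mul_mem (inv_mem (mem_zpowers _)) (h3 ▸ mem_zpowers _)
  have h2 := relIndex_mul_nI (le_top : N ≤ ⊤) t
  have h3 := (k.cf.bounds k.co k.oc).2
  have h4 := ((k.cf.mono (hS.trans h.cp.le) le_top).bounds k.co h.oc).1
  have h5 := h.relIndex_le
  have h6 := Nat.add_le_add (h.le_kI h.f4) (h.le_kI k.cf.f4')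
  have h7 : 3 ≤ p := (hp.out.two_le.lt_of_ne h.ne_two.symm)
  have h8 : nI N t = nI L t := relIndex_eq_of_isProd (h.cp.isProd h.tL h.mn.t1 h.mn.t2) inf_le_right
  rw [kI_eq (le_top : N ≤ ⊤) (by rw [top_inf_eq]; exact h.cent_le), kI_eq (le_top : N ≤ ⊤)
    (by rw [top_inf_eq]; exact h.cent_le' fL k.cf.f4'), top_inf_eq, ← mul_add] at h3
  rw [top_inf_eq, relIndex_top_right] at h2
  rw [h.ncard_A, ← h8] at h1
  obtain ⟨q, rfl⟩ : ∃ q, p = q + 1 := ⟨p - 1, by omega⟩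
  exact ib_arith h2 h3 h4 (by omega) (by omega) h5 h1

end Ix

theorem iib (iie : IIE.{u}) (iia : IIA.{u}) : IIB.{u} := fun _ _ _ _ _ _ _ _ _ _ h => by
  have := Fact.mk h.prime
  obtain ⟨E, k⟩ := Ib.exists_ix ⟨h, iie, iia⟩
  exact k.false

end Cfsg.Agent.GW2
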