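import Cfsg.Agent.Lib.GW2.G0

/-!
# Package IIC: reflections centralize or invert the Sylow subgroups of `F(O(C(t)))`
-/

set_option autoImplicit false
set_option linter.unusedSectionVars false

namespace Cfsg.Agent.GW2

open Subgroup Cfsg.Agent.OO Cfsg.Agent.Coprime Cfsg.Agent.Sig GW
open scoped commutatorElement Pointwise

universe u

namespace Ic

variable {G : Type u} [Group G] [Finite G] {A I K Q : Subgroup G} {a b c f g s t u v w x y z ρ : G}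
  {p q r : ℕ}

set_option hygiene false in
local notation "𝓤" => O 𝐂[t]
set_option hygiene false in
local notation "𝓕" => Fit (O 𝐂[t])

/-- the hypothesis of the package -/
structure Hy (a s t : G) : Prop where
  mn : Mn a s t
  max : IsCoatom 𝐂[t]
  alt : ∀ u, F4 t u → ∀ p : ℕ, p.Prime → Op p 𝓤 ⊓ 𝐂[u] = ⊥ ∨ Op p 𝓤 ≤ 𝐂[u]

theorem nrm (t : G) (p : ℕ) : Op p 𝓤 ⊴ 𝐂[t] := (Opi_normal _ _).Op p

theorem nrmF (t : G) : 𝓕 ⊴ 𝐂[t] := (Opi_normal _ _).Fit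

theorem oddF (t : G) : Odd ♯(𝓕) := odd_of_le (odd_O _) (Fit_le _)

theorem oddP (t : G) (p : ℕ) : Odd ♯(Op p 𝓤) := odd_of_le (odd_O _) (Op_le _ _)

theorem Fit_inf_le (h : ∀ q : ℕ, q.Prime → Op q 𝓤 ⊓ 𝐂[u] ≤ K) : 𝓕 ⊓ 𝐂[u] ≤ K :=
  (Fit_eq_self (nil_of_le (Fit_nil _) inf_le_left)).ge.trans (Fit_le_of_forall fun q hq =>
    (le_inf (Op_Fit q 𝓤 ▸ le_Op_of_nil (Fit_nil _) ((Op_le _ _).trans inf_le_left) (Op_isPGroup _ _))
      ((Op_le _ _).trans inf_le_right)).trans (h q hq.out))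

theorem ne_two [Fact p.Prime] (h : Op p 𝓤 ≠ ⊥) : p ≠ 2 := fun e =>
  h (by rw [e, Op_eq_bot (odd_O _).not_two_dvd_nat])

namespace Hy

variable (h : Hy a s t)
include h

theorem swap : Hy a (a * s) t := ⟨h.mn.swap, h.max, h.alt⟩

theorem conj (g : G) : Hy (g * a * g⁻¹) (g * s * g⁻¹) (g * t * g⁻¹) := by
  refine ⟨h.mn.conj g, cent1_conj g t ▸ isCoatom_conj h.max g, fun u p q hq => ?_⟩
  obtain ⟨u, rfl⟩ : ∃ v, u = g * v * g⁻¹ := ⟨g⁻¹ * u * g, by group⟩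
  rw [cent1_conj, cent1_conj, O, Op', ← Opi, Opi_conj, Op_conj, ← conj_inf, conj_eq_bot_iff,
    conj_le_conj_iff]
  exact h.alt u (by simpa [mul_assoc] using p.conj g⁻¹) q hq

theorem norm_eq (hQ : Q ⊴ 𝐂[t]) (h0 : Q ≠ ⊥) : 𝐍(Q) = 𝐂[t] := h.mn.smp.norm_eq h.max hQ h0

theorem comm_le (p : F4 t u) : ⁅𝓤, zpowers u⁆ ≤ 𝓕 :=
  (le_inf (commutator_le_left' (zpowers_le.2 (O_norm _ p.e_mem))) (le_cent_Fit_of_forall fun q hq =>
    (h.alt u p q hq.out).elim (commutator_le_cent p.e2 (Op_normal _ _).norm ((nrm t q).norm p.e_mem))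
      fun e => (commutator_mono le_rfl (zpowers_le.2 (le_cent1_iff.1 e))).trans
        (commutator_le_right' (le_norm_cent (Op_normal _ _).norm)))).trans
    (cent_sub_Fitting (sol_of_odd (odd_O _)))

/-- no reflection centralizes `F` -/
theorem nc (h0 : 𝓤 ≠ ⊥) (p : F4 t v) : ¬ 𝓕 ≤ 𝐂[v] := fun e => by
  obtain ⟨ρ, r⟩ := h.mn.exists_rot p
  have h1 := h.mn.dh.mem_norm_B p r.mem_norm
  rw [inf_eq_left.2 (le_cent_of_comm p.e2 (O_norm _ p.e_mem) (odd_O _) ((h.comm_le p).trans e)),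
    h.norm_eq (Opi_normal _ _) h0] at h1
  exact r.not_mem p h1

theorem two_ne : Op 2 𝐂[t] ≠ ⊥ := fun e => h.mn.t1 (mem_bot.1 (e ▸ OO.le_Op
  ⟨zpowers_le.2 (mem_cent1_self t), le_norm_of_le_cent (cent_zpowers t).ge⟩
  (ZG.two_elt h.mn.t2) (mem_zpowers t)))

theorem ni [hp : Fact p.Prime] (hP : Op p 𝓤 ≠ ⊥) (hs : Op p 𝓤 ≤ 𝐂[s]) (h0 : I ≠ ⊥) (hI : I ≤ 𝓕)
    (hF : 𝓕 ≤ 𝐍(I)) (hS : S4 a s ≤ 𝐍(I)) : 𝐍(I) ≤ 𝐂[t] := by
  by_contra h1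
  have hFH := (nrmF t).le
  have t1 := h.mn.t1
  have t2 := h.mn.t2
  have f4 := h.mn.cf.f4
  have nc := fun v => h.nc (v := v) fun e => hP (eq_bot_iff.2 (e ▸ Op_le _ _))
  obtain ⟨N, hN, h2⟩ := h.mn.smp.exists_coatom h0 fun e =>
    h.mn.cent_ne_top (top_le_iff.1 (e ▸ hI.trans hFH))
  have k := h.mn.cf.mono (hS.trans h2) le_top
  have hFN := hF.trans h2
  have ha : Arr 𝐂[t] N := arr_of_le (hI.trans (Fit_le_of_normal (Opi_normal _ _)))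
    ((le_norm_self _).trans h2) (inf_le_right.trans ((cent_le_norm _).trans h2))
  have hπ : ∀ (q : ℕ) [Fact q.Prime], Op q N ≠ ⊥ → Op q 𝐂[t] ≠ ⊥ := fun q _ e0 e => by
    have ho := odd_of_isPGroup (fun e' : q = 2 => h.two_ne (e' ▸ e)) (Op_isPGroup q N)
    have h3 := Op_inf_eq_bot ha (fs_of_sol (sol_of_le h.mn.sol inf_le_left)) e
    have k1 : ∀ w, F4 t w → Op q N ⊓ 𝐂[w] ≤ ⊥ := fun w p' => by
      obtain ⟨g, rfl⟩ := h.mn.exists_conj p'.e1 p'.e2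
      have h4 := odd_of_le ho (inf_le_left : Op q N ⊓ 𝐂[g * t * g⁻¹] ≤ _)
      have h5 := (commutator_eq_of_inf_eq_bot t2 (mem_norm_inf ((Op_normal q N).norm k.t_mem)
        (le_norm_self _ p'.t_mem)) h4 (eq_bot_iff.2 (h3 ▸ inf_le_inf_right _ inf_le_left))).ge.trans
        ((commutator_mono ((h.mn.conj g).le_U inf_le_right h4) le_rfl).trans ((h.conj g).comm_le p'.symm))
      refine (le_Op_of_nil (Fit_nil _) h5 ((Op_isPGroup q N).to_le inf_le_left)).trans ?_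
      rw [Op_Fit]
      refine (Op_le_of_normal q (Opi_normal _ _)).trans ?_
      rw [cent1_conj, Op_conj, e, conj_bot]
    exact e0 (eq_bot_iff.2 (f4.le_of_forall ((k.four_le.trans k.le).trans (Op_normal q N).norm) ho h3.le
      (k1 s f4) (k1 _ f4.mul)))
  have h5 : Fit N ≤ 𝐂[t] := Fit_le_of_forall fun q hq => by
    by_cases e : Op q N = ⊥
    · exact e.le.trans bot_le
    by_cases e' : q = 2
    · exact h.mn.smp.Op_le_of_arr h.max ha (e' ▸ ne_two hP) (hπ q e)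
        fun e => hP (eq_bot_iff.2 (e ▸ Op_le_of_normal p (Opi_normal _ _)))
    · exact h.mn.smp.Op_le_of_arr h.max ha (Ne.symm e') (hπ q e) h.two_ne
  have h6 : O N ≤ 𝐂[t] := le_cent1_iff.2 (coprime_cent_Fitting (zpowers_le.2 (O_norm _ k.t_mem))
    (coprime_zp (odd_O _) t2) (sol_of_odd (odd_O _)) ⟨mem_zpowers t, le_cent1_iff.1
      ((Fit_le_of_normal (Opi_normal _ _)).trans h5)⟩)
  rcases h.mn.kf.k4 N hN.1 t k.isIn h6 with e | ⟨v, -, q, e⟩ | e | ⟨L, e, tL⟩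
  · exact h1 (h2.trans e)
  · exact nc v q fun x hx => q.mem_cent_of_odd (e (hFN hx)) (hFH hx) (odd_of_mem (oddF t) hx)
  · obtain ⟨v, hv, q, e'⟩ := e.ex
    exact nc v q ((h.mn.dh.le_O t1 t2 inf_le_right (le_inf hFN hFH) (oddF t)).trans
      (le_cent_of_comm q.e2 (O_norm _ ⟨hv, q.e_mem⟩) (odd_O _) (e'.trans (le_cent1_iff.2
        (e.oc.mem_of_norm (le_norm_cent (O_norm N)) k.t_mem (le_cent1_iff.1 h6) t1 t2 hv q.e2)))))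
  · exact e.not_le_cent tL t1 t2 (e.cent.trans ((cent_anti ((le_inf (OO.le_Op ((nrm t p).mono (le_inf
      ((Op_le_Fit p _).trans hFN) (nrm t p).le) inf_le_right) (Op_isPGroup _ _)) hs).trans
      (e.psl t tL s k.s_mem f4 p hp.out (ne_two hP)))).trans
      ((cent_le_norm _).trans (h.norm_eq (nrm t p) hP).le)))

theorem cent_le [hp : Fact p.Prime] (hP : Op p 𝓤 ≠ ⊥) (hs : Op p 𝓤 ≤ 𝐂[s]) [hr : Fact r.Prime]
    (p' : F4 t u) (hu : Op r 𝓤 ⊓ 𝐂[u] = ⊥) (hz : z ∈ Op r 𝓤) (z1 : z ≠ 1) : 𝐂[z] ≤ 𝐂[t] := by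
  have k : ∀ v, F4 t v → v ∈ 𝐍(zpowers z) := fun v q => ZG.mem_norm_zp
    ((h.alt v q r hr.out).elim (fun e => conj_eq_inv q.e2 ((nrm t r).norm q.e_mem) e hz ▸
      inv_mem (mem_zpowers z)) fun e => (mem_cent1_iff_conj.1 (mem_cent1_comm.1 (e hz))).symm ▸
      mem_zpowers z)
  refine (cent_zpowers z).ge.trans ((cent_le_norm _).trans (h.ni hP hs (mt zpowers_eq_bot.1 z1)
    (zpowers_le.2 (Op_le_Fit r _ hz)) (le_norm_of_le_cent ((Fit_le_of_forall fun q _ => ?_).trans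
      (cent_anti (zpowers_le.2 hz)))) (S4_le.2 ⟨?_, k s h.mn.cf.f4⟩)))
  · by_cases e : q = r
    · exact e ▸ (ab_of_inf_eq_bot p'.e2 ((nrm t r).norm p'.e_mem) hu).le_cent
    · exact Op_le_cent_Op e _
  · simpa using mul_mem (k _ h.mn.cf.f4') (inv_mem (k s h.mn.cf.f4))

theorem lt [hp : Fact p.Prime] (hP : Op p 𝓤 ≠ ⊥) (hs : Op p 𝓤 ≤ 𝐂[s]) (p' : F4 t u)
    (hu : Op p 𝓤 ⊓ 𝐂[u] = ⊥) (hQ : Op q 𝓤 ≠ ⊥) (hq : Op q 𝓤 ⊓ 𝐂[s] = ⊥) :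
    ♯(Op p 𝓤) < ♯(Op q 𝓤) := by
  obtain ⟨ρ, r⟩ := h.mn.exists_rot h.mn.cf.f4
  have h1 := conj_le_of_mem_norm (h.mn.dh.mem_norm_B h.mn.cf.f4 r.mem_norm) (le_inf (Op_le _ _) hs)
  have h2 := regular_norm_dvd_pred (K := Op q 𝓤) ((h1.trans inf_le_left).trans (Op_normal _ _).norm)
    (semiregular_iff.2 fun x hx x1 y hy e => mem_bot.1 (hq.le ⟨hy, ?_⟩))
  · have := one_lt_card hQ
    have := Nat.le_of_dvd (by omega) h2
    rw [card_conj] at this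
    omega
  obtain ⟨x, rfl⟩ : ∃ v, x = ρ * v * ρ⁻¹ := ⟨ρ⁻¹ * x * ρ, by group⟩
  have := conj_mono ρ (h.cent_le hP hs p' hu (conj_mem_conj_iff.1 hx) (conj_ne_one.1 x1))
  rw [← cent1_conj, ← cent1_conj, r.ρt] at this
  exact this (mem_cent1.2 e.symm)

theorem exists_rot (p : F4 t u) (hw : w ∈ 𝐂[t]) (e : w * u * w⁻¹ = t * u) (hB : w ∈ 𝐂(𝓤 ⊓ 𝐂[u])) :
    ∃ ρ ∈ 𝐂(𝓤 ⊓ 𝐂[u]), Rot t u ρ := by
  obtain ⟨ρ, r⟩ := h.mn.exists_rot p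
  exact r.exists_mem p (norm_le_norm_cent _ (h.mn.dh.mem_norm_B p r.mem_norm)) hB hw e

theorem Op_inf (p : F4 t u) (r : Rot t u ρ) (hρ : ρ ∈ 𝐂(𝓤 ⊓ 𝐂[u])) (hq : q.Prime) :
    Op q 𝓤 ⊓ 𝐂[u] = ⊥ := (h.alt u p q hq).elim id fun e => by_contra fun e' => r.not_mem p
  ((h.norm_eq (nrm t q) fun e'' => e' (by rw [e'', bot_inf_eq])).le
    (cent_le_norm _ (cent_anti (le_inf (Op_le _ _) e) hρ)))

theorem caseA (hc : c ∈ zpowers a) (e : c * c = t) (hF : c ∈ 𝐂(𝓕)) : 𝓤 ⊓ 𝐂[s] = ⊥ := by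
  have k := h.mn.cf
  have cS := zpowers_le.2 (t_mem_S4 a s) hc
  have hU : c ∈ 𝐂(𝓤) := coprime_cent_Fitting (zpowers_le.2 (O_norm _ (k.le_cent cS)))
    (coprime_of_isPGroup (ZG.two_zp k.two cS) (Op'_piGrp 2 _)).symm (sol_of_odd (odd_O _))
    ⟨mem_zpowers c, hF⟩
  obtain ⟨ρ₁, h1, r1⟩ := h.exists_rot k.f4 (k.le_cent cS) (k.conj_of_sq hc e (s_mem_S4 _ _) k.sa)
    (cent_anti inf_le_left hU)
  obtain ⟨ρ₂, h2, r2⟩ := h.exists_rot k.f4' (k.le_cent cS) (k.conj_of_sq hc e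
    (mul_mem (t_mem_S4 _ _) (s_mem_S4 _ _)) k.as_not) (cent_anti inf_le_left hU)
  have c1 : ∀ {B : Subgroup G} {ρ : G}, ρ ∈ 𝐂(B) → ∀ b ∈ B, ⁅b, ρ⁆ ∈ 𝓕 := fun hρ b hb => by
    rw [commutatorElement_eq_one_iff_mul_comm.2 (mem_cent_iff.1 hρ b hb)]
    exact one_mem _
  rw [← h.mn.ca G a s t ρ₁ ρ₂ 𝓕 h.mn.simple k r1 r2 (Fit_normal _) (h.comm_le k.f4) (h.comm_le k.f4')
    (c1 h1) (c1 h2)]
  exact eq_bot_iff.2 (Fit_inf_le fun q hq => (h.Op_inf k.f4 r1 h1 hq).le)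

theorem le_cent (q : F4 t f) (r : Rot t f ρ) (hF : 𝓕 ⊓ 𝐂[f] = ⊥) (hz : ∀ z ∈ 𝓕, z ≠ 1 → 𝐂[z] ≤ 𝐂[t])
    (ho : Odd ♯A) (ht : t ∈ 𝐍(A)) (hρ : ρ ∈ 𝐍(A)) : A ≤ 𝐂[t] := by
  induction hn : ♯A using Nat.strong_induction_on generalizing A with
  | _ n ih =>
  by_cases h0 : A = ⊥
  · exact h0.le.trans bot_le
  have h1 := ih _ (hn ▸ card_lt (der_lt (sol_of_odd ho) h0)) (odd_of_le ho (der_le _))
    (norm_le_norm_der _ ht) (norm_le_norm_der _ hρ) rfl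
  have hV := r.le_of_mem (le_norm_self _ hρ) ht
  have h2 : A ⊓ 𝐂[t] ≤ 𝐂[f] := fun u hu => by
    refine mem_cent1.2 (commutatorElement_eq_one_iff_mul_comm.1 (by_contra fun y1 => ?_))
    have h3 := commutator_le_left' (zpowers_le.2 (S4_le.1 hV).2)
      (commutator_mem_commutator hu.1 (mem_zpowers f))
    have h4 := h.comm_le q (commutator_mem_commutator (h.mn.mem_U.2 ⟨hu.2, odd_of_mem ho hu.1⟩)
      (mem_zpowers f))
    generalize ⁅u, f⁆ = y at *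
    have h5 := mem_cent1_iff_conj.1 (mem_cent1_comm.1 ((nrmF t).le h4))
    have h6 : t * (ρ * y * ρ⁻¹) * t⁻¹ = (ρ * y * ρ⁻¹)⁻¹ := by
      rw [← r.ρte q, show ∀ x : G, ρ * x * ρ⁻¹ * (ρ * y * ρ⁻¹) * (ρ * x * ρ⁻¹)⁻¹ =
        ρ * (x * y * x⁻¹) * ρ⁻¹ from fun x => by group, mul_cj t,
        conj_eq_inv q.e2 ((nrmF t).norm q.e_mem) hF h4, ← conj_inv, h5, conj_inv]
    have h7 := conj_mem_of_norm hρ h3
    have h8 := conj_ne_one (g := ρ).2 y1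
    generalize ρ * y * ρ⁻¹ = x at *
    have h9 := commutator_mem_commutator h3 h7
    have h10 := eq_one_of_inv (odd_of_mem ho h7) (x := ⁅y, x⁆) (by
      nth_rewrite 1 [← mem_cent1_iff_conj.1 (mem_cent1_comm.1 (h1 h9))]
      rw [commutatorElement_def, cj_mul t, cj_mul t, cj_mul t, ← conj_inv, ← conj_inv, h5, h6]
      group) (odd_of_mem ho (der_le _ h9))
    exact h8 (ZG.eq_one_of_inv (odd_of_mem ho h7) ((mem_cent1_iff_conj.1 (mem_cent1_comm.1 (hz y h4 y1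
      (mem_cent1.2 (commutatorElement_eq_one_iff_mul_comm.1 h10).symm)))).symm.trans h6))
  have h3 : ∀ g ∈ zpowers ρ, A ⊓ 𝐂[g * t * g⁻¹] ≤ 𝐂[t] := fun g hg => by
    rw [cent1_conj, ← conj_eq_of_mem_norm (zpowers_le.2 hρ hg), ← conj_inf]
    exact (conj_le_of_mem_norm (cent_S4 t f ▸ norm_le_norm_cent _ (zpowers_le.2 r.mem_norm hg))
      (le_inf inf_le_right h2)).trans inf_le_left
  exact q.le_of_forall hV ho inf_le_right (r.ρt ▸ h3 ρ (mem_zpowers ρ))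
    (r.inv_t q ▸ h3 ρ⁻¹ (inv_mem (mem_zpowers ρ)))

theorem le_three [hp : Fact p.Prime] (hP : Op p 𝓤 ≠ ⊥) (hs : Op p 𝓤 ≤ 𝐂[s]) (q : F4 t f)
    (r : Rot t f ρ) (hF : 𝓕 ⊓ 𝐂[f] = ⊥) (hz : ∀ z ∈ 𝓕, z ≠ 1 → 𝐂[z] ≤ 𝐂[t]) (b1 : b ≠ 1)
    (h1 : t ∈ 𝐂[b]) (h2 : s ∈ 𝐂[b]) (h3 : ρ ∈ 𝐂[b]) (h4 : Op p 𝓤 ≤ 𝐂[b]) : ♯(𝓕 ⊓ 𝐂[b]) ≤ 3 := by
  have h5 := conj_mono ρ (h.le_cent q r hF hz (odd_O 𝐂[b]) (O_norm _ h1) (O_norm _ h3))
  rw [conj_eq_of_mem_norm (O_norm _ h3), ← cent1_conj, r.ρt] at h5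
  have h6 : O 𝐂[b] ⊓ 𝓕 = ⊥ := eq_bot_iff.2 (hF ▸ le_inf inf_le_right (inf_le_left.trans h5))
  have h7 := ((h.mn.kf.k3 _ (h.mn.cent1_ne_top b1) t (.of_rot q r h1 h3) s h2 h.mn.cf.f4 p hp.out
    (ne_two hP)).resolve_left fun e => hP (eq_bot_iff.2 (h6 ▸ le_inf ((le_inf (OO.le_Op
      ((nrm t p).mono (le_inf h4 (nrm t p).le) inf_le_right) (Op_isPGroup _ _)) hs).trans e)
      (Op_le_Fit p _)))).idx
  have h8 := relIndex_le_of_le_right (h.mn.dh.le_O h.mn.t1 h.mn.t2 inf_le_right (le_inf inf_le_right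
    (inf_le_left.trans (nrmF t).le)) (odd_of_le (oddF t) (inf_le_left : 𝓕 ⊓ 𝐂[b] ≤ _)))
    (h7.trans_ne (by decide))
  rwa [h7, ← inf_relIndex_right, ← inf_assoc, h6, bot_inf_eq, relIndex_bot_left] at h8

theorem caseB [hp : Fact p.Prime] (ha : a * a = t) (hP : Op p 𝓤 ≠ ⊥) (hs : Op p 𝓤 ≤ 𝐂[s])
    (hf : Op p 𝓤 ⊓ 𝐂[a * s] = ⊥) : False := by
  have k := h.mn.cf
  have f4 := k.f4
  have f4' := k.f4'
  have hU : 𝓤 ≤ 𝐂[t] := Opi_le _ _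
  have nc := h.nc (fun e => hP (eq_bot_iff.2 (e ▸ Op_le _ _))) f4
  have h1 : 𝓕 ⊓ 𝐂[a * s] ≤ 𝐂[s] := Fit_inf_le fun r hr => (h.alt _ f4' r hr).elim
    (fun e => e.le.trans bot_le) fun e => inf_le_left.trans ((h.alt _ f4 r hr).elim (fun e' => by
      have := Fact.mk hr
      exact by_contra fun e'' => (h.lt hP hs f4' hf (fun e => e'' (e.le.trans bot_le)) e').not_gt
        (h.swap.lt (fun e => e'' (e.le.trans bot_le)) e f4 e' hP hf)) id)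
  have sw : s * (a * s) * s⁻¹ = t * (a * s) := by
    rw [show s * (a * s) * s⁻¹ = s * a * s⁻¹ * s by group, k.inv, ← mul_assoc,
      inv_eq_of_mul_eq_one_left (show t * a * a = 1 by rw [mul_assoc, ha, k.t2])]
  have sn := h.mn.dh.mem_norm_B f4' (ZG.mem_norm_S4 (g := s)
    (by rw [mem_cent1_iff_conj.1 f4.e_mem]; exact t_mem_S4 _ _)
    (by rw [sw]; exact mul_mem (t_mem_S4 _ _) (s_mem_S4 _ _)))
  have h2 : 𝓤 ⊓ 𝐂[a * s] ≤ 𝐂[s] := le_cent_of_comm k.s2 sn (odd_of_le (odd_O _) inf_le_left)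
    ((le_inf ((commutator_mono inf_le_left le_rfl).trans (h.comm_le f4))
      ((commutator_le_left' (zpowers_le.2 sn)).trans inf_le_right)).trans h1)
  obtain ⟨ρ₂, h3, r2⟩ := h.exists_rot f4' f4.e_mem sw (le_cent1_iff.1 h2)
  have h4 := fun r => h.Op_inf (q := r) f4' r2 h3
  have hF : 𝓕 ⊓ 𝐂[a * s] = ⊥ := eq_bot_iff.2 (Fit_inf_le fun r hr => (h4 r hr).le)
  have hab := (ab_of_inf_eq_bot f4'.e2 ((nrmF t).norm f4'.e_mem) hF).le_cent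
  have hz : ∀ z ∈ 𝓕, z ≠ 1 → 𝐂[z] ≤ 𝐂[t] := fun z hz z1 => by
    obtain ⟨y, hy, y1⟩ := exists_prime_order_mem (mt zpowers_eq_bot.1 z1)
    have := Fact.mk y1
    exact (cent_zpowers z).ge.trans ((cent_le_cent1 hy).trans (h.cent_le hP hs f4' (h4 _ y1)
      (Op_Fit (orderOf y) 𝓤 ▸ le_Op_of_nil (Fit_nil _) (zpowers_le.2 (zpowers_le.2 hz hy))
        (Core.isPGroup_zpowers_of_orderOf (p := orderOf y) (k := 1) (pow_one _).symm) (mem_zpowers y))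
      fun e => y1.ne_one (by rw [e, orderOf_one])))
  have sd : IsSdprod 𝓕 (𝓤 ⊓ 𝐂[a * s]) 𝓤 := .of_normal (Fit_normal _) inf_le_left
    ((sup_zp f4'.e2 (O_norm _ f4'.e_mem) (odd_O _)).ge.trans (sup_le_sup_right (h.comm_le f4') _))
    (eq_bot_iff.2 (hF ▸ inf_le_inf_left _ inf_le_right))
  have key : ∀ b ∈ 𝓤 ⊓ 𝐂[a * s], b ≠ 1 → Op p 𝓤 ≤ 𝐂[b] → Op p 𝓤 = 𝓕 ⊓ 𝐂[b] ∧ ♯(Op p 𝓤) = 3 :=
    fun b hb b1 e => by
      have e1 := h.le_three hP hs f4' r2 hF hz b1 (mem_cent1_comm.1 (hU hb.1)) (mem_cent1_comm.1 (h2 hb))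
        (cent_le_cent1 hb h3) e
      have e2 := card_le (le_inf (Op_le_Fit p _) e)
      have e3 := one_lt_card hP
      have e4 := Nat.odd_iff.1 (oddP t p)
      exact ⟨eq_of_le_of_card_le (le_inf (Op_le_Fit p _) e) (by omega), by omega⟩
  obtain ⟨ρ, r⟩ := h.mn.exists_rot f4
  have h5 := conj_le_of_mem_norm (h.mn.dh.mem_norm_B f4 r.mem_norm) (le_inf (Op_le _ _) hs)
  have h6 : 𝓕 ⊓ ρ •ᶜ Op p 𝓤 = ⊥ := eq_bot_iff.2 fun x hx => by_contra fun x1 => by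
    obtain ⟨x, rfl⟩ : ∃ v, x = ρ * v * ρ⁻¹ := ⟨ρ⁻¹ * x * ρ, by group⟩
    have := conj_mono ρ (hz x (Op_le_Fit p _ (conj_mem_conj_iff.1 hx.2)) (conj_ne_one.1 x1))
    rw [← cent1_conj, ← cent1_conj, r.ρt] at this
    exact nc ((hab.trans (cent_le_cent1 hx.1)).trans this)
  have h7 : ρ •ᶜ Op p 𝓤 ≤ 𝐂(𝓕 ⊓ 𝐂[s]) := le_cent_of_inf_eq_bot (h5.trans (le_norm_inf
    (inf_le_left.trans (Fit_normal _).norm) (le_norm_of_le inf_le_right))) (inf_le_right.trans (by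
      rw [← r.ρt, cent1_conj, conj_le_norm_conj]; exact (nrm t p).norm))
    (eq_bot_iff.2 (h6 ▸ le_inf (inf_le_right.trans inf_le_left) inf_le_left))
  obtain ⟨x, hx, x1⟩ := exists_mem_ne_one (mt conj_eq_bot_iff.1 hP : ρ •ᶜ Op p 𝓤 ≠ ⊥)
  obtain ⟨y, hy, b, hb, rfl⟩ := sd.mem_iff.1 (h5 hx).1
  have h8 : 𝓕 ⊓ 𝐂[s] ≤ 𝐂[b] := le_cent1_iff.2
    ((mul_mem_cancel_left (cent_anti inf_le_left (hab hy))).1 (h7 hx))
  have h9 := le_inf (Op_le_Fit p _) hs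
  obtain ⟨e1, e3⟩ := key b hb (fun e => x1 (mem_bot.1 (h6.le ⟨by rwa [e, mul_one], hx⟩))) (h9.trans h8)
  replace e1 : Op p 𝓤 = 𝓕 ⊓ 𝐂[s] := le_antisymm h9 ((le_inf inf_le_left h8).trans e1.ge)
  have c1 := (sd.inf_of_right_le h2).card
  have c2 : ∀ u, F4 t u → ♯(𝓤 ⊓ 𝐂[u]) * 4 * kI ⊤ t u = ♯(𝐂[t]) := fun u q => by
    rw [kI, top_inf_eq, ← h.mn.dh.O_inf k.t1 k.t2 le_rfl, ← q.card,
      ((h.mn.dh.pair_cent q).sdprod_of_cent inf_le_left).card, ← inf_relIndex_right, inf_comm,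
      card_mul_relIndex inf_le_right]
  obtain ⟨A, C, D, num, -⟩ := h.mn.co G ⊤ a s t k h.mn.oc
  have c3 := (num.a15 (relIndex_pos _ _) (Nat.eq_of_mul_eq_mul_left (Nat.mul_pos (card_pos'
    (𝓤 ⊓ 𝐂[a * s])) four_pos) (by rw [c2 _ f4', ← c2 _ f4, ← c1, ← e1, e3]; ring))).2
  obtain ⟨r, hr, r1⟩ : ∃ r : ℕ, r.Prime ∧ ¬ Op r 𝓤 ≤ 𝐂[s] := by
    by_contra! e
    exact nc (Fit_le_of_forall fun r hr => e r hr.out)
  have := Fact.mk hr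
  have r2 := (h.alt s f4 r hr).resolve_right r1
  have r0 : Op r 𝓤 ≠ ⊥ := fun e => r1 (e.le.trans bot_le)
  have r4 : ¬ r ∣ 2 := fun e => ne_two r0 ((Nat.prime_dvd_prime_iff_eq hr Nat.prime_two).1 e)
  have r3 : ¬ r ∣ ♯(𝓤 ⊓ 𝐂[a * s]) := fun e => by
    obtain ⟨b, hb, e⟩ := cauchy hr e
    have b1 : b ≠ 1 := fun e' => hr.ne_one (by rw [← e, e', orderOf_one])
    have b2 : ♯(zpowers b) = r := (Nat.card_zpowers b).trans e
    have h10 : Op p 𝓤 ≤ 𝐂[b] := le_of_prime_of_inf_ne_bot (e3 ▸ Nat.prime_three) fun e' => r4 (by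
      have := regular_norm_dvd_pred (zpowers_le.2 ((Op_normal p 𝓤).norm hb.1))
        (semiregular_iff.2 fun x hx x1 y hy e'' => mem_bot.1 (e'.le ⟨hy, cent_zpowers b ▸ cent_anti
          (le_of_prime_of_inf_ne_bot (b2 ▸ hr) (K := zpowers x) fun e => x1 (mem_bot.1
            (e.le ⟨hx, mem_zpowers x⟩))) (cent_zpowers x ▸ mem_cent1.2 e''.symm)⟩))
      rwa [b2, e3] at this)
    refine inf_cent_ne_bot_of_isPGroup (Core.isPGroup_zpowers_of_orderOf (k := 1)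
      (e.trans (pow_one _).symm)) (Op_isPGroup r 𝓤) (zpowers_le.2 ((Op_normal _ _).norm hb.1)) r0
      (eq_bot_iff.2 (r2 ▸ le_inf inf_le_left ?_))
    rw [cent_zpowers]
    exact ((inf_le_inf_right _ (Op_le_Fit r _)).trans
      (key b hb b1 h10).1.ge).trans hs
  have r5 : Syl r (Op r 𝓤) 𝐂[t] := ⟨(nrm t r).le, Op_isPGroup _ _, by
    rw [← relIndex_mul_relIndex _ _ _ (Op_le_Fit r _) (nrmF t).le,
      ← relIndex_mul_relIndex _ _ _ (Fit_le _) hU, sd.relIndex_left, h.mn.sdprod.relIndex_left,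
      hr.dvd_mul, hr.dvd_mul, not_or, not_or]
    obtain ⟨n, e⟩ := k.two.exists_card_eq
    exact ⟨(syl_Op_Fit r _).not_dvd, r3, e ▸ mt hr.dvd_of_dvd_pow r4⟩⟩
  have r6 := (IsSylowIn.of_syl_norm le_top (by rw [top_inf_eq, h.norm_eq (nrm t r) r0]; exact r5)).not_dvd
  have r7 : r ∣ kI ⊤ t s := by
    refine (hr.dvd_mul.1 (c2 s f4 ▸ r5.dvd_card_iff.1 (dvd_card_of_isPGroup (Op_isPGroup _ _) r0))).resolve_left
      fun e => (hr.dvd_mul.1 e).elim (fun e => ?_) fun e => r4 (hr.dvd_of_dvd_pow (n := 2) e)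
    exact (r5.inf_of_normal_syl (nrm t r).norm (inf_le_left.trans hU)).ne_bot e
      (eq_bot_iff.2 (r2 ▸ inf_le_inf_left _ inf_le_right))
  exact r6 (((hr.dvd_mul.1 (c3 ▸ (dvd_pow r7 two_ne_zero).mul_left 105)).resolve_left fun e =>
    r4 (hr.dvd_of_dvd_pow (n := 2) e)).trans (relIndex_dvd_of_le_left _ (nrm t r).le))

end Hy

end Ic

open Ic in
theorem iic : IIC.{u} := fun G _ _ a s t h1 h2 h3 => by
  have h : Hy a s t := ⟨h1, h2, h3⟩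
  have k := h1.cf
  by_cases e : a ∈ 𝐂(Fit (O 𝐂[t]))
  · obtain ⟨c, hc, e'⟩ := k.exists_sq
    exact h.caseA hc e' (zpowers_le.2 e hc)
  have k1 : ∀ p : ℕ, p.Prime → a ∈ 𝐂(Op p (O 𝐂[t])) ∨ (∀ x ∈ Op p (O 𝐂[t]), a * x * a⁻¹ = x⁻¹) ∧
      (a * a = t → Op p (O 𝐂[t]) = ⊥) := fun p hp => by
    have := Fact.mk hp
    have i := fun u (q : F4 t u) e x => conj_eq_inv (x := x) q.e2 ((nrm t p).norm q.e_mem) e
    have j := fun (u : G) (e : Op p (O 𝐂[t]) ≤ 𝐂[u]) x (hx : x ∈ Op p (O 𝐂[t])) =>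
      mem_cent1_iff_conj.1 (mem_cent1_comm.1 (e hx))
    have e : ∀ x, a * x * a⁻¹ = a * s * (s * x * s⁻¹) * (a * s)⁻¹ := fun x => by
      rw [← mul_cj, mul_assoc a s s, k.s2, mul_one]
    rcases h3 s k.f4 p hp with e1 | e1 <;> rcases h3 _ k.f4' p hp with e2 | e2
    · exact .inl (mem_cent_iff_conj.2 fun x hx => by
        rw [e, i s k.f4 e1 x hx, i _ k.f4' e2 _ (inv_mem hx), inv_inv])
    · exact .inr ⟨fun x hx => by rw [e, i s k.f4 e1 x hx, j _ e2 _ (inv_mem hx)], fun e3 =>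
        by_contra fun e4 => h.swap.caseB e3 e4 e2 (by
          rw [← mul_assoc, e3, k.f4.inf_cent_mul (nrm t p).le, e1])⟩
    · exact .inr ⟨fun x hx => by rw [e, j _ e1 x hx, i _ k.f4' e2 _ hx], fun e3 =>
        by_contra fun e4 => h.caseB e3 e4 e1 e2⟩
    · exact .inl (mem_cent_iff_conj.2 fun x hx => by rw [e, j _ e1 x hx, j _ e2 _ hx])
  by_cases e' : a * a = t
  · exact absurd (zpowers_le.1 (le_cent_Fit_of_forall fun p hp => zpowers_le.2 ((k1 p hp.out).elim id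
      fun e => by rw [e.2 e', cent_bot]; trivial))) e
  have h4 : a * a ∈ zpowers a := mul_mem (mem_zpowers a) (mem_zpowers a)
  obtain ⟨c, hc, e1⟩ := Cf.exists_sq (X := S4 (a * a) s) (a := a * a) (s := s) (t := t)
    ⟨t_mem_S4 _ _, s_mem_S4 _ _, syl_self (k.two.to_le (S4_le.2 ⟨mul_mem (t_mem_S4 _ _) (t_mem_S4 _ _),
      s_mem_S4 _ _⟩)), k.s2, fun e => k.sa (zpowers_le.2 h4 e), k.inv' h4, by
        obtain ⟨_, ⟨i, rfl⟩, e⟩ := k.exists_sq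
        exact ⟨i, ((Commute.refl a).mul_zpow i).trans e⟩, k.t1, k.t2,
      fun e => e' (k.eq_t h4 k.a2 e)⟩
  refine h.caseA (zpowers_le.2 h4 hc) e1 (le_cent_Fit_of_forall (fun p hp => zpowers_le.2 ?_) hc)
  exact (k1 p hp.out).elim (fun e => mul_mem e e) fun e => mem_cent_iff_conj.2 fun x hx => by
    rw [mul_cj, e.1 x hx, e.1 _ (inv_mem hx), inv_inv]

end Cfsg.Agent.GW2
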