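import Cfsg.Agent.Lib.GW2.G0

/-!
# Simple groups with dihedral Sylow 2-subgroups: four-groups and fusion
-/

set_option autoImplicit false
set_option linter.unusedSectionVars false

namespace Cfsg.Agent.GW2

open Subgroup Cfsg.Agent.OO Cfsg.Agent.Coprime GW
open scoped commutatorElement Pointwise

universe u

variable {G : Type u} [Group G] [Finite G] {L P X : Subgroup G} {a e s t : G}

theorem DH.oc (h : DH G) (hp : der L = L) : OC L := fun a ha b hb a1 a2 b1 b2 => by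
  obtain ⟨k, hk⟩ := isConj_iff.1 ((h.subgroup L).alm.oneCl (ZG.index_ne_two_of_perfect
    (map_injective L.subtype_injective (by rw [map_der, map_subtype_top, hp]))) ⟨a, ha⟩ ⟨b, hb⟩
      (mt (congrArg Subtype.val) a1) (Subtype.ext a2) (mt (congrArg Subtype.val) b1) (Subtype.ext b2))
  exact ⟨k, k.2, congrArg Subtype.val hk⟩

theorem F4.subtype (p : F4 t e) {ht : t ∈ L} {he : e ∈ L} : F4 (⟨t, ht⟩ : L) ⟨e, he⟩ :=
  ⟨mt (congrArg Subtype.val) p.t1, mt (congrArg Subtype.val) p.e1, mt (congrArg Subtype.val) p.ne,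
    Subtype.ext p.t2, Subtype.ext p.e2, Subtype.ext p.comm.eq⟩

theorem DH.exists_f4 (h : DH G) (hP : IsPGroup 2 P) (hc : ¬ IsCyclic P) : ∃ t ∈ P, ∃ e ∈ P, F4 t e := by
  obtain ⟨a, ha, h1, h2⟩ := h P hP
  have nc : ∀ a, ∃ s ∈ P, s ∉ zpowers a := fun a => SetLike.not_le_iff_exists.1 fun e =>
    hc (isCyclic_of_le' inferInstance e)
  obtain ⟨s, hs, sa⟩ := nc a
  have a1 : a ≠ 1 := by
    rintro rfl
    obtain ⟨c, hc, cb⟩ := nc s
    have := h2 s hs c hc sa fun e => cb (by simp_all)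
    rw [zpowers_one_eq_bot, mem_bot] at this
    exact cb (eq_inv_of_mul_eq_one_right this ▸ inv_mem (mem_zpowers s))
  obtain ⟨z, hz, z1, z2⟩ := ZG.exists_invol (ZG.not_odd hP ha a1)
  have h3 := h1 _ (mul_mem (zpowers_le.2 ha hz) hs) (by rwa [mul_mem_cancel_left hz])
  refine ⟨z, zpowers_le.2 ha hz, s, hs, z1, fun e => sa (e ▸ one_mem _), fun e => sa (e ▸ hz), z2,
    h1 s hs sa, ?_⟩
  rw [Commute, SemiconjBy, ← inv_eq h3, mul_inv_rev, inv_eq z2, inv_eq (h1 s hs sa)]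

theorem smp_O (hs : Smp L) (ha : ¬ Ab L) : O L = ⊥ := (hs _ (Opi_normal _ _)).resolve_right fun e =>
  (der_lt (sol_of_odd (e ▸ odd_O L)) fun e' : L = ⊥ => ha (e' ▸ ab_bot)).ne (hs.perfect ha)

theorem DH.exists_f4' (h : DH G) (hs : Smp L) (ha : ¬ Ab L) : ∃ t ∈ L, ∃ e ∈ L, F4 t e := by
  obtain ⟨P, hP⟩ := exists_syl 2 L
  obtain ⟨t, ht, e, he, p⟩ := h.exists_f4 hP.isPGroup fun e => ha
    ((cyclic_pdiv_normal_complement hP e fun q hq _ => hq.two_le).right_eq_iff.2 (smp_O hs ha) ▸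
      ab_of_isCyclic e)
  exact ⟨t, hP.le ht, e, hP.le he, p⟩

end Cfsg.Agent.GW2
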