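import Cfsg.Agent.Lib.GW2.Bad

/-!
# Packages IIE, IIA and IE
-/

set_option autoImplicit false
set_option linter.unusedSectionVars false

namespace Cfsg.Agent.GW2

open Subgroup Cfsg.Agent.OO Cfsg.Agent.Coprime Cfsg.Agent.Sig GW
open scoped commutatorElement Pointwise

universe u

theorem iie : IIE.{u} := fun G _ _ a s t u p h hm k hp h0 h1 => by
  have := Fact.mk hp
  have hn := PU_normal p t
  obtain ⟨N, hN, h2⟩ := h.smp.exists_coatom h0 fun e => h.cent_ne_top (top_le_iff.1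
    (e ▸ inf_le_left.trans hn.le))
  have h3 : 𝐂[t] ⊓ 𝐂[u] ≤ N :=
    (le_norm_inf (inf_le_left.trans hn.norm) (le_norm_of_le inf_le_right)).trans h2
  have h4 := (le_norm_self _).trans h2
  have h5 := (cent_le_norm _).trans h2
  have ha : Arr 𝐂[t] N := arr_of_le (inf_le_left.trans ((PU_le p t).trans (Op_le_Fit p _))) h4
    (inf_le_right.trans h5)
  obtain ⟨b, kb⟩ := h.exists_mn k
  obtain ⟨c, hc, c2, c3, -⟩ := kb.cf.exists_c
  have h6 : c ∈ N := h2 (by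
    rw [← conj_eq_self_iff, ← PU_plus_conj (kb.cf.le_cent (le_sup_left (a := zpowers b) hc)), c3,
      k.inf_cent_mul hn.le])
  have hp0 : Op p (O 𝐂[t]) ≠ ⊥ := fun e => h0 (by rw [e, bot_inf_eq])
  obtain ⟨v, -, p', k'⟩ | ⟨L, k', ht⟩ := h.ba hm hN.1 (fun e => h1 (h.PU_le_cent k
    (inf_le_inf_right _ hn.le) ((Op_isPGroup p _).to_le inf_le_left) (h5.trans e))) ha
    ⟨c2 ▸ mul_mem h6 h6, h.t1, h.t2, .inl ⟨c, h6, c2⟩⟩
    (fun q hq e => have := Fact.mk hq; h.Op_ne_bot k h3 ha e) hp0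
  · exact absurd k' (h.not_refl hm (inf_le_left.trans (Op_le_Fit p _)) h0 h4 (inf_le_right.trans h5) p')
  obtain ⟨e, he, p'⟩ := k'.ex t ht h.t1 h.t2
  have h7 := (le_inf ((le_inf inf_le_left h4).trans (PU_inf_le p t N)) inf_le_right).trans
    (k'.psl t ht u (h3 ⟨k.e_mem, mem_cent1_self u⟩) k p hp (PU_ne_two hp0))
  exact ⟨e, N, L, h.mk_bad hm hN k' ht hp (fun e => h0 (eq_bot_iff.2 (e ▸ le_inf inf_le_left h7))) he p',
    h7.trans (k'.O_le_cent he)⟩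

theorem ie : IE.{u} := fun G _ _ a s t M L h hM hc k ht => by
  obtain ⟨u, hu, u2, uL⟩ : ∃ u ∈ M, u * u = 1 ∧ u ∉ L := by
    by_contra! e
    exact h.not_oc hM hc (k.oc_of e)
  obtain ⟨u, hu, uL, p⟩ := k.exists_out ht h.t1 h.t2 hu u2 uL
  obtain ⟨ρ, r⟩ := h.exists_rot p
  have key : ∀ {g w : G}, g * w * g⁻¹ = t → g •ᶜ KK L w ≤ M := fun {g w} e => le_trans (by
    rw [← e, cent1_conj]; exact conj_mono g ((KK_le' L w).trans inf_le_right)) hc
  exact k.kill' h.dh h.co ht hu uL p r (key r.inv_e) (key (by rw [← r.sq_t]; group))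
    fun _ _ _ _ => inf_le_right.trans hc

theorem iia : IIA.{u} := fun G _ _ a s t e p N L A h hA hAp ha => by
  by_contra h0
  have hp := h.fact
  obtain ⟨W, hW⟩ : ∃ W, W = Ohm p A := ⟨_, rfl⟩
  have hWn : W ⊴ 𝐂[t] := hW ▸ hA.Ohm p
  have hWe : IsElementaryAbelian p W := hW ▸ Ohm_abelem p ha
  have hWp : W ≤ Op p (O 𝐂[t]) := hW ▸ (Ohm_le p A).trans hAp
  have hWo := odd_of_le (PU_odd p t) hWp
  have h1 : W ⊓ 𝐂[e] ≠ ⊥ := by
    rw [hW, inf_comm]; exact inf_Ohm_ne_bot ((Op_isPGroup _ _).to_le hAp) (by rwa [inf_comm])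
  have h2 := (h.inf_eq hWp).le.trans inf_le_right
  have h4 := h.norm_plus hWn hWp h1
  have h5 := coprime_abelian_cent_dprod (zpowers_le.2 (hWn.norm h.f4.e_mem))
    (coprime_zp hWo h.f4.e2) (abelem_ab hWe)
  have h6 : ⁅W, zpowers e⁆ ≤ KK L t := h.comm_le_KK (hWp.trans (Op_le _ _))
    ((le_norm_of_ab (abelem_ab hWe) inf_le_left).trans h4.le)
  have k0 := fun {u} hu uL k => h.not_inv (u := u) hu uL k hWn hWp h1
  have k1 := fun E (e1 : E ≤ W ⊓ 𝐂[e]) e2 => h.inf_O (h.cp.cent.trans (cent_anti (e1.trans h2)))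
    (h.mn.cent_ne_top' e2) hWn hWp ((abelem_le_cent hWe).trans (cent_anti (e1.trans inf_le_left))) h1
  rw [cent_zpowers] at h5
  obtain ⟨D, hD⟩ : ∃ D, D = W ⊓ 𝐂[e] := ⟨_, rfl⟩
  obtain ⟨V, hV⟩ : ∃ V, V = ⁅W, zpowers e⁆ := ⟨_, rfl⟩
  rw [← hD] at h1 h2 h4 h5 k1
  rw [← hV] at h5 h6
  have h7 : V ≠ ⊥ := fun e => h.not_H_le (hWn.norm.trans (by
    rw [← h5.sup_eq, e, bot_sup_eq, h4]))
  have hVe := abelem_of_le hWe h5.left_le
  have hK := h.cp.cyc t h.tN h.mn.t1 h.mn.t2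
  have h8 : ♯V = p := by
    rw [← Ohm_eq_self hVe]
    exact (isEp_Ohm_of_isCyclic (isCyclic_of_le' hK h6)
      (dvd_card_of_isPGroup (abelem_isPGroup hVe) h7)).card_one
  have k2 : ∀ g ∈ 𝐂[t], g ∉ N → D ⊔ g •ᶜ D = W := fun g hg hgN =>
    ((covBy_of_relIndex_prime h5.right_le (by rw [h5.relIndex_right, h8]; exact hp.out)).eq_or_eq
      le_sup_left (sup_le h5.right_le (conj_le_of_mem_norm (hWn.norm hg) h5.right_le))).resolve_left
      fun e => hgN (h4.le (mem_norm_of_conj_le (le_sup_right.trans e.le)))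
  have k3 : ∀ g ∈ 𝐂[t], g ∉ N → D ⊓ g •ᶜ D = ⊥ := fun g hg hgN => by_contra fun e => by
    have e1 := congrArg (g •ᶜ ·) (k1 _ (conj_le_iff_le_inv_conj (g := g⁻¹).2 (by
      rw [inv_inv]; exact inf_le_right)) (mt conj_eq_bot_iff.1 e))
    simp only [conj_inf g W, ← O_conj, ← cent_conj, conj_inv_conj] at e1
    rw [conj_eq_of_mem_norm (hWn.norm hg), k1 _ inf_le_left e] at e1
    exact hgN (h4.le (conj_eq_self_iff.1 e1.symm))
  obtain ⟨g, hg, hgN⟩ := SetLike.not_le_iff_exists.1 h.not_H_le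
  have h9 : ♯D = p := by
    have := card_sup_of_inf_eq_bot (.inl (h5.right_le.trans (le_norm_of_ab (abelem_ab hWe)
      (le_sup_right.trans (k2 g hg hgN).le)))) (k3 g hg hgN)
    rw [k2 g hg hgN, ← h5.card, h8, card_conj] at this
    exact (Nat.eq_of_mul_eq_mul_right (card_pos' D) this).symm
  by_cases hi : ∀ i ∈ N, i * i = 1 → i ∈ L
  swap
  · obtain ⟨u, hu, uL, k⟩ := h.exists_out hi
    have a1 : D ⊓ 𝐂[u] = ⊥ := by_contra fun e => h.pgl1 hu uL k (le_inf h2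
      (le_of_prime_of_inf_ne_bot (h9 ▸ hp.out) e)) (abelem_isPGroup (abelem_of_le hWe h5.right_le))
      ((cent_le_norm D).trans h4.le)
    have a2 := coprime_abelian_cent_dprod (zpowers_le.2 (hWn.norm k.e_mem))
      (coprime_zp hWo k.e2) (abelem_ab hWe)
    have a3 : u ∈ 𝐍(V) := norm_le_norm_of_isCyclic hK h6 (h.cp.norm_KK t ⟨hu, k.e_mem⟩)
    rw [cent_zpowers] at a2
    refine k0 hu uL k (eq_bot_iff.2 (a2.inf_eq ▸ le_inf (inf_le_left.trans (h5.sup_eq.ge.trans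
      (sup_le ?_ ?_))) le_rfl))
    · exact (commutator_eq_of_inf_eq_bot k.e2 a3 (odd_of_le hWo h5.left_le) (eq_bot_iff.2
        (h.cp.inv t h.tN u hu k ▸ inf_le_inf_right _ h6))).ge.trans (commutator_mono h5.left_le le_rfl)
    · exact (commutator_eq_of_inf_eq_bot k.e2 (h4.ge hu) (odd_of_le hWo h5.right_le) a1).ge.trans
        (commutator_mono h5.right_le le_rfl)
  obtain ⟨b, b1, b2, hS⟩ := h.exists_frame hi
  have h10 : N.relIndex 𝐂[t] ≤ p := by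
    have e1 := Set.ncard_le_ncard (s := classSupp (sharp D) 𝐂[t]) (t := sharp W)
      (classSupp_subset_of_conj (sharp_subset_sharp h5.right_le)
        fun g hg b hb => conj_mem_sharp (hWn.norm hg) hb)
    rw [(normedTI_sharp_of_inf_conj (L := N ⊓ 𝐂[t]) h1 inf_le_right (inf_le_left.trans h4.ge)
      fun g hg e => ⟨by_contra fun e' => e (k3 g hg e'), hg⟩).ncard_classSupp, ncard_sharp, h9,
      inf_relIndex_right, ncard_sharp, ← h5.card, h8, h9, mul_self_tsub_one, mul_comm (p + 1)] at e1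
    have e2 := Nat.le_of_mul_le_mul_left e1 (Nat.sub_pos_of_lt hp.out.one_lt)
    have e3 : ¬ 2 ∣ N.relIndex 𝐂[t] := fun e =>
      b1.mn.cfC.syl.not_dvd (e.trans (relIndex_dvd_of_le_left _ (hS.trans h.cp.le)))
    obtain ⟨k, hk⟩ := h8 ▸ odd_of_le hWo h5.left_le
    omega
  have h11 : ∀ f ∈ N, F4 t f → N.relIndex (⊤ ⊓ 𝐂[t]) ≤ kI N t f := fun f hf k => by
    rw [top_inf_eq]
    refine h10.trans (h8.ge.trans ((card_le h6).trans ?_))
    have := relIndex_le_of_le_right (H := 𝐂[f]) ((KK_le' L t).trans (inf_le_inf_right _ h.cp.le))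
      (relIndex_pos _ _).ne'
    rwa [← inf_relIndex_right, inf_comm, h.cp.inv t h.tN f hf k, relIndex_bot_left] at this
  refine h.not_H_le ((top_inf_eq _).ge.trans (b1.mn.cf.count h.mn.co le_top (hS.trans h.cp.le)
    (h.cp.oc_of hi) (by rw [top_inf_eq]; exact h.cent_le) (by rw [top_inf_eq]; exact b2.cent_le)
    (fun g hg hgN x hx e => by_contra fun e' => hgN ?_) (h11 _ h.eN h.f4) (h11 _ b2.eN b2.f4)))
  have e1 := mul_mem (mul_mem hx h.tN) (inv_mem hx)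
  have e2 := conj_sq h.mn.t2 x
  have e3 : F4 t (x * t * x⁻¹) := f4_of_mem h.mn.t1 h.mn.t2 (conj_ne_one.2 h.mn.t1) e2 (by
    rw [← h.mn.norm_eq h.max hWn fun e => h7 (eq_bot_iff.2 (e ▸ h5.left_le)), ← k2 g hg.2 hgN]
    exact mem_norm_sup (h4.ge e1) (by rwa [norm_conj, h4, mem_conj])) e'
  exact (inv_mem_iff (x := g)).1 ((h.inner (hi _ e1 e2) e3).mem_of_conj (inv_mem hg.2)
    (hi _ (by rwa [inv_inv]) (conj_sq e2 _)))

end Cfsg.Agent.GW2
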