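import Cfsg.Agent.Lib.GW2.IA
import Cfsg.Agent.Lib.GW2.IIA
import Cfsg.Agent.Lib.GW2.D1

/-!
# The theorem of Gorenstein and Walter: assembly
-/

set_option autoImplicit false
set_option linter.unusedSectionVars false

namespace Cfsg.Agent.GW2

open Subgroup Cfsg.Agent.OO Cfsg.Agent.Coprime GW
open scoped commutatorElement Pointwise

universe u

variable {G : Type u} [Group G] [Finite G] {L : Subgroup G} {a s t : G}

theorem A7T.of_subtype (hL : Smp L) (h : A7T (⊤ : Subgroup L)) : A7T L := by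
  refine ⟨hL, by rw [← h.card, card_top], fun a ha a1 a2 => ?_⟩
  have k : ∀ x : L, L ⊓ 𝐂[(x : G)] = (⊤ ⊓ 𝐂[x] : Subgroup L).map L.subtype := fun x =>
    Subgroup.ext fun g => ⟨fun e => ⟨⟨g, e.1⟩, ⟨trivial, mem_cent1.2 (Subtype.ext (mem_cent1.1 e.2))⟩,
      rfl⟩, by rintro ⟨g, e, rfl⟩; exact ⟨g.2, mem_cent1.2 (congrArg Subtype.val (mem_cent1.1 e.2))⟩⟩
  obtain ⟨h1, v, -, w, -, p, h2, h3, h4, h5, h6⟩ := h.loc ⟨a, ha⟩ trivial (mt (congrArg Subtype.val) a1)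
    (Subtype.ext a2)
  have e : (S4 ⟨a, ha⟩ v).map L.subtype = S4 a v := by
    rw [S4, Subgroup.map_sup, MonoidHom.map_zpowers, MonoidHom.map_zpowers]; rfl
  refine ⟨by rw [k ⟨a, ha⟩, card_map_of_injective L.subtype_injective, h1], v, v.2, w, w.2,
    ⟨a1, fun e => p.e1 (Subtype.ext e), fun e => p.ne (Subtype.ext e), a2, congrArg Subtype.val p.e2,
      congrArg Subtype.val p.comm.eq⟩, by rw [k ⟨a, ha⟩, ← e]; exact map_le_norm _ h2,
    by rw [orderOf_coe, h3], e ▸ map_cent_le _ _ (mem_map_of_mem _ h4), fun e => h5 fun g hg =>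
      mem_cent1.2 (Subtype.ext (mem_cent1.1 (e (k ⟨a, ha⟩ ▸ mem_map_of_mem _ hg)))),
    by rw [k w, ← e]; exact map_le_norm _ h6⟩

theorem L2.of_top (h : L2 (⊤ : Subgroup L)) : L2 L := by
  obtain ⟨F, _, _, h1, h2, ⟨e⟩⟩ := h
  exact ⟨F, _, _, h1, h2, ⟨topEquiv.symm.trans e⟩⟩

/-- the centralizer of an involution is generalized dihedral -/
theorem Mn.l2 (h : Mn a s t) (hm : O 𝐂[t] ≠ ⊥ → IsCoatom 𝐂[t])
    (hr : ∀ e, F4 t e → O 𝐂[t] ⊓ 𝐂[e] = ⊥) : L2 (⊤ : Subgroup G) := by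
  have := h.simple
  have k := h.cf
  have hna : ¬ IsMulCommutative G := fun e => h.cent_ne_top (top_le_iff.1 fun g _ =>
    mem_cent1.2 (e.1.1 g t))
  have h2 := h.sdprod
  have hU' := fun x => h.mem_U (x := x)
  obtain ⟨U, hU⟩ : ∃ U, U = O 𝐂[t] := ⟨_, rfl⟩
  have hUo : Odd ♯U := hU ▸ odd_O _
  have hUn : U ⊴ 𝐂[t] := hU ▸ Opi_normal _ _
  rw [← hU] at hm hr h2 hU'
  have h3 := fun e (p : F4 t e) x (hx : x ∈ U) => conj_eq_inv p.e2 (hUn.norm p.e_mem) (hr e p) hx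
  have h4 : zpowers a ≤ 𝐂(U) := zpowers_le.2 (mem_cent_iff_conj.2 fun x hx => by
    have e := h3 _ k.f4' _ (inv_mem hx)
    rwa [mul_cj, h3 _ k.f4 _ (inv_mem hx), inv_inv] at e)
  have h5 : U ⊔ zpowers a ≤ 𝐂[t] := sup_le hUn.le (zpowers_le.2 k.a_cent)
  have h6 := fun x => mem_sup_norm_left (x := x) (le_norm_of_le_cent h4)
  have h7 : ∀ x ∈ U ⊔ zpowers a, x ≠ 1 → x * x = 1 → x = t := fun x hx x1 x2 => by
    obtain ⟨u, hu, z, hz, rfl⟩ := (h6 x).1 hx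
    rw [(show Commute z u from (mem_cent_iff.1 (h4 hz) u hu).symm).mul_mul_mul_comm] at x2
    have e1 : u * u = 1 := mem_bot.1 (h2.inf_eq.le ⟨mul_mem hu hu, eq_inv_of_mul_eq_one_left x2 ▸
      (S4 a s).inv_mem (mem_sup_left (mul_mem hz hz))⟩)
    rw [e1, one_mul] at x2
    rw [eq_one_of_odd_of_sq (odd_of_mem hUo hu) e1, one_mul] at x1 ⊢
    exact k.eq_t hz x1 x2
  obtain ⟨F, _, _, k0, k1, -, ⟨k3⟩⟩ := R1.bswOdd G (U ⊔ zpowers a) t s (mem_sup_right k.ta)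
    k.t1 k.t2 (fun e => k.f4.ne (h7 s e k.s1 k.s2).symm) k.s2 (fun x hx => by
      obtain ⟨u, hu, z, hz, rfl⟩ := (h6 x).1 hx
      rw [cj_mul, h3 _ k.f4 u hu, k.inv' hz, ← mul_inv_rev, mem_cent_iff.1 (h4 hz) u hu])
    (fun g => ⟨fun e => by
      obtain ⟨u, hu, z, hz, rfl⟩ := (mem_sup_norm_left (k.le_cent.trans hUn.norm)).1
        (h2.sup_eq.ge (mem_cent1.2 e))
      exact (k.mem.1 hz).imp (fun e => mul_mem (mem_sup_left hu) (mem_sup_right e))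
        fun e => mul_assoc u z s ▸ mul_mem (mem_sup_left hu) (mem_sup_right e), fun e =>
      mem_cent1.1 (e.elim (h5 ·) fun e => (mul_mem_cancel_right k.f4.e_mem).1 (h5 e))⟩)
    (fun x hx x1 g hg => by
      obtain ⟨p, hp, hd⟩ := Nat.exists_prime_and_dvd (mt orderOf_eq_one_iff.1 x1)
      have := Fact.mk hp
      obtain ⟨y, hy, e⟩ := cauchy hp (Nat.card_zpowers x ▸ hd)
      have y1 : y ≠ 1 := fun e' => hp.one_lt.ne (by rw [← e, e', orderOf_one])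
      have e1 := zpowers_le.2 hx hy
      have e2 : g * y * g⁻¹ ∈ U ⊔ zpowers a :=
        zpowers_le.2 hg (conj_zpowers g x ▸ conj_mem_conj hy)
      by_cases p2 : p = 2
      · have y2 : y * y = 1 := by rw [← sq, ← p2, ← e, pow_orderOf_eq_one]
        have e3 := h7 _ e2 (conj_ne_one.2 y1) (conj_sq y2 g)
        rw [h7 y e1 y1 y2] at e3
        exact mem_cent1.1 (mem_cent1_iff_conj.2 e3)
      have e3 : y ∈ U := (hU' y).2 ⟨h5 e1, e ▸ hp.odd_of_ne_two p2⟩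
      have e4 : zpowers y ⊴ 𝐂[t] := ⟨zpowers_le.2 (h5 e1), h2.sup_eq.ge.trans (sup_le (le_norm_of_ab
        (ab_of_inf_eq_bot k.s2 (hUn.norm k.f4.e_mem) (hr _ k.f4)) (zpowers_le.2 e3)) (S4_le.2
          ⟨cent_le_norm _ (cent_anti (zpowers_le.2 e3) (h4 (mem_zpowers a))), mem_norm_of_conj_le (by
            rw [conj_zpowers, h3 _ k.f4 y e3, zpowers_inv])⟩))⟩
      have e5 : g⁻¹ * t * g⁻¹⁻¹ ∈ 𝐂[y] := mem_cent1_comm.1 (by
        rw [cent1_conj, mem_conj, inv_inv]; exact h5 e2)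
      refine mem_cent1.1 (inv_mem_iff.1 (mem_cent1_iff_conj.2 (by_contra fun e6 => y1 (mem_bot.1
        ((hr _ (f4_of_mem k.t1 k.t2 (conj_ne_one.2 k.t1) (conj_sq k.t2 _) ?_ e6)).le
          ⟨e3, mem_cent1_comm.1 e5⟩)))))
      rw [← h.norm_eq (hm fun e => y1 (mem_bot.1 (e ▸ e3))) e4 (mt zpowers_eq_bot.1 y1)]
      exact cent_le_norm _ (cent_zpowers y ▸ e5))
    (fun a b a1 a2 b1 b2 => isConj_iff.2 ((h.oc a trivial b trivial a1 a2 b1 b2).imp fun _ e => e.2))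
    (Op'_top.symm.trans (ZG.O_eq_bot hna)) ((Op_top 2).symm.trans (ZG.Op_eq_bot hna))
  exact ⟨F, _, _, k1, k0, ⟨topEquiv.trans k3⟩⟩

theorem Mn.main (h : Mn a s t) (iv : IV.{u}) (iib : IIB.{u}) (iic : IIC.{u}) :
    L2 (⊤ : Subgroup G) ∨ A7T (⊤ : Subgroup G) := by
  by_cases h0 : O 𝐂[t] = ⊥
  · exact .inl (h.l2 (fun e => absurd h0 e) fun e _ => by rw [h0, bot_inf_eq])
  by_cases hm : IsCoatom 𝐂[t]
  · refine .inl (h.l2 (fun _ => hm) fun e p => ?_)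
    obtain ⟨b, k⟩ := h.exists_mn p
    refine iic G b e t k hm fun u p q hq => by_contra fun e => ?_
    obtain ⟨e, N, L, k, -⟩ := iie G a s t u q h hm p hq (not_or.1 e).1 (not_or.1 e).2
    exact iib G a s t e q N L k
  obtain ⟨M, hM, hc, ho⟩ := ia G a s t h
  have k := h.cf.mono (h.cf.le_cent.trans hc) le_top
  have h1 := k.mem_of_norm (k.le.trans (Opi_normal _ M : O M ⊴ M).cent.norm) inf_le_left ho
  obtain e | ⟨v, -, p, e⟩ | e | ⟨L, e, ht⟩ := h.kf.k4 M hM.1 t k.isIn (le_cent1_iff.2 h1.2)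
  · exact absurd (le_antisymm e hc ▸ hM) hm
  · obtain ⟨b, k'⟩ := h.exists_mn p
    have h2 := h.smp.norm_eq hM ⟨p.le_cent.trans hc, e⟩ fun e => p.t1 (mem_bot.1 (e ▸ t_mem_S4 t v))
    exact .inr (iv G b v t k' (hc.trans e) (h2 ▸ hM) h0)
  · exact absurd e.oc (h.not_oc hM.1 hc)
  · exact absurd ht (ie G a s t M L h hM.1 hc e)

theorem gwd_of (co : CO.{u}) (ca : CA.{u}) (kfp : KFP.{u}) (iv : IV.{u}) (iib : IIB.{u})
    (iic : IIC.{u}) : GWD.{u} := by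
  intro G _ _ L hD hs ha
  induction hn : ♯L using Nat.strong_induction_on generalizing G with
  | _ n ih =>
  have h1 := hs.isSimpleGroup fun e => ha (e ▸ ab_bot)
  by_cases h8 : 8 ∣ ♯L
  swap
  · obtain ⟨F, _, _, k1, k2, k3⟩ := R1.gw4 L h1 ha h8
    exact .inl ⟨F, _, _, k1, Nat.odd_iff.2 (by omega), k3⟩
  have hD' := hD.subgroup L
  have o : OC (⊤ : Subgroup L) := hD'.oc (smp_top.perfect fun e => ha ⟨⟨fun a b =>
    ab_iff.1 e a trivial b trivial⟩⟩)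
  obtain ⟨t, -, e, -, p⟩ := hD.exists_f4' hs ha |> fun ⟨t, ht, e, he, p⟩ => (⟨⟨t, ht⟩, trivial, ⟨e, he⟩,
    trivial, p.subtype⟩ : ∃ t ∈ (⊤ : Subgroup L), ∃ e ∈ (⊤ : Subgroup L), F4 t e)
  obtain ⟨a, k⟩ := (hD'.pair_or_cf' p (mem_top t) (mem_top e) o).resolve_left fun q =>
    q.not_dvd (by rwa [card_top])
  exact (Mn.main ⟨h1, hD', k, o, kfp L hD' fun G' _ _ L' k0 k1 k2 k3 => ih _ (hn ▸ k1) G' L' k0 k2 k3 rfl,
    co, ca⟩ iv iib iic).imp L2.of_top (A7T.of_subtype hs)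

end Cfsg.Agent.GW2
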