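import Cfsg.Agent.Lib.GW2.KfC
import Cfsg.Agent.Lib.GW2.CpC
import Cfsg.Agent.Lib.GW2.Main
import Cfsg.Agent.Lib.GW2.IIB
import Cfsg.Agent.Lib.GW2.IIC

/-!
# Package KFP, and the theorem on dihedral Sylow 2-subgroups modulo package IV
-/

set_option autoImplicit false

namespace Cfsg.Agent.GW2

universe u

theorem kfp : KFP.{u} := kfp_of fun _ _ _ _ _ _ hD ht hc h =>
  (Cq.exists_cp hD co ht hc h).imp fun _ k => ⟨k.1, k.2.1⟩

theorem gwd_of_iv (iv : IV.{u}) : GWD.{u} := gwd_of co ca kfp iv (iib iie iia) iic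

end Cfsg.Agent.GW2
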