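import Mathlib

/-!
# Package W1: the Hecke algebra of a linear character of the point stabilizer
-/

set_option autoImplicit false

namespace Cfsg.Agent.GW2.W1

open Module Finset

theorem trace_eq {V : Type*} [AddCommGroup V] [Module ℂ V] [FiniteDimensional ℂ V] {a : End ℂ V}
    {δ : ℂ} (h : a * a = δ • a) : LinearMap.trace ℂ V a = finrank ℂ (LinearMap.range a) * δ := by
  rw [← LinearMap.trace_restrict_eq_of_forall_mem (LinearMap.range a) a (LinearMap.mem_range_self a),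
    show a.restrict _ = δ • LinearMap.id from LinearMap.ext (by
      rintro ⟨_, x, rfl⟩; exact Subtype.ext congr($h x)),
    map_smul, LinearMap.trace_id, smul_eq_mul, mul_comm]

variable {G : Type*} [Group G] {B Q T : Subgroup G} {j : G}

/-- right translation -/
def rho (g : G) : End ℂ (G → ℂ) := LinearMap.funLeft ℂ ℂ (· * g)

/-- left translation -/
def sig (g : G) : End ℂ (G → ℂ) := LinearMap.funLeft ℂ ℂ (g * ·)

theorem rho_mul (a b : G) : rho (a * b) = rho a * rho b := by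
  ext φ x; simp [rho, mul_assoc]

theorem rho_one : rho (1 : G) = 1 := by
  ext φ x; simp [rho]

theorem comm_rho (a b : G) : Commute (sig a) (rho b) := by
  ext φ x; simp [rho, sig, mul_assoc]

variable [Fintype G]

theorem trace_rho [DecidableEq G] (g : G) :
    LinearMap.trace ℂ _ (rho g) = if g = 1 then (Fintype.card G : ℂ) else 0 := by
  rw [LinearMap.trace_eq_matrix_trace ℂ (Pi.basisFun ℂ G)]
  split_ifs with h <;> simp [Matrix.trace, rho, h]

/-- a translation invariant line of functions on a perfect group consists of constants -/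
theorem const (hG : commutator G = ⊤) {a : End ℂ (G → ℂ)} (hc : ∀ g, Commute (sig g) a)
    (h : finrank ℂ (LinearMap.range a) = 1) : ∃ φ ∈ LinearMap.range a, φ 1 ≠ 0 ∧ ∀ g, φ g = φ 1 := by
  obtain ⟨⟨φ, hφ⟩, h0, h1⟩ := finrank_eq_one_iff'.1 h
  have h2 : ∀ g, ∃ c : ℂ, ∀ x, φ (g * x) = c * φ x := fun g => by
    obtain ⟨ψ, rfl⟩ := hφ
    obtain ⟨c, e⟩ := h1 ⟨sig g (a ψ), sig g ψ, congr($((hc g).eq) ψ).symm⟩
    exact ⟨c, fun x => (congrFun (congrArg Subtype.val e) x).symm⟩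
  choose c e using h2
  have h3 : φ 1 ≠ 0 := fun h3 => h0 (Subtype.ext (funext fun x => by
    simpa [h3] using e x 1))
  let χ : G →* ℂ := ⟨⟨c, mul_right_cancel₀ h3 (by simpa using (e 1 1).symm)⟩, fun x y =>
    mul_right_cancel₀ h3 (by rw [← e, mul_assoc, e, e, mul_assoc])⟩
  refine ⟨φ, hφ, h3, fun g => ?_⟩
  have h4 := Abelianization.commutator_subset_ker χ.toHomUnits (hG.ge (Subgroup.mem_top g))
  have h5 : c g = 1 := congrArg Units.val h4
  simpa [h5] using e g 1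

open Classical in
/-- the idempotent of a linear character of a subgroup -/
noncomputable def ee (l : B →* ℂ) : End ℂ (G → ℂ) := (Nat.card B : ℂ)⁻¹ • ∑ b : B, l b⁻¹ • rho (b : G)

omit [Fintype G] in
theorem inv_mul (l : B →* ℂ) (b : B) : l b⁻¹ * l b = 1 := by rw [← map_mul, inv_mul_cancel, map_one]

theorem avg {l : B →* ℂ} {x y z : End ℂ (G → ℂ)} (h : ∀ b : B, x * rho (b : G) * y = l b • z) :
    x * ee l * y = z := by
  have : (Nat.card B : ℂ) ≠ 0 := Nat.cast_ne_zero.2 Nat.card_pos.ne'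
  simp only [ee, mul_smul_comm, smul_mul_assoc, mul_sum, sum_mul, h, smul_smul, inv_mul, one_smul,
    sum_const, card_univ, ← Nat.cast_smul_eq_nsmul ℂ, ← Nat.card_eq_fintype_card]
  rw [inv_mul_cancel₀ this, one_smul]

theorem rho_ee (l : B →* ℂ) (b : B) : rho (b : G) * ee l = l b • ee l := by
  classical
  rw [ee, mul_smul_comm, smul_comm (l b), mul_sum, smul_sum (r := l b)]
  congr 1
  refine Fintype.sum_equiv (Equiv.mulLeft b) _ _ fun c => ?_
  rw [mul_smul_comm, ← rho_mul, smul_smul, mul_comm (l b), ← map_mul]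
  simp

theorem ee_rho (l : B →* ℂ) (b : B) : ee l * rho (b : G) = l b • ee l := by
  classical
  rw [ee, smul_mul_assoc, smul_comm (l b), sum_mul, smul_sum (r := l b)]
  congr 1
  refine Fintype.sum_equiv (Equiv.mulRight b) _ _ fun c => ?_
  rw [smul_mul_assoc, ← rho_mul, smul_smul, ← map_mul]
  simp

theorem ee_ee (l : B →* ℂ) : ee l * ee l = ee l := by
  simpa using avg (x := 1) fun b => by rw [one_mul, rho_ee]

theorem comm_ee (g : G) (l : B →* ℂ) : Commute (sig g) (ee l) :=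
  (Commute.sum_right _ (fun b : B => l b⁻¹ • rho (b : G)) _ fun b _ =>
    (comm_rho g b).smul_right _).smul_right _

theorem trace_ee (l : B →* ℂ) : LinearMap.trace ℂ _ (ee l) = B.index := by
  classical
  have : (Nat.card B : ℂ) ≠ 0 := Nat.cast_ne_zero.2 Nat.card_pos.ne'
  simp only [ee, map_smul, map_sum, trace_rho, OneMemClass.coe_eq_one, smul_eq_mul, mul_ite, mul_zero,
    sum_ite_eq', mem_univ, if_true, inv_one, map_one, one_mul]
  rw [← Nat.card_eq_fintype_card, ← B.card_mul_index, Nat.cast_mul, inv_mul_cancel_left₀ this]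

theorem trace_eje (l : B →* ℂ) (hj : j ∉ B) : LinearMap.trace ℂ _ (ee l * rho j * ee l) = 0 := by
  classical
  rw [LinearMap.trace_mul_comm, ← mul_assoc, ee_ee]
  have : ∀ b : B, (b : G) * j ≠ 1 := fun b e => hj (eq_inv_of_mul_eq_one_right e ▸ B.inv_mem b.2)
  simp [ee, sum_mul, ← rho_mul, trace_rho, this]

omit [Fintype G] in
theorem reps {M : Type*} [AddCommMonoid M] [Finite T] (F : G → M)
    (hF : ∀ x ∈ T, ∀ u, F (x * u * x⁻¹) = F u) (X : Finset G)
    (hX : ∀ x ∈ T, ∀ u ∈ X, x * u * x⁻¹ ∈ X) (h : ∀ x ∈ T, ∀ u ∈ X, x * u * x⁻¹ = u → x = 1) :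
    ∃ R ⊆ X, #X = Nat.card T * #R ∧ ∑ u ∈ X, F u = Nat.card T • ∑ u ∈ R, F u := by
  classical
  have := Fintype.ofFinite T
  induction X using Finset.strongInduction with | H X ih =>
  rcases X.eq_empty_or_nonempty with rfl | ⟨u, hu⟩
  · exact ⟨∅, by simp⟩
  have h1 : Function.Injective fun x : T => (x : G) * u * (x : G)⁻¹ := fun x y e => by
    have := h _ (y⁻¹ * x).2 u hu (by
      rw [Subgroup.coe_mul, mul_inv_rev, mul_assoc _ _ u, mul_assoc, ← mul_assoc (_ * u)]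
      simp only at e
      rw [e]; simp [mul_assoc])
    exact (inv_mul_eq_one.1 (Subtype.ext this)).symm
  have h2 : univ.map ⟨_, h1⟩ ⊆ X := fun v hv => by
    obtain ⟨x, -, rfl⟩ := mem_map.1 hv
    exact hX _ x.2 u hu
  have h3 : u ∈ univ.map ⟨_, h1⟩ := mem_map.2 ⟨1, mem_univ _, by simp⟩
  obtain ⟨R, h4, h5, h6⟩ := ih _ (sdiff_ssubset h2 ⟨u, h3⟩) (fun x hx v hv => mem_sdiff.2
    ⟨hX x hx v (mem_sdiff.1 hv).1, fun e => (mem_sdiff.1 hv).2 (by
      obtain ⟨y, -, e⟩ := mem_map.1 e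
      refine mem_map.2 ⟨⟨x, hx⟩⁻¹ * y, mem_univ _, ?_⟩
      simp only [Function.Embedding.coeFn_mk] at e ⊢
      rw [show v = x⁻¹ * (x * v * x⁻¹) * x by group, ← e]
      simp [mul_assoc])⟩) fun x hx v hv => h x hx v (mem_sdiff.1 hv).1
  have h7 : u ∉ R := fun e => (mem_sdiff.1 (h4 e)).2 h3
  refine ⟨insert u R, insert_subset hu (h4.trans sdiff_subset), ?_, ?_⟩
  · rw [card_insert_of_notMem h7, ← card_sdiff_add_card_eq_card h2, h5, card_map, card_univ,
      ← Nat.card_eq_fintype_card, mul_add_one]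
  · rw [sum_insert h7, ← sum_sdiff h2, h6, sum_map, smul_add, add_comm]
    simp [fun x : T => hF x x.2 u]

open Classical in
theorem sum_split {M : Type*} [AddCommMonoid M] (F : G → M) :
    ∑ u : Q, F u = F 1 + ∑ u with u ∈ Q ∧ u ≠ 1, F u := by
  rw [← sum_subtype (univ.filter (· ∈ Q)) (by simp), ← add_sum_erase _ _ (a := 1) (by simp)]
  congr 2
  ext u
  simp [and_comm]

theorem hecke (hG : commutator G = ⊤) (l : B →* ℂ) (l1 : l ≠ 1) {s : ℕ} (ls : ∀ b, l b ^ s = 1)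
    (hQ : Q ≤ B) (lQ : ∀ u : B, (u : G) ∈ Q → l u = 1) (hj : j ∉ B) (j2 : j * j = 1)
    (hd : ∀ b : B, ∃ u ∈ Q, ∃ d : B, (b : G) * j = u * j * d ∧ l d = l b)
    (dc : ∀ u ∈ Q, u ≠ 1 → ∃ a b : B, j * u * j = a * j * b)
    (hT : ∀ x ∈ T, j * x * j ∈ B ∧ ∀ u ∈ Q, x * u * x⁻¹ ∈ Q ∧ (x * u * x⁻¹ = u → u = 1 ∨ x = 1)) :
    ∃ (d₁ d₂ : ℕ) (R : Finset G) (μ : G → ℂ), 1 < d₁ ∧ 1 < d₂ ∧ d₁ + d₂ = B.index ∧
      Nat.card Q = Nat.card T * #R + 1 ∧ (∀ u, μ u ^ s = 1) ∧
      d₁ * d₂ * (Nat.card T * ∑ u ∈ R, μ u) ^ 2 = Nat.card Q * (d₁ - d₂) ^ 2 := by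
  classical
  have n0 : (Nat.card Q : ℂ) ≠ 0 := Nat.cast_ne_zero.2 Nat.card_pos.ne'
  have v0 : (B.index : ℂ) ≠ 0 := Nat.cast_ne_zero.2 B.index_ne_zero_of_finite
  have h1 : ee (1 : Q →* ℂ) * ee l = ee l := by
    simpa using avg (l := (1 : Q →* ℂ)) (x := 1) fun u => by
      rw [one_mul, rho_ee l ⟨u, hQ u.2⟩, lQ _ u.2]; rfl
  have h2 : ee l * rho j * ee l * (ee l * rho j * ee l) =
      ee l * rho j * ee (1 : Q →* ℂ) * (rho j * ee l) := by
    have := avg (l := l) (x := ee l * rho j * ee (1 : Q →* ℂ)) (y := rho j * ee l)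
      (z := ee l * rho j * ee (1 : Q →* ℂ) * (rho j * ee l)) fun b => by
      obtain ⟨u, hu, d, e, e'⟩ := hd b
      rw [mul_assoc _ (rho (b : G)), ← mul_assoc (rho (b : G)), ← rho_mul, e, rho_mul, rho_mul,
        mul_assoc _ (rho (d : G)), rho_ee, e', mul_smul_comm, mul_smul_comm, mul_assoc (rho u),
        ← mul_assoc _ (rho u), mul_assoc _ _ (rho u), ee_rho 1 ⟨u, hu⟩]
      simp
    rw [← this, mul_assoc _ (ee 1), h1, mul_assoc (ee l) (rho j) (ee l), ← mul_assoc _ (ee l),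
      ← mul_assoc (ee l) (rho j), mul_assoc _ (ee l) (ee l), ee_ee]
  choose! a b hab using dc
  obtain ⟨R, hR, h3, h4⟩ := reps (T := T) (fun u => ee l * rho (j * u * j) * ee l) (fun x hx u => by
    have e : j * (x * u * x⁻¹) * j = (⟨_, (hT x hx).1⟩ : B) * (j * u * j) * (⟨_, (hT x hx).1⟩ : B)⁻¹ := by
      simp [mul_assoc, ← mul_assoc j j, j2, inv_eq_of_mul_eq_one_left j2]
    rw [e, rho_mul, rho_mul, ← mul_assoc, ← mul_assoc, ee_rho, mul_assoc, rho_ee,
      mul_smul_comm, smul_mul_assoc, smul_mul_assoc, smul_smul, inv_mul, one_smul])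
    (univ.filter fun u => u ∈ Q ∧ u ≠ 1) (fun x hx u hu => by
      simpa using (mem_filter.1 hu).2.imp_left fun e => ((hT x hx).2 u e).1)
    fun x hx u hu e => (((hT x hx).2 u (mem_filter.1 hu).2.1).2 e).resolve_left (mem_filter.1 hu).2.2
  obtain ⟨c, hc⟩ : ∃ c, c = Nat.card T * ∑ u ∈ R, l (a u) * l (b u) := ⟨_, rfl⟩
  obtain ⟨τ, hτ⟩ : ∃ τ, τ = (Nat.card Q : ℂ) • (ee l * rho j * ee l) := ⟨_, rfl⟩
  have h6 : τ * τ = (Nat.card Q : ℂ) • ee l + c • τ := by
    have : (Nat.card Q : ℂ) • (ee l * rho j * ee (1 : Q →* ℂ) * (rho j * ee l)) =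
        ∑ u : Q, ee l * rho (j * u * j) * ee l := by
      rw [← smul_mul_assoc, ← mul_smul_comm, ee.eq_1 1, smul_smul, mul_inv_cancel₀ n0]
      simp [mul_sum, sum_mul, rho_mul, mul_assoc]
    rw [hτ, smul_mul_assoc, mul_smul_comm, h2, this, sum_split fun u => ee l * rho (j * u * j) * ee l, h4,
      sum_congr rfl (g := fun u => (l (a u) * l (b u)) • (ee l * rho j * ee l)) fun u hu => ?_,
      ← sum_smul, ← Nat.cast_smul_eq_nsmul ℂ, smul_smul, ← hc, mul_one, j2, rho_one, mul_one, ee_ee,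
      smul_add, smul_comm]
    rw [hab u (mem_filter.1 (hR hu)).2.1 (mem_filter.1 (hR hu)).2.2, rho_mul, rho_mul, ← mul_assoc,
      ← mul_assoc, ee_rho, mul_assoc, rho_ee, mul_smul_comm, smul_mul_assoc, smul_mul_assoc, smul_smul,
      mul_comm (l _)]
  have h7 : ee l * τ = τ := by rw [hτ, mul_smul_comm, ← mul_assoc, ← mul_assoc, ee_ee]
  have h8 : τ * ee l = τ := by rw [hτ, smul_mul_assoc, mul_assoc, ee_ee]
  have key : ∀ θ θ' : ℂ, θ + θ' = c → θ * θ' = -Nat.card Q →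
      ∃ d : ℕ, 1 < d ∧ d * (θ - θ') = -θ' * B.index := fun θ θ' e1 e2 => by
    have t0 : θ' ≠ 0 := fun e => n0 (by rwa [e, mul_zero, zero_eq_neg] at e2)
    have k1 := trace_eq (a := τ - θ' • ee l) (δ := θ - θ') (by
      simp only [sub_mul, mul_sub, smul_mul_assoc, mul_smul_comm, h6, h7, h8, ee_ee]
      rw [← e1, ← neg_neg (Nat.card Q : ℂ), ← e2]
      module)
    rw [map_sub, map_smul, trace_ee, hτ, map_smul, trace_eje l hj, smul_zero, zero_sub, ← hτ,
      smul_eq_mul, ← neg_mul] at k1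
    refine ⟨_, Nat.one_lt_iff_ne_zero_and_ne_one.2 ⟨fun e => ?_, fun e => l1 (MonoidHom.ext fun b => ?_)⟩,
      k1.symm⟩
    · simp [e, t0, v0] at k1
    obtain ⟨_, ⟨ψ, rfl⟩, k2, k3⟩ := const hG (fun g => (hτ ▸ (((comm_ee g l).mul_right
      (comm_rho g j)).mul_right (comm_ee g l)).smul_right _).sub_right ((comm_ee g l).smul_right _)) e
    have k4 : rho (b : G) * (τ - θ' • ee l) = l b • (τ - θ' • ee l) := by
      rw [← h7, mul_sub, ← mul_assoc, mul_smul_comm, rho_ee, smul_mul_assoc, smul_sub, smul_comm]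
    have k5 : (τ - θ' • ee l) ψ (1 * b) = l b * (τ - θ' • ee l) ψ 1 := congr($k4 ψ 1)
    rw [k3] at k5
    exact (mul_eq_right₀ k2).1 k5.symm
  obtain ⟨δ, hδ⟩ := IsAlgClosed.exists_pow_nat_eq (c ^ 2 + 4 * Nat.card Q) two_pos
  obtain ⟨d₁, k1, k2⟩ := key ((c + δ) / 2) ((c - δ) / 2) (by ring) (by linear_combination -hδ / 4)
  obtain ⟨d₂, k3, k4⟩ := key ((c - δ) / 2) ((c + δ) / 2) (by ring) (by linear_combination -hδ / 4)
  have d0 : δ ≠ 0 := fun e => n0 (by
    have : c * B.index = 0 := by rw [e] at k2; linear_combination 2 * k2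
    rw [e, (mul_eq_zero.1 this).resolve_right v0] at hδ
    linear_combination -hδ / 4)
  refine ⟨d₁, d₂, R, fun u => l (a u) * l (b u), k1, k3, Nat.cast_injective (R := ℂ)
    (mul_right_cancel₀ d0 ?_), ?_, fun u => by rw [mul_pow, ls, ls, mul_one], hc ▸
    mul_right_cancel₀ (pow_ne_zero 2 d0) ?_⟩
  · push_cast
    linear_combination k2 - k4
  · rw [← h3]
    simpa [add_comm] using sum_split (Q := Q) fun _ => (1 : ℕ)
  · have k5 : d₁ * δ = (δ - c) / 2 * B.index := by linear_combination k2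
    have k6 : d₂ * δ = (δ + c) / 2 * B.index := by linear_combination -k4
    calc _ = (d₁ * δ) * (d₂ * δ) * c ^ 2 := by ring
      _ = Nat.card Q * (d₁ * δ - d₂ * δ) ^ 2 := by
        rw [k5, k6]; linear_combination (B.index : ℂ) ^ 2 * c ^ 2 / 4 * hδ
      _ = _ := by ring

end Cfsg.Agent.GW2.W1
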