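import Cfsg.Agent.Lib.OO.CF7

/-!
# Package W1: the arithmetic
-/

set_option autoImplicit false

namespace Cfsg.Agent.GW2.W1

open Finset Cfsg.Agent.OO

theorem int_sq {ι : Type*} {s d₁ d₂ r n : ℕ} (hs : s.Prime) {R : Finset ι} {μ : ι → ℂ}
    (hμ : ∀ u, μ u ^ s = 1) (h0 : d₁ * d₂ * r ≠ 0)
    (h : (d₁ * d₂ * (r * ∑ u ∈ R, μ u) ^ 2 : ℂ) = n * (d₁ - d₂) ^ 2) :
    ∃ m : ℤ, d₁ * d₂ * (r ^ 2 * m) = n * (d₁ - d₂) ^ 2 ∧ (s : ℤ) ∣ m - #R ^ 2 := by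
  obtain ⟨ε, hε⟩ := exists_prim_root hs.ne_zero
  have := NeZero.mk hs.ne_zero
  have h1 : IsIntegral ℤ (∑ u ∈ R, μ u) := .sum _ fun u _ => Aint_unity_root hs.ne_zero (hμ u)
  simp only [ne_eq, mul_eq_zero, not_or] at h0
  obtain ⟨m, hm⟩ := Cint_rat_Aint ⟨n * (d₁ - d₂) ^ 2 / (d₁ * d₂ * r ^ 2), by
    push_cast
    rw [← h, eq_div_iff (by simp [h0])]; ring⟩ (h1.pow 2)
  have h2 : EqAmod (1 - ε) (∑ u ∈ R, μ u) (∑ _u ∈ R, 1) := eqAmod_sum fun u _ => by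
    obtain ⟨i, -, e⟩ := hε.eq_pow_of_pow_eq_one (hμ u)
    exact e ▸ eqAmod_pow_one (hε.isIntegral hs.pos) i
  rw [sum_const, nsmul_eq_mul, mul_one] at h2
  refine ⟨m, ?_, int_eqAmod_prime_prim hs hε ?_⟩
  · rw [mul_pow, hm] at h
    exact_mod_cast h
  · push_cast
    exact hm ▸ eqAmod_iff_sub.1 (h2.pow h1 (Aint_natCast _) 2)

theorem arith_one {s f r R g u : ℕ} {m : ℤ} (hs : s.Prime) (s3 : s ≠ 3) (ho : Odd r)
    (hq : 2 * r + 1 = 3 ^ f) (hm : (s : ℤ) ∣ (3 ^ f) ^ 2 - 3 ^ f + 1) (hR : (3 ^ f) ^ 3 = r * R + 1)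
    (g1 : 1 < g) (hg : g * (1 + u) = (3 ^ f) ^ 3 + 1) (hu : u ∣ (3 ^ f) ^ 3)
    (h : u * (r ^ 2 * m) = (3 ^ f) ^ 3 * (1 - u : ℤ) ^ 2) (h' : (s : ℤ) ∣ m - R ^ 2) : False := by
  have hp := Nat.prime_iff_prime_int.1 hs
  rw [← pow_mul] at hu
  obtain ⟨e, he, rfl⟩ := (Nat.dvd_prime_pow Nat.prime_three).1 hu
  have hq' : (2 * r + 1 : ℤ) = 3 ^ f := by exact_mod_cast hq
  have hR' : ((3 ^ f) ^ 3 : ℤ) = r * R + 1 := by exact_mod_cast hR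
  push_cast at h
  have h1 : (s : ℤ) ∣ 3 ^ e + 1 := hp.dvd_of_dvd_pow (n := 2) (by
    obtain ⟨a, ha⟩ := hm
    obtain ⟨b, hb⟩ := h'
    have k : ((3 ^ f) ^ 3 + 1 : ℤ) = s * (a * (3 ^ f + 1)) := by linear_combination (3 ^ f + 1) * ha
    exact ⟨a * (3 ^ f + 1) * ((1 - 3 ^ e) ^ 2 - 3 ^ e * ((3 ^ f) ^ 3 - 3)) - 3 ^ e * r ^ 2 * b, by
      linear_combination h + ((1 - 3 ^ e) ^ 2 - 3 ^ e * ((3 ^ f) ^ 3 - 3)) * k - 3 ^ e * r ^ 2 * hb +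
        3 ^ e * ((3 ^ f) ^ 3 - 1 + r * R) * hR'⟩)
  have h2 : 3 ^ f - 1 ∣ 3 ^ e - 1 := by
    have k1 : IsCoprime ((r : ℤ) ^ 2) ((3 ^ f) ^ 3) :=
      IsCoprime.pow ⟨-2, 1, by rw [← hq']; ring⟩
    have k2 := (Int.pow_dvd_pow_iff two_ne_zero).1 (k1.dvd_of_dvd_mul_left
      (Dvd.intro (3 ^ e * m) (by linear_combination h : _ = (3 ^ f) ^ 3 * (1 - 3 ^ e : ℤ) ^ 2)))
    rw [show 3 ^ f - 1 = 2 * r by omega]
    refine (Nat.coprime_two_left.2 ho).mul_dvd_of_dvd_of_dvd (even_iff_two_dvd.1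
      (Nat.Odd.sub_odd (Odd.pow (by decide)) odd_one)) (Int.natCast_dvd_natCast.1 ?_)
    rw [Nat.cast_pred (by positivity), ← dvd_neg, neg_sub]
    exact_mod_cast k2
  have h3 := Nat.pow_sub_one_mod_pow_sub_one 3 f e
  rw [Nat.mod_eq_zero_of_dvd h2, eq_comm, Nat.sub_eq_zero_iff_le] at h3
  obtain ⟨c, rfl⟩ := Nat.dvd_of_mod_eq_zero (by_contra fun e => absurd ((Nat.pow_le_one_iff e).1 h3)
    (by decide))
  have f0 : 0 < f := Nat.pos_of_ne_zero fun e => by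
    rw [e] at hq; exact ho.pos.ne' (by omega)
  have h4 : c ≤ 3 := Nat.le_of_mul_le_mul_left he f0
  have h5 : ¬ (s : ℤ) ∣ 3 := fun e => s3 ((Nat.prime_dvd_prime_iff_eq hs Nat.prime_three).1
    (by exact_mod_cast e))
  rw [pow_mul] at h1 hg
  generalize (3 : ℤ) ^ f = q at *
  interval_cases c
  · exact hp.not_dvd_one (by convert hm.sub (h1.mul_right (r * q)) using 1; rw [← hq']; ring)
  · exact h5 ((show q ^ 2 - q + 1 - (q ^ 1 + 1) * (q - 2) = 3 by ring) ▸ hm.sub (h1.mul_right (q - 2)))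
  · exact hp.not_dvd_one (by convert hm.sub ((h1.sub hm).mul_right (q - 1)) using 1; ring)
  · exact g1.ne' ((Nat.mul_eq_right (by omega)).1 (hg.trans (add_comm _ _)))

theorem arith {s f r R d₁ d₂ : ℕ} {m : ℤ} (hs : s.Prime) (s3 : s ≠ 3) (ho : Odd r)
    (hq : 2 * r + 1 = 3 ^ f) (hm : (s : ℤ) ∣ (3 ^ f) ^ 2 - 3 ^ f + 1) (hR : (3 ^ f) ^ 3 = r * R + 1)
    (h1 : 1 < d₁) (h2 : 1 < d₂) (hd : d₁ + d₂ = (3 ^ f) ^ 3 + 1)
    (h : d₁ * d₂ * (r ^ 2 * m) = (3 ^ f) ^ 3 * (d₁ - d₂ : ℤ) ^ 2) (h' : (s : ℤ) ∣ m - R ^ 2) :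
    False := by
  obtain ⟨g, a, b, g0, hc, rfl, rfl⟩ := Nat.exists_coprime' (Nat.gcd_pos_of_pos_left d₂ (zero_lt_one.trans h1))
  have h3 : a * b * (r ^ 2 * m) = (3 ^ f) ^ 3 * (a - b : ℤ) ^ 2 :=
    mul_left_cancel₀ (pow_ne_zero 2 (Int.natCast_ne_zero.2 g0.ne')) (by push_cast at h; linear_combination h)
  have h4 : IsCoprime (a : ℤ) b := Nat.isCoprime_iff_coprime.2 hc
  have h5 : a * b ∣ (3 ^ f) ^ 3 := by
    have : IsCoprime (a * b : ℤ) ((a - b) ^ 2) := by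
      obtain ⟨x, y, e⟩ := h4
      exact IsCoprime.pow_right (.mul_left ⟨x + y, -y, by linear_combination e⟩
        ⟨x + y, x, by linear_combination e⟩)
    exact_mod_cast this.dvd_of_dvd_mul_right (Dvd.intro _ h3)
  have h6 : ∀ x, x ∣ (3 ^ f) ^ 3 → x ≠ 1 → 3 ∣ x := fun x hx x1 => by
    rw [← pow_mul] at hx
    obtain ⟨e, -, rfl⟩ := (Nat.dvd_prime_pow Nat.prime_three).1 hx
    exact dvd_pow_self 3 fun e' => x1 (by rw [e', pow_zero])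
  by_cases a1 : a = 1
  · subst a1
    exact arith_one (u := b) hs s3 ho hq hm hR (by simpa using h1) (by linarith) (by simpa using h5)
      (by simpa using h3) h'
  obtain rfl : b = 1 := by_contra fun b1 => absurd (Nat.eq_one_of_dvd_coprimes hc
    (h6 a ((dvd_mul_right a b).trans h5) a1) (h6 b ((dvd_mul_left b a).trans h5) b1)) (by decide)
  exact arith_one (u := a) hs s3 ho hq hm hR (by simpa using h2) (by linarith) (by simpa using h5)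
    (by push_cast at h3; linear_combination h3) h'

end Cfsg.Agent.GW2.W1
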