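import Cfsg.Agent.Lib.GW2.Hyp
import Cfsg.Agent.Lib.GW2.W1a
import Cfsg.Agent.Lib.GW2.W1b
import Cfsg.Agent.Lib.JR.Main

/-!
# Package W1: no field automorphisms in the centralizer of an involution
-/

set_option autoImplicit false

namespace Cfsg.Agent.GW2.W1

open Subgroup Cfsg.Agent.OO Cfsg.Agent.Coprime Cfsg.Agent.R1 Cfsg.Agent.GW Cfsg.Agent.JR
open scoped commutatorElement Pointwise

universe u

open scoped IsMulCommutative in
theorem exists_chi {A : Type*} [Group A] [Finite A] [IsMulCommutative A] {s : ℕ} [Fact s.Prime]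
    (h : s ∣ Nat.card A) : ∃ χ : A →* ℂ, χ ≠ 1 ∧ ∀ a, χ a ^ s = 1 := by
  have := NeZero.mk (Monoid.exponent_ne_zero_of_finite (G := A))
  have e := CommGroup.card_monoidHom_of_hasEnoughRootsOfUnity A ℂ
  have : Finite (A →* ℂˣ) := Nat.finite_of_card_ne_zero (e ▸ Nat.card_pos.ne')
  obtain ⟨χ, hχ⟩ := exists_prime_orderOf_dvd_card' (G := A →* ℂˣ) s (e ▸ h)
  refine ⟨(Units.coeHom ℂ).comp χ, fun e => (Fact.out : s.Prime).ne_one ?_, fun a => ?_⟩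
  · rw [← hχ, orderOf_eq_one_iff]
    exact MonoidHom.ext fun a => Units.ext congr($e a)
  · exact congrArg (fun f : A →* ℂˣ => (f a : ℂ)) (hχ ▸ pow_orderOf_eq_one χ)

variable {G : Type u} [Group G] [Finite G] {B H L P Q S T W : Subgroup G} {q r k s : ℕ} {g j t x : G}

theorem cover (hQ : Q ≤ B) (hj : j ∉ B) (hi : B.index = ♯Q + 1)
    (h : ∀ u ∈ Q, j⁻¹ * u * j ∈ B → u = 1) (hg : g ∉ B) : ∃ u ∈ Q, ∃ b ∈ B, g = u * j * b := by
  have k : ∀ u : Q, ((1 : G) : G ⧸ B) ≠ (u * j : G) := fun u e => hj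
    ((mul_mem_cancel_left (hQ u.2)).1 (by simpa using QuotientGroup.eq.1 e))
  have : Function.Bijective fun o : Option Q => o.elim ((1 : G) : G ⧸ B) fun u => (u * j : G) := by
    refine (Nat.bijective_iff_injective_and_card _).2 ⟨?_, by rw [Finite.card_option, ← hi]; rfl⟩
    rintro (_ | u) (_ | v) e
    exacts [rfl, absurd e (k v), absurd e.symm (k u), congrArg some (inv_mul_eq_one.1 (Subtype.ext
      (h _ (u⁻¹ * v).2 (by simpa [mul_assoc] using QuotientGroup.eq.1 e))))]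
  obtain ⟨_ | u, e⟩ := this.2 g
  · exact absurd (by simpa using QuotientGroup.eq.1 e) hg
  · exact ⟨u, u.2, _, QuotientGroup.eq.1 e, by group⟩

variable (h : Fr t H L W S P T 3 q r k)
include h

omit [Finite G] in
theorem oddT : Odd ♯T := La.cardT h ▸ h.par.1

/-- no element of `T` centralizes an element of order three -/
theorem not_dvd_cent (h3 : ¬ 3 ∣ ♯W) (hx : x ∈ T) (x1 : x ≠ 1) : ¬ 3 ∣ ♯𝐂[x] := fun e => by
  have := Fact.mk Nat.prime_three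
  obtain ⟨j, hj, h1, h2⟩ := h.exj
  have ht := h.L_le (h.tor.le hx)
  have h4 := h.tor.cent hx (KK.ne_sq (odd_of_mem (oddT h) hx) x1)
  have sd := La.sdp h (mem_cent1_comm.1 ht) (odd_of_forall fun a ha a2 =>
    eq_one_of_odd_of_sq (odd_of_mem (oddT h) (h4.le ⟨h.mem_L ha.2 a2, ha.1⟩)) a2)
  have hp := KK.pair_self (s := j) h.t1 (fun e => h2 (e ▸ one_mem T)) (fun e => h.tL (e ▸ hj.2)) h.t2
    (h.sq j hj.1) (h.L_le hj.2)
  have hn : S4 t j ≤ 𝐍(O 𝐂[x]) := le_norm_Opi _ (cent_zpowers x ▸ le_norm_cent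
    (S4_le.2 ⟨IV.norm_zp_of_cent ht, IV.norm_zp_of_inv ((h.tor.inv j ⟨hj.2, h1⟩ h2).2 x hx)⟩))
  obtain ⟨Z, hZ, h5⟩ := exists_invariant_sylow 3 hn (hp.coprime (odd_O _)).symm
    (.inr (sol_of_odd (odd_O _)))
  obtain ⟨y, hy, ho⟩ := cauchy Nat.prime_three e
  exact Ind.not_cyc (fun s hs => h.sq_of_two hp.syl.isPGroup hs) hp.card.symm.dvd
    (LBx.cyc h h3 hZ.isPGroup (hZ.ne_bot (ho ▸ orderOf_dvd_card
      (IV.mem_O_of_sd sd h.t2 hy (ho ▸ by decide)))) h5 hp.syl.isPGroup)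

theorem dvd_of_dvd [hs : Fact s.Prime] (hW : s ∣ ♯W)
    (hG : Nat.card G = q ^ 3 * (2 * r * ♯W) * (q ^ 3 + 1)) (s3 : s ≠ 3) :
    (s : ℤ) ∣ q ^ 2 - q + 1 := by
  obtain ⟨n1, n2, n3, -⟩ := LBx.num h
  obtain ⟨m, hm⟩ : ∃ m, m + q = q ^ 2 + 1 := ⟨q ^ 2 + 1 - q, by rw [sq]; have := Nat.le_mul_self q; omega⟩
  rw [show (q : ℤ) ^ 2 - q + 1 = m by have := congrArg (Nat.cast : ℕ → ℤ) hm; push_cast at this; omega,
    Int.natCast_dvd_natCast]
  have h1 : H.index = 2 * q ^ 2 * m := by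
    refine Nat.eq_of_mul_eq_mul_left (card_pos' H) ?_
    rw [card_mul_index, hG, h.card_H, h.card, show q ^ 3 + 1 = 4 * k * m by rw [← n1]; nlinarith]
    ring
  by_contra e
  obtain ⟨X, hX⟩ := exists_syl s H
  have h2 : X ≤ L := h.le_L_of_syl ⟨le_top, hX.isPGroup, by
    rw [← relIndex_mul_relIndex X H ⊤ hX.le le_top, relIndex_top_right, h1]
    simp only [hs.out.dvd_mul, not_or]
    refine ⟨hX.not_dvd, ⟨fun e => ?_, fun e => s3 ?_⟩, e⟩
    · exact h.oddW.not_two_dvd_nat ((Nat.prime_dvd_prime_iff_eq hs.out Nat.prime_two).1 e ▸ hW)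
    · obtain ⟨f, -, e'⟩ := h.pow
      exact (Nat.prime_dvd_prime_iff_eq hs.out Nat.prime_three).1
        (hs.out.dvd_of_dvd_pow (e' ▸ hs.out.dvd_of_dvd_pow e))⟩ hX.le
  exact hX.not_dvd (relIndex_mul_relIndex X L H h2 h.le ▸ (h.relIndex ▸ hW).mul_left _)

theorem main (hB : Bor t W P T Q) (ti : TI Q) (hQ : ♯Q = q ^ 3) (hi : 𝐍(Q).index = q ^ 3 + 1) :
    W = ⊥ := by
  by_contra hW
  obtain ⟨w, hw, hs⟩ := exists_prime_order_mem hW
  have := Fact.mk hs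
  have := Fact.mk Nat.prime_three
  have := Fintype.ofFinite G
  have := h.cycW
  have sd := LBx.sdpN h hB
  have hsW := orderOf_dvd_card hw
  have s3 : orderOf w ≠ 3 := fun e => hB.three (e ▸ hsW)
  have hm := dvd_of_dvd h hsW (by rw [← 𝐍(Q).card_mul_index, hi, ← sd.card, hQ, LBx.card_K h]) s3
  have n1 : W ≤ 𝐍(zpowers t ⊔ T) := le_norm_sup (le_norm_of_le_cent ((h.W_le.trans h.H_le).trans
    (cent_zpowers t).ge)) h.WT
  have h1 : zpowers t ⊔ T ≤ 𝐍(Q) := le_sup_left.trans sd.right_le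
  have h2 : W ≤ 𝐍(Q) := le_sup_right.trans sd.right_le
  have sd' : IsSdprod (Q ⊔ (zpowers t ⊔ T)) W 𝐍(Q) := by
    refine ⟨by rw [sup_assoc, hB.norm], le_norm_sup h2 n1, card_eq_one_iff.1 ?_⟩
    have := (IsProd.of_norm (.inr (le_norm_sup h2 n1))).card
    rw [sup_assoc, sd.sup_eq, ← sd.card, LBx.card_K h, ← (sd.mono le_rfl le_sup_left h1).card,
      LBx.card_tT h, mul_assoc] at this
    exact (Nat.mul_eq_left (by rw [← LBx.card_K h, sd.card]; exact (card_pos' _).ne')).1 this.symm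
  obtain ⟨f, hf⟩ := Pf.P2.exists_proj sd'
  obtain ⟨χ, χ1, hχ⟩ := exists_chi (A := W) hsW
  have hl : ∀ b : 𝐍(Q), ∀ a ∈ Q ⊔ (zpowers t ⊔ T), ∀ v : W, (b : G) = a * v → f b = v :=
    fun b a ha v e => Subtype.ext (by rw [← hf a ha v v.2 (e ▸ b.2)]; congr 2; exact Subtype.ext e)
  obtain ⟨j, hj, j1, j2⟩ := h.exj
  have j3 := h.sq j hj.1
  have j4 : j ∉ 𝐍(Q) := fun e => j2 (by
    have := (La.inf_L h (sup_le ((LBx.P_le h hB).trans (le_norm_self Q)) (le_sup_right.trans h1))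
      (La.not_le_norm h hB.syl.isPGroup (LBx.Q_ne h hB) (h1 (mem_sup_left (mem_zpowers t))))).le ⟨e, hj.2⟩
    exact eq_one_of_odd_of_sq (odd_of_mem (La.oddPT h) this) j3 ▸ one_mem T)
  have j5 : ∀ u ∈ Q, j⁻¹ * u * j ∈ 𝐍(Q) → u = 1 := fun u hu e => by_contra fun u1 => j4 (ti j
    fun e' => u1 (mem_bot.1 (e' ▸ ⟨hu, mem_conj.2 (hB.syl.mem_of_mem_norm (mem_top _) e
      (by simpa using (hB.syl.piGrp.piElt hu).conj j⁻¹))⟩)))
  have j6 : j ∈ 𝐍(zpowers t ⊔ T) := zpowers_le.1 (le_norm_sup (zpowers_le.2 (cent_le_norm _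
    (cent_zpowers t ▸ h.L_le hj.2))) (zpowers_le.2 j1))
  obtain ⟨d₁, d₂, R, μ, k1, k2, k3, k4, k5, k6⟩ := hecke (T := T) (La.der_top h) (χ.comp f) (fun e => χ1 (MonoidHom.ext fun v => by
      rw [← hl ⟨v, h2 v.2⟩ 1 (one_mem _) v (one_mul _).symm]; exact congr($e _)))
    (fun b => hχ _) (le_norm_self Q) (fun u hu => by
      rw [MonoidHom.comp_apply, hl u u (mem_sup_left hu) 1 (mul_one _).symm, map_one]) j4 j3
    (fun b => by
      obtain ⟨u, hu, _, hd, e⟩ := sd.mem_iff.1 b.2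
      obtain ⟨a, ha, v, hv, rfl⟩ := (mem_sup_norm_left n1).1 hd
      have e1 := conj_mem_of_norm j6 ha
      refine ⟨u, hu, ⟨_, mul_mem (h1 e1) (h2 hv)⟩, ?_, congrArg χ ((hl _ _ (mem_sup_right e1) ⟨v, hv⟩
        rfl).trans (hl b _ (mul_mem (mem_sup_left hu) (mem_sup_right ha)) ⟨v, hv⟩
          (by rw [← e, mul_assoc])).symm)⟩
      have e2 := mem_cent_iff.1 (h.W_le_centS hv) j hj.1
      simp [← e, inv_eq j3, mul_assoc, ← e2, ← mul_assoc j j, j3])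
    (fun u hu u1 => by
      obtain ⟨a, ha, b, hb, e⟩ := cover (g := j * u * j) (le_norm_self Q) j4 (hQ ▸ hi) j5
        fun e => u1 (j5 u hu (by rwa [inv_eq j3]))
      exact ⟨⟨a, le_norm_self Q ha⟩, ⟨b, hb⟩, e⟩)
    fun x hx => ⟨h1 (mem_sup_right (by simpa [inv_eq j3] using conj_mem_of_norm j1 hx)),
      fun u hu => ⟨conj_mem_of_norm (h1 (mem_sup_right hx)) hu, fun e => or_iff_not_imp_right.2
        fun x1 => mem_bot.1 ((Ind.inf_eq_bot_of_not_dvd hB.syl.isPGroup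
          (not_dvd_cent h hB.three hx x1)).le ⟨hu, mem_cent1_comm.1 (mem_cent1_iff_conj.2 e)⟩)⟩⟩
  obtain ⟨m, k7, k8⟩ := int_sq hs k5 (by have := card_pos' T; positivity) k6
  obtain ⟨n2, n3, -⟩ := LBx.num h
  obtain ⟨e, -, rfl⟩ := h.pow
  rw [hQ, La.cardT h] at k4 k7
  exact arith hs s3 h.par.1 n3 (by exact_mod_cast hm) k4 k1 k2 (k3.trans hi) (by exact_mod_cast k7) k8

end Cfsg.Agent.GW2.W1

namespace Cfsg.Agent.GW2

open Subgroup Cfsg.Agent.OO Cfsg.Agent.Coprime Cfsg.Agent.GW Cfsg.Agent.JR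

universe u

theorem w1 : W1.{u} := by
  intro G _ _ t H L F _ _ hJ
  obtain ⟨W, S, P, T, p, r, k, h, -⟩ := fr2 G t H L F hJ
  suffices W = ⊥ by rw [← h.sup, this, sup_bot_eq]
  by_contra hW
  rcases Ind.jrp fr2 q5 _ G t H L F (Nat.lt_succ_self _) hJ with ⟨h5, -⟩ | ⟨j, -, hq, -, Q, h1, h2, h3,
    h4, h5, h6⟩
  · obtain rfl : p = 5 := (Nat.prime_dvd_prime_iff_eq h.prime Nat.prime_five).1 (h5 ▸ h.dvd_q)
    exact hW (card_eq_one_iff.1 (Nat.dvd_one.1 (h.cardW 1 h5)))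
  have := Fact.mk Nat.prime_two
  have := Fact.mk Nat.prime_three
  obtain rfl : p = 3 := (Nat.prime_dvd_prime_iff_eq h.prime Nat.prime_three).1
    (h.prime.dvd_of_dvd_pow (hq ▸ h.dvd_q))
  obtain ⟨w, hw, hs⟩ := exists_prime_order_mem hW
  obtain ⟨x, hx, hp, h7, h8⟩ := h.exx rfl
  obtain ⟨ρ, hρ, r1⟩ := h.exρ rfl
  have hc := Ind.cent_le h hx hp h7 h8
  have hY := Ind.Cx.y0 ⟨h, hw, rfl, hs⟩ hx hp h8 hc fun d _ _ d3 e hP => by
    rw [Ind.ti_kill h1 h5 h3 h.t1 h.t2 h4 (fun e => ?_) r1 (h.uni.elem.2 ρ hρ.1)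
      (mem_cent1_comm.1 (h.L_le (h.uni.le hρ.1))) (cent_le_cent1 hρ.1 hP) e d3]
    · exact one_mem _
    have h9 : 4 * 4 ∣ ♯(⊤ : Subgroup G) := by
      rw [card_top, ← 𝐍(Q).card_mul_index, h6]
      refine mul_dvd_mul e (.trans ⟨k, (h.three rfl).1⟩ ?_)
      simpa using Odd.nat_add_dvd_pow_add_pow (Fintype.card F) 1 (show Odd 3 by decide)
    have := dvd_partn (card_pos' _).ne' h9 (isPiNum_singleton_pow Nat.prime_two 4)
    rw [← h.syl.card_eq_partn, h.cardS] at this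
    norm_num at this
  obtain ⟨Q', hB⟩ := la gzl G t H L W S P T _ r k h x hx hp hc hY
  obtain ⟨ti, h9⟩ := lb G t H L W S P T Q' _ r k h x hx hp hc hY hB
  obtain ⟨h10, h11⟩ := h9 (h2.symm.trans (h1.card_eq_card hB.syl)).le
  exact hW (W1.main h hB ti h10 h11)

end Cfsg.Agent.GW2
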