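import Cfsg.Agent.Lib.GW2.Hyp2

/-!
# Dihedral Sylow 2-subgroups: elementary facts
-/

set_option autoImplicit false
set_option linter.unusedSectionVars false

namespace Cfsg.Agent.GW2

open Subgroup Cfsg.Agent.OO Cfsg.Agent.Coprime GW
open scoped commutatorElement Pointwise

universe u

variable {G : Type u} {G' : Type*} [Group G] [Group G'] {X Y P Q R L N M K : Subgroup G}
  {a c e f g s t u v w x y z ρ : G}

theorem cj_mul (g a b : G) : g * (a * b) * g⁻¹ = g * a * g⁻¹ * (g * b * g⁻¹) := by group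

theorem mul_cj (a b y : G) : a * b * y * (a * b)⁻¹ = a * (b * y * b⁻¹) * a⁻¹ := by group

theorem cj_inj : g * x * g⁻¹ = g * y * g⁻¹ ↔ x = y := by simp

namespace F4

variable (h : F4 t e)
include h

theorem symm : F4 e t := ⟨h.e1, h.t1, h.ne.symm, h.e2, h.t2, h.comm.symm⟩

theorem mul_ne_one : t * e ≠ 1 := fun e' =>
  h.ne ((inv_eq h.t2).symm.trans (inv_eq_of_mul_eq_one_right e'))

theorem mul_sq : t * e * (t * e) = 1 := by rw [h.comm.symm.mul_mul_mul_comm, h.t2, h.e2, one_mul]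

theorem mul : F4 t (t * e) := ⟨h.t1, h.mul_ne_one, fun e' => h.e1 (by simpa using e'), h.t2, h.mul_sq,
  (Commute.refl t).mul_right h.comm⟩

theorem tte : t * (t * e) = e := by rw [← mul_assoc, h.t2, one_mul]

theorem ete : e * (t * e) = t := by rw [← mul_assoc, ← h.comm.eq, mul_assoc, h.e2, mul_one]

theorem rot : F4 e (t * e) := h.comm.eq ▸ h.symm.mul

theorem conj (g : G) : F4 (g * t * g⁻¹) (g * e * g⁻¹) :=
  ⟨conj_ne_one.2 h.t1, conj_ne_one.2 h.e1, fun e' => h.ne (cj_inj.1 e'), conj_sq h.t2 g,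
    conj_sq h.e2 g, h.comm.map (MulAut.conj g)⟩

theorem conj_cent (hg : g ∈ 𝐂[t]) : F4 t (g * e * g⁻¹) := mem_cent1_iff_conj.1 hg ▸ h.conj g

theorem e_mem : e ∈ 𝐂[t] := mem_cent1.2 h.comm.symm

theorem t_mem : t ∈ 𝐂[e] := mem_cent1.2 h.comm

theorem le_cent : S4 t e ≤ 𝐂[t] := S4_le.2 ⟨mem_cent1_self t, h.e_mem⟩

theorem le_cent' : S4 t e ≤ 𝐂[e] := S4_le.2 ⟨h.t_mem, mem_cent1_self e⟩

theorem S4_rot : S4 e (t * e) = S4 t e := by rw [h.comm.eq, S4_mul, S4_comm]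

theorem cent_mul : 𝐂[t] ⊓ 𝐂[t * e] = 𝐂[t] ⊓ 𝐂[e] := by rw [← cent_S4, S4_mul, cent_S4]

theorem inf_cent_mul (hQ : Q ≤ 𝐂[t]) : Q ⊓ 𝐂[t * e] = Q ⊓ 𝐂[e] := by
  rw [← inf_eq_left.2 hQ, inf_assoc, h.cent_mul, inf_assoc]

theorem mk_pair (h1 : t ∈ X) (h2 : e ∈ X) (h8 : ¬ 8 ∣ ♯X) : Pair X t e :=
  ⟨h1, h2, h.t1, h.e1, h.ne, h.t2, h.e2, h.comm, h8⟩

variable [Finite G]

theorem pair : Pair (S4 t e) t e := ZG.pair_mk h.t1 h.e1 h.ne h.t2 h.e2 h.comm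

theorem mem : x ∈ S4 t e ↔ x = 1 ∨ x = t ∨ x = e ∨ x = t * e := h.pair.mem_S4

theorem two : IsPGroup 2 (S4 t e) := h.pair.isEp.isPGroup

theorem sq (hx : x ∈ S4 t e) : x * x = 1 := by simpa [_root_.sq] using h.pair.isEp.abelem.2 x hx

theorem ab : Ab (S4 t e) := h.pair.ab

theorem card : ♯(S4 t e) = 4 := h.pair.card

theorem coprime (hQ : Odd ♯Q) : (♯Q).Coprime ♯(S4 t e) := h.pair.coprime hQ

theorem le_of_forall (hn : S4 t e ≤ 𝐍(Q)) (ho : Odd ♯Q) (h1 : Q ⊓ 𝐂[t] ≤ Y) (h2 : Q ⊓ 𝐂[e] ≤ Y)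
    (h3 : Q ⊓ 𝐂[t * e] ≤ Y) : Q ≤ Y := h.pair.le_of_forall hn ho h1 h2 h3

theorem S4_eq (h' : F4 t x) (hx : x ∈ S4 t e) : S4 t x = S4 t e :=
  eq_of_le_of_card_le (S4_le.2 ⟨t_mem_S4 _ _, hx⟩) (by rw [h.card, h'.card])

theorem eq_or (h' : F4 t x) (hx : x ∈ S4 t e) : x = e ∨ x = t * e :=
  ((h.mem.1 hx).resolve_left h'.e1).resolve_left h'.ne.symm

/-- an element of odd order that normalizes the four-group and centralizes `t` -/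
theorem mem_cent_of_odd (hn : g ∈ 𝐍(S4 t e)) (hc : g ∈ 𝐂[t]) (ho : Odd (orderOf g)) : g ∈ 𝐂[e] :=
  mem_cent1.2 (ZG.comm_of_odd h.pair hn (mem_cent1.1 hc) ho)

end F4

theorem _root_.Cfsg.Agent.GW.Pair.f4 (h : Pair X t e) : F4 t e :=
  ⟨h.t_ne, h.s_ne, h.ne, h.t_sq, h.s_sq, h.comm⟩

theorem _root_.Cfsg.Agent.GW.V4.rot2 (h : V4 X t e ρ) : Rot t e ρ := ⟨h.ρt, h.ρs⟩

theorem f4_of_mem (t1 : t ≠ 1) (t2 : t * t = 1) (e1 : e ≠ 1) (e2 : e * e = 1) (hc : e ∈ 𝐂[t])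
    (hne : e ≠ t) : F4 t e := ⟨t1, e1, hne.symm, t2, e2, (mem_cent1.1 hc).symm⟩

namespace Rot

variable (r : Rot t e ρ)
include r

theorem conj (g : G) : Rot (g * t * g⁻¹) (g * e * g⁻¹) (g * ρ * g⁻¹) :=
  ⟨by rw [← r.ρt]; group, by rw [← cj_mul g t e, ← r.ρe]; group⟩

theorem ρte (h : F4 t e) : ρ * (t * e) * ρ⁻¹ = t := by rw [cj_mul, r.ρt, r.ρe, h.ete]

theorem rot (h : F4 t e) : Rot e (t * e) ρ := ⟨r.ρe, by rw [r.ρte h, h.ete]⟩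

theorem inv_t (h : F4 t e) : ρ⁻¹ * t * ρ⁻¹⁻¹ = t * e := by nth_rewrite 1 [← r.ρte h]; group

theorem inv_e : ρ⁻¹ * e * ρ⁻¹⁻¹ = t := by rw [← r.ρt]; group

theorem inv_te : ρ⁻¹ * (t * e) * ρ⁻¹⁻¹ = e := by rw [← r.ρe]; group

theorem inv (h : F4 t e) : Rot t (t * e) ρ⁻¹ := ⟨r.inv_t h, by rw [r.inv_te, h.tte]⟩

theorem sq_t : ρ * ρ * t * (ρ * ρ)⁻¹ = t * e := by rw [mul_cj, r.ρt, r.ρe]

theorem not_mem (h : F4 t e) : ρ ∉ 𝐂[t] := fun e' =>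
  h.ne ((mem_cent1_iff_conj.1 e').symm.trans r.ρt)

theorem v4 (h : Pair X t e) (hρ : ρ ∈ X) : V4 X t e ρ :=
  ⟨h.t_mem, hρ, h.t_ne, h.t_sq, h.comm, r.ρt, r.ρe, h.not_dvd⟩

theorem mul_left (hx : x ∈ 𝐂[t] ⊓ 𝐂[e]) : Rot t e (x * ρ) :=
  ⟨by rw [mul_cj, r.ρt, mem_cent1_iff_conj.1 hx.2], by
    rw [mul_cj, r.ρe, cj_mul, mem_cent1_iff_conj.1 hx.1, mem_cent1_iff_conj.1 hx.2]⟩

/-- a normal subgroup that contains an element fixing `t` and moving `e` contains a rotation -/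
theorem of_swap (h : F4 t e) (h1 : w ∈ 𝐂[t]) (h2 : w * e * w⁻¹ = t * e) :
    Rot t e (w * (ρ * w * ρ⁻¹)) := by
  have h3 := mem_cent1_iff_conj.1 h1
  have k : ∀ x, ρ * w * ρ⁻¹ * x * (ρ * w * ρ⁻¹)⁻¹ = ρ * (w * (ρ⁻¹ * x * ρ⁻¹⁻¹) * w⁻¹) * ρ⁻¹ :=
    fun x => by group
  constructor
  · rw [mul_cj, k, r.inv_t h, cj_mul w t e, h3, h2, h.tte, r.ρe, cj_mul, h3, h2, h.tte]
  · rw [mul_cj, k, r.inv_e, h3, r.ρt, h2]

theorem exists_mem (h : F4 t e) (hn : ρ ∈ 𝐍(K)) (hw : w ∈ K) (h1 : w ∈ 𝐂[t])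
    (h2 : w * e * w⁻¹ = t * e) : ∃ ρ' ∈ K, Rot t e ρ' :=
  ⟨_, mul_mem hw (conj_mem_of_norm hn hw), r.of_swap h h1 h2⟩

theorem le_of_mem (hn : ρ ∈ 𝐍(K)) (ht : t ∈ K) : S4 t e ≤ K :=
  S4_le.2 ⟨ht, r.ρt ▸ conj_mem_of_norm hn ht⟩

variable [Finite G]

theorem mem_norm : ρ ∈ 𝐍(S4 t e) :=
  ZG.mem_norm_S4 (r.ρt ▸ s_mem_S4 _ _) (r.ρe ▸ mul_mem (t_mem_S4 _ _) (s_mem_S4 _ _))

theorem conj_cent : ρ •ᶜ (𝐂[t] ⊓ 𝐂[e]) = 𝐂[t] ⊓ 𝐂[e] := by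
  rw [← cent_S4, ← cent_conj, conj_eq_of_mem_norm r.mem_norm]

theorem exists_conj (h : F4 t e) (hx : x ∈ S4 t e) (h1 : x ≠ 1) :
    ∃ g ∈ zpowers ρ, g * t * g⁻¹ = x := by
  rcases h.mem.1 hx with rfl | rfl | rfl | rfl
  exacts [absurd rfl h1, ⟨1, one_mem _, by simp⟩, ⟨ρ, mem_zpowers ρ, r.ρt⟩,
    ⟨ρ⁻¹, inv_mem (mem_zpowers ρ), r.inv_t h⟩]

end Rot

theorem OC.mono_of (h : OC X) (hY : X ≤ Y) (h' : ∀ a ∈ Y, a * a = 1 → a ∈ X) : OC Y :=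
  fun a ha b hb a1 a2 b1 b2 => (h a (h' a ha a2) b (h' b hb b2) a1 a2 b1 b2).imp
    fun _ k => ⟨hY k.1, k.2⟩

theorem OC.conj (h : OC X) (g : G) : OC (g •ᶜ X) := fun a ha b hb a1 a2 b1 b2 => by
  obtain ⟨k, hk, e⟩ := h _ (mem_conj.1 ha) _ (mem_conj.1 hb) (conj_ne_one'.2 a1)
    (by simpa using conj_sq a2 g⁻¹) (conj_ne_one'.2 b1) (by simpa using conj_sq b2 g⁻¹)
  refine ⟨_, conj_mem_conj hk, ?_⟩
  calc _ = g * (k * (g⁻¹ * a * g) * k⁻¹) * g⁻¹ := by group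
    _ = _ := by rw [e]; group

/-- a normal subgroup of even order contains all involutions -/
theorem OC.mem_of_norm (h : OC X) (hn : X ≤ 𝐍(K)) (ha : a ∈ X) (hK : a ∈ K) (a1 : a ≠ 1)
    (a2 : a * a = 1) (hx : x ∈ X) (x2 : x * x = 1) : x ∈ K := by
  by_cases x1 : x = 1
  · exact x1 ▸ one_mem _
  obtain ⟨g, hg, rfl⟩ := h a ha x hx a1 a2 x1 x2
  exact conj_mem_of_norm (hn hg) hK

theorem OC.isProd (h : OC L) (hL : L ⊴ N) (ht : t ∈ L) (t1 : t ≠ 1) (t2 : t * t = 1) :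
    IsProd L (N ⊓ 𝐂[t]) N := by
  refine IsProd.of_forall hL.le inf_le_left fun g hg => ?_
  obtain ⟨l, hl, e⟩ := h t ht _ (hL.conj_mem hg ht) t1 t2 (conj_ne_one.2 t1) (conj_sq t2 g)
  refine ⟨l, hl, l⁻¹ * g, ⟨N.mul_mem (N.inv_mem (hL.le hl)) hg, mem_cent1_iff_conj.2 ?_⟩, by group⟩
  rw [mul_cj, ← e]; group

namespace Cf

variable (h : Cf X a s t)
include h

theorem s1 : s ≠ 1 := fun e => h.sa (e ▸ one_mem _)

theorem le : S4 a s ≤ X := h.syl.le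

theorem t_mem : t ∈ X := zpowers_le.2 h.a_mem h.ta

theorem as_mem : a * s ∈ X := mul_mem h.a_mem h.s_mem

theorem inv' (hx : x ∈ zpowers a) : s * x * s⁻¹ = x⁻¹ := ZG.inv_of_mem h.inv hx

theorem out_sq (hx : x ∈ zpowers a) : x * s * (x * s) = 1 := by
  rw [show x * s * (x * s) = x * (s * x * s⁻¹) * (s * s) by group, h.inv' hx, h.s2]; group

theorem as_not : a * s ∉ zpowers a := fun e => h.sa ((mul_mem_cancel_left (mem_zpowers a)).1 e)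

theorem f4 : F4 t s := ⟨h.t1, h.s1, fun e => h.sa (e ▸ h.ta), h.t2, h.s2, by
  have := h.inv' h.ta
  rw [inv_eq h.t2, mul_inv_eq_iff_eq_mul] at this
  exact this.symm⟩

theorem swap : Cf X a (a * s) t :=
  { h with
    s_mem := h.as_mem
    syl := S4_mul a s ▸ h.syl
    s2 := h.out_sq (mem_zpowers a)
    sa := h.as_not
    inv := by rw [mul_cj, h.inv]; group }

theorem f4' : F4 t (a * s) := h.swap.f4

theorem a_cent : a ∈ 𝐂[t] := mem_cent1.2 (ZG.zp_comm (mem_zpowers a) h.ta)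

theorem le_cent : S4 a s ≤ 𝐂[t] := S4_le.2 ⟨h.a_cent, h.f4.e_mem⟩

theorem two : IsPGroup 2 (S4 a s) := h.syl.isPGroup

theorem four_le : S4 t s ≤ S4 a s := S4_le.2 ⟨zpowers_le.2 (t_mem_S4 a s) h.ta, s_mem_S4 _ _⟩

theorem four_le' : S4 t (a * s) ≤ S4 a s := S4_mul a s ▸ h.swap.four_le

theorem conj (g : G) : Cf (g •ᶜ X) (g * a * g⁻¹) (g * s * g⁻¹) (g * t * g⁻¹) where
  a_mem := conj_mem_conj h.a_mem
  s_mem := conj_mem_conj h.s_mem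
  syl := conj_S4 g a s ▸ h.syl.conj g
  s2 := conj_sq h.s2 g
  sa := by rw [← conj_zpowers, conj_mem_conj_iff]; exact h.sa
  inv := by rw [show g * s * g⁻¹ * (g * a * g⁻¹) * (g * s * g⁻¹)⁻¹ = g * (s * a * s⁻¹) * g⁻¹ by group,
    h.inv]; group
  ta := conj_zpowers g a ▸ conj_mem_conj h.ta
  t1 := conj_ne_one.2 h.t1
  t2 := conj_sq h.t2 g
  a2 := by rw [← cj_mul]; exact conj_ne_one.2 h.a2

variable [Finite G]

theorem mono (h1 : S4 a s ≤ Y) (h2 : Y ≤ X) : Cf Y a s t :=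
  { h with a_mem := (S4_le.1 h1).1, s_mem := (S4_le.1 h1).2, syl := h.syl.mono h1 h2 }

theorem cent : Cf (X ⊓ 𝐂[t]) a s t := h.mono (le_inf h.le h.le_cent) inf_le_left

theorem mem : x ∈ S4 a s ↔ x ∈ zpowers a ∨ x * s ∈ zpowers a :=
  ZG.mem_S4_iff (h.inv ▸ inv_mem (mem_zpowers a)) h.s2

theorem eq_t (hx : x ∈ zpowers a) (x1 : x ≠ 1) (x2 : x * x = 1) : x = t :=
  ZG.invol_eq hx h.ta x1 x2 h.t1 h.t2

theorem out (hx : x ∈ S4 a s) (h1 : x ∉ zpowers a) : ∃ y ∈ zpowers a, x = y * s :=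
  ⟨_, (h.mem.1 hx).resolve_left h1, by rw [mul_assoc, h.s2, mul_one]⟩

theorem sq_of_not_mem (hx : x ∈ S4 a s) (h1 : x ∉ zpowers a) : x * x = 1 := by
  obtain ⟨y, hy, rfl⟩ := h.out hx h1
  exact h.out_sq hy

theorem not_mem_of_f4 (p : F4 t x) : x ∉ zpowers a := fun e => p.ne (h.eq_t e p.e1 p.e2).symm

theorem inv_of_out (hx : x ∈ S4 a s) (h1 : x ∉ zpowers a) (hy : y ∈ zpowers a) :
    x * y * x⁻¹ = y⁻¹ := by
  obtain ⟨z, hz, rfl⟩ := h.out hx h1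
  rw [mul_cj, h.inv' hy, ZG.zp_comm hz (inv_mem hy), mul_inv_cancel_right]

theorem cent_out (hx : x ∈ S4 a s) (h1 : x ∉ zpowers a) (hy : y ∈ S4 a s) (hc : y ∈ 𝐂[x]) :
    y ∈ S4 t x := by
  have key : ∀ y ∈ zpowers a, y ∈ 𝐂[x] → y ∈ S4 t x := fun y hy hc => by
    have e := h.inv_of_out hx h1 hy
    rw [mem_cent1_iff_conj.1 (mem_cent1_comm.1 hc)] at e
    by_cases y1 : y = 1
    · exact y1 ▸ one_mem _
    · exact h.eq_t hy y1 (mul_eq_one_iff_eq_inv.2 e) ▸ t_mem_S4 _ _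
  by_cases e : y ∈ zpowers a
  · exact key y e hc
  obtain ⟨y', hy', rfl⟩ := h.out hy e
  obtain ⟨x', hx', rfl⟩ := h.out hx h1
  refine (mul_mem_cancel_right (inv_mem (s_mem_S4 _ _))).1 (key _ ?_ (mul_mem hc
    (inv_mem (mem_cent1_self _))))
  rw [show y' * s * (x' * s)⁻¹ = y' * x'⁻¹ by group]
  exact mul_mem hy' (inv_mem hx')

theorem exists_sq : ∃ c ∈ zpowers a, c * c = t := by
  rcases ZG.zp_cases h.ta with ⟨i, e⟩ | ⟨i, e⟩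
  · exact ⟨a ^ i, zpow_mem (mem_zpowers a) i, by rw [← e]; exact ((Commute.refl a).mul_zpow i).symm⟩
  refine absurd ?_ (ZG.not_odd h.two (mul_mem (t_mem_S4 a s) (t_mem_S4 a s)) h.a2)
  have e1 : (a * a) ^ (2 * i + 1) = 1 := by
    have e2 : t = a * (a * a) ^ i := by simp only [e, mul_inv_cancel_left]
    rw [← h.t2, e2, ← zpow_two a]; group
  obtain ⟨m, hm⟩ := orderOf_dvd_iff_zpow_eq_one.2 e1
  rw [Nat.odd_iff]
  by_contra e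
  obtain ⟨l, hl⟩ : ∃ l, orderOf (a * a) = 2 * l := ⟨orderOf (a * a) / 2, by omega⟩
  rw [hl, Nat.cast_mul, mul_assoc] at hm
  omega

theorem conj_of_sq (hc : c ∈ zpowers a) (e : c * c = t) (hx : x ∈ S4 a s) (h1 : x ∉ zpowers a) :
    c * x * c⁻¹ = t * x := by
  rw [← e, show c * x * c⁻¹ = c * (x * c⁻¹ * x⁻¹) * x by group, h.inv_of_out hx h1 (inv_mem hc),
    inv_inv]

/-- the element of order 4 -/
theorem exists_c : ∃ c ∈ zpowers a, c * c = t ∧ c * s * c⁻¹ = t * s ∧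
    c * (a * s) * c⁻¹ = t * (a * s) := by
  obtain ⟨c, hc, e⟩ := h.exists_sq
  exact ⟨c, hc, e, h.conj_of_sq hc e (s_mem_S4 _ _) h.sa, h.conj_of_sq hc e
    (mul_mem (t_mem_S4 _ _) (s_mem_S4 _ _)) h.as_not⟩

theorem isIn : In X t := ⟨h.t_mem, h.t1, h.t2, .inl
  (h.exists_sq.imp fun _ e => ⟨zpowers_le.2 h.a_mem e.1, e.2⟩)⟩

theorem eight : 8 ∣ ♯X := by
  obtain ⟨c, hc, -, e, -⟩ := h.exists_c
  by_contra h8
  have := (h.f4.mk_pair h.t_mem h.s_mem h8).ab_of_two _ h.le h.two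
  rw [ab_iff.1 this c (zpowers_le.2 (t_mem_S4 a s) hc) s (s_mem_S4 a s), mul_inv_cancel_right] at e
  exact h.t1 (left_eq_mul.1 (e.trans h.f4.comm.eq))

theorem cls_S (hx : x ∈ S4 a s) (h1 : x ∉ zpowers a) :
    ∃ g ∈ zpowers a, g * x * g⁻¹ = s ∨ g * x * g⁻¹ = a * s := by
  obtain ⟨_, ⟨i, rfl⟩, rfl⟩ := h.out hx h1
  have k : ∀ j : ℤ, a ^ j * (a ^ i * s) * (a ^ j)⁻¹ = a ^ (i + 2 * j) * s := fun j => by
    rw [show a ^ j * (a ^ i * s) * (a ^ j)⁻¹ = a ^ j * a ^ i * (s * (a ^ j)⁻¹ * s⁻¹) * s by group,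
      h.inv' (inv_mem (zpow_mem (mem_zpowers a) j))]
    group
  obtain ⟨j, e | e⟩ := Int.even_or_odd' i
  · exact ⟨_, zpow_mem (mem_zpowers a) (-j), .inl (by rw [k, e]; group)⟩
  · exact ⟨_, zpow_mem (mem_zpowers a) (-j), .inr (by rw [k, e]; group)⟩

/-- the two classes of reflections -/
theorem cls (he : e ∈ X) (p : F4 t e) :
    ∃ g ∈ X ⊓ 𝐂[t], g * e * g⁻¹ = s ∨ g * e * g⁻¹ = a * s := by
  obtain ⟨g, hg, e'⟩ := h.cent.syl.exists_conj_le (zpowers_le.2 ⟨he, p.e_mem⟩) (ZG.two_elt p.e2)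
  obtain ⟨k, hk, e''⟩ := h.cls_S (e' (conj_mem_conj (mem_zpowers e))) (h.not_mem_of_f4 (p.conj_cent hg.2))
  exact ⟨k * g, mul_mem (zpowers_le.2 h.cent.a_mem hk) hg, by rwa [mul_cj]⟩

theorem oc_of_rot {ρ' : G} (h1 : ρ ∈ X) (r : ρ * t * ρ⁻¹ = s) (h2 : ρ' ∈ X)
    (r' : ρ' * t * ρ'⁻¹ = a * s) : OC X := by
  have key : ∀ x ∈ X, x ≠ 1 → x * x = 1 → ∃ g ∈ X, g * x * g⁻¹ = t := fun x hx x1 x2 => by
    obtain ⟨g, hg, e⟩ := h.syl.exists_conj_le (zpowers_le.2 hx) (ZG.two_elt x2)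
    have e1 := e (conj_mem_conj (mem_zpowers x))
    by_cases e2 : g * x * g⁻¹ ∈ zpowers a
    · exact ⟨g, hg, h.eq_t e2 (conj_ne_one.2 x1) (conj_sq x2 g)⟩
    obtain ⟨k, hk, e3 | e3⟩ := h.cls_S e1 e2
    · exact ⟨ρ⁻¹ * (k * g), mul_mem (inv_mem h1) (mul_mem (zpowers_le.2 h.a_mem hk) hg), by
        rw [mul_cj, mul_cj, e3, ← r]; group⟩
    · exact ⟨ρ'⁻¹ * (k * g), mul_mem (inv_mem h2) (mul_mem (zpowers_le.2 h.a_mem hk) hg), by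
        rw [mul_cj, mul_cj, e3, ← r']; group⟩
  intro x hx y hy x1 x2 y1 y2
  obtain ⟨g, hg, e⟩ := key x hx x1 x2
  obtain ⟨k, hk, e'⟩ := key y hy y1 y2
  exact ⟨k⁻¹ * g, mul_mem (inv_mem hk) hg, by rw [mul_cj, e, ← e']; group⟩

/-- a normal subgroup of even order contains `t` -/
theorem mem_of_norm (hn : S4 a s ≤ 𝐍(K)) (hK : K ≤ X) (he : ¬ Odd ♯K) : t ∈ K := by
  have h1 := (h.syl.inf_of_norm hK hn).ne_bot (even_iff_two_dvd.1 (Nat.not_odd_iff_even.1 he))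
  obtain ⟨z, hz, z1⟩ := exists_mem_ne_one (inf_cent_ne_bot_of_nil h.syl.nil
    ⟨inf_le_left, le_norm_inf (le_norm_self _) hn⟩ h1)
  obtain ⟨y, hy, y1, y2⟩ := ZG.exists_invol (ZG.not_odd h.two hz.1.1 z1)
  have h2 := zpowers_le.2 hz hy
  refine h.eq_t (by_contra fun e => h.a2 ?_) y1 y2 ▸ h2.1.2
  have h3 := h.inv_of_out h2.1.1 e (mem_zpowers a)
  rw [mem_cent_iff_conj.1 h2.2 a (t_mem_S4 a s)] at h3
  exact mul_eq_one_iff_eq_inv.2 h3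

theorem norm_le : 𝐍(S4 a s) ≤ 𝐂[t] := fun g hg => by
  have h1 : g * a * g⁻¹ ∈ zpowers a := by_contra fun e => h.a2 (by
    simpa [← cj_mul] using h.sq_of_not_mem (conj_mem_of_norm hg (t_mem_S4 a s)) e)
  exact mem_cent1_iff_conj.2 (h.eq_t (ZG.conj_mem_zp h1 h.ta) (conj_ne_one.2 h.t1) (conj_sq h.t2 g))

theorem of_cent (h1 : Y ⊓ 𝐂[t] ≤ X) (h2 : S4 a s ≤ Y) : Cf Y a s t :=
  { h with
    a_mem := (S4_le.1 h2).1
    s_mem := (S4_le.1 h2).2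
    syl := IsSylowIn.of_syl_norm h2 (h.syl.mono (le_inf h2 (le_norm_self _))
      ((inf_le_inf_left _ h.norm_le).trans h1)) }

end Cf

namespace DH

variable (h : DH G)
include h

theorem of_injective {f : G' →* G} (hf : Function.Injective f) : DH G' := fun P hP => by
  obtain ⟨_, ⟨a, ha, rfl⟩, H1, H⟩ := h _ (hP.map f)
  have e : ∀ x, f x ∈ zpowers (f a) ↔ x ∈ zpowers a := fun x => by
    rw [← MonoidHom.map_zpowers, mem_map_iff_mem hf]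
  refine ⟨a, ha, fun x hx h1 => hf ?_, fun x hx y hy h1 h2 => (e _).1 ?_⟩
  · rw [map_mul, map_one]; exact H1 _ (mem_map_of_mem f hx) (mt (e _).1 h1)
  · rw [map_mul]
    exact H _ (mem_map_of_mem f hx) _ (mem_map_of_mem f hy) (mt (e _).1 h1) (mt (e _).1 h2)

theorem subgroup (H : Subgroup G) : DH H := h.of_injective H.subtype_injective

theorem alm : ZG.Alm G := fun P hP => (h P hP).imp fun _ e => ⟨e.1, e.2.2⟩

variable [Finite G]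

theorem of_surjective {f : G →* G'} (hf : Function.Surjective f) : DH G' := fun P hP => by
  obtain ⟨Q, hQ, rfl⟩ := ZG.exists_map_eq hf hP
  obtain ⟨a, ha, H1, H⟩ := h Q hQ
  have e : ∀ x, x ∈ zpowers a → f x ∈ zpowers (f a) := fun x hx =>
    MonoidHom.map_zpowers f a ▸ mem_map_of_mem f hx
  refine ⟨f a, mem_map_of_mem f ha, ?_, ?_⟩
  · rintro _ ⟨x, hx, rfl⟩ h1
    rw [← map_mul, H1 x hx (mt (e _) h1), map_one]
  · rintro _ ⟨x, hx, rfl⟩ _ ⟨y, hy, rfl⟩ h1 h2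
    rw [← map_mul]
    exact e _ (H x hx y hy (mt (e _) h1) (mt (e _) h2))

theorem coset (N : Subgroup G) : DH (Coset N) := (h.subgroup _).of_surjective (cosetHom_surjective N)

/-- a 2-group with a central involution `t` and another involution -/
theorem dih (hP : IsPGroup 2 P) (hc : P ≤ 𝐂[t]) (ht : t ∈ P) (he : e ∈ P) (p : F4 t e) :
    P = S4 t e ∨ ∃ a, Cf P a e t ∧ P = S4 a e := by
  obtain ⟨a, ha, H1, H⟩ := h P hP
  have inv : ∀ x ∈ P, x ∉ zpowers a → x * a * x⁻¹ = a⁻¹ := fun x hx h1 => by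
    have := H1 _ (mul_mem hx ha) (by rwa [mul_mem_cancel_right (mem_zpowers a)])
    rw [inv_eq (H1 x hx h1), eq_inv_iff_mul_eq_one, ← this, mul_assoc (x * a)]
  have gen : ∀ x ∈ P, x ∉ zpowers a → P ≤ S4 a x := fun x hx h1 y hy => by
    by_cases e' : y ∈ zpowers a
    · exact mem_sup_left e'
    · exact (mul_mem_cancel_right (s_mem_S4 a x)).1 (mem_sup_left (H y hy x hx e' h1))
  by_cases a2 : a * a = 1
  · refine .inl (le_antisymm ?_ (S4_le.2 ⟨ht, he⟩))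
    have k : ∀ x y, x ∈ P → y ∈ P → F4 x y → x ∉ zpowers a → P ≤ S4 x y := fun x y hx hy q h1 => by
      refine (gen x hx h1).trans (S4_le.2 ⟨?_, t_mem_S4 _ _⟩)
      by_cases e' : y ∈ zpowers a
      · exact ((mem_zp a2).1 e').resolve_left q.e1 ▸ s_mem_S4 _ _
      · exact ((mem_zp a2).1 (H x hx y hy h1 e')).resolve_left q.mul_ne_one ▸
          mul_mem (t_mem_S4 _ _) (s_mem_S4 _ _)
    by_cases e' : t ∈ zpowers a
    · exact S4_comm t e ▸ k e t he ht p.symm fun e'' => p.ne (ZG.invol_eq e' e'' p.t1 p.t2 p.e1 p.e2)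
    · exact k t e ht he p e'
  have h1 : t ∈ zpowers a := by_contra fun e' => a2 (mul_eq_one_iff_eq_inv.2
    ((mem_cent1_iff_conj.1 (mem_cent1_comm.1 (hc ha))).symm.trans (inv t ht e')))
  have h2 : e ∉ zpowers a := fun e'' => p.ne (ZG.invol_eq h1 e'' p.t1 p.t2 p.e1 p.e2)
  have h3 := le_antisymm (gen e he h2) (S4_le.2 ⟨ha, he⟩)
  exact .inr ⟨a, ⟨ha, he, h3 ▸ ⟨le_rfl, hP, by simp⟩, p.e2, h2, inv e he h2, h1, p.t1, p.t2, a2⟩, h3⟩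

theorem le_four (p : F4 t e) (hP : IsPGroup 2 P) (hc : P ≤ 𝐂[t] ⊓ 𝐂[e]) : P ≤ S4 t e := by
  have h1 : P ≤ 𝐍(S4 t e) := le_norm_of_le_cent (cent_S4 t e ▸ hc)
  obtain e' | ⟨a, k, e'⟩ := h.dih (isPGroup_sup p.two hP (.inr h1)) (sup_le p.le_cent
    (hc.trans inf_le_left)) (mem_sup_left (t_mem_S4 _ _)) (mem_sup_left (s_mem_S4 _ _)) p
  · exact le_sup_right.trans e'.le
  · exact fun y hy => k.cent_out (s_mem_S4 _ _) k.sa (e'.le (mem_sup_right hy)) (hc hy).2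

theorem mem_four (p : F4 t e) (x2 : x * x = 1) (h1 : x ∈ 𝐂[t]) (h2 : x ∈ 𝐂[e]) : x ∈ S4 t e :=
  zpowers_le.1 (h.le_four p (ZG.two_elt x2) (zpowers_le.2 ⟨h1, h2⟩))

theorem pair_cent (p : F4 t e) : Pair (𝐂[t] ⊓ 𝐂[e]) t e := by
  have hle : S4 t e ≤ 𝐂[t] ⊓ 𝐂[e] := le_inf p.le_cent p.le_cent'
  have hS : Syl 2 (S4 t e) (𝐂[t] ⊓ 𝐂[e]) := syl_of_max hle p.two fun U h1 h2 hU =>
    le_antisymm (h.le_four p hU h2) h1
  refine p.mk_pair (S4_le.1 hle).1 (S4_le.1 hle).2 fun e' => ?_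
  rw [← card_mul_relIndex hle, p.card] at e'
  exact hS.not_dvd (Nat.dvd_of_mul_dvd_mul_left (k := 4) (by decide) e')

theorem odd_cent (hR : IsPGroup 2 R) (hc : R ≤ 𝐂[t]) (ht : t ∈ R) (t1 : t ≠ 1) (t2 : t * t = 1)
    (hn : g ∈ 𝐍(R)) (hg : g ∈ 𝐂[t]) (ho : Odd (orderOf g)) : g ∈ 𝐂(R) := by
  by_cases e : ∃ e ∈ R, F4 t e
  · obtain ⟨e, he, p⟩ := e
    obtain rfl | ⟨a, k, -⟩ := h.dih hR hc ht he p
    · exact cent_S4 t e ▸ ⟨hg, p.mem_cent_of_odd hn hg ho⟩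
    · exact h.alm.cent_of_odd hR hn ho k.a_mem k.a2 ht t1 t2 he p.e1 p.e2 p.ne
  obtain ⟨a, ha, H1, -⟩ := h R hR
  have k : ∀ x ∈ R, x ∉ zpowers a → x = t := fun x hx h1 => by_contra fun e' =>
    e ⟨x, hx, f4_of_mem t1 t2 (fun e => h1 (e ▸ one_mem _)) (H1 x hx h1) (hc hx) e'⟩
  have h1 : g * a * g⁻¹ ∈ zpowers a := by_contra fun e' => by
    have := (k _ (conj_mem_of_norm hn ha) e').trans (mem_cent1_iff_conj.1 hg).symm
    exact e' (by rw [this, mem_cent1_iff_conj.1 hg, ← cj_inj.1 this]; exact mem_zpowers a)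
  refine mem_cent_iff.2 fun x hx => ?_
  by_cases e' : x ∈ zpowers a
  · exact (ZG.comm_of_mem (ZG.comm_of_two (ZG.two_zp hR ha) ho h1) e').symm
  · exact k x hx e' ▸ (mem_cent1.1 hg).symm

/-- centralizers of involutions have normal 2-complements -/
theorem pnil (t1 : t ≠ 1) (t2 : t * t = 1) (hX : X ≤ 𝐂[t]) : PNil 2 X :=
  ZG.pnil_two fun R hR h2 g hg hn ho => by
    have h1 : R ≤ 𝐍(zpowers t) := le_norm_of_le_cent (cent_zpowers t ▸ hR.trans hX)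
    exact cent_anti le_sup_left (h.odd_cent (isPGroup_sup h2 (ZG.two_elt t2) (.inl h1))
      (sup_le (hR.trans hX) (zpowers_le.2 (mem_cent1_self t))) (mem_sup_right (mem_zpowers t)) t1 t2
      (mem_norm_sup hn (cent_le_norm _ (cent_zpowers t ▸ hX hg))) (hX hg) ho)

theorem mem_O (t1 : t ≠ 1) (t2 : t * t = 1) (hX : X ≤ 𝐂[t]) : x ∈ O X ↔ x ∈ X ∧ Odd (orderOf x) :=
  ZG.mem_O (h.pnil t1 t2 hX)

theorem le_O (t1 : t ≠ 1) (t2 : t * t = 1) (hX : X ≤ 𝐂[t]) (hQ : Q ≤ X) (ho : Odd ♯Q) : Q ≤ O X :=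
  fun _ hx => (h.mem_O t1 t2 hX).2 ⟨hQ hx, odd_of_mem ho hx⟩

theorem O_mono (t1 : t ≠ 1) (t2 : t * t = 1) (hX : X ≤ 𝐂[t]) (hY : Y ≤ X) : O Y ≤ O X :=
  h.le_O t1 t2 hX ((Opi_le _ _).trans hY) (odd_O Y)

theorem O_inf (t1 : t ≠ 1) (t2 : t * t = 1) (hX : X ≤ 𝐂[t]) (Y : Subgroup G) :
    O (X ⊓ Y) = O X ⊓ Y :=
  le_antisymm (le_inf (h.O_mono t1 t2 hX inf_le_left) ((Opi_le _ _).trans inf_le_right))
    (h.le_O t1 t2 (inf_le_left.trans hX) (inf_le_inf_right _ (Opi_le _ _))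
      (odd_of_le (odd_O X) inf_le_left))

theorem sdprod (k : Cf X a s t) : IsSdprod (O (X ⊓ 𝐂[t])) (S4 a s) (X ⊓ 𝐂[t]) :=
  (h.pnil k.t1 k.t2 inf_le_right).sdprod k.cent.syl

theorem sol (t1 : t ≠ 1) (t2 : t * t = 1) (hX : X ≤ 𝐂[t]) : Sol X := by
  obtain ⟨P, hP⟩ := exists_syl 2 X
  exact ((h.pnil t1 t2 hX).sdprod hP).sol (sol_of_odd (odd_O X)) hP.sol

/-- `ρ` normalizes `B = O(C(t)) ∩ C(e)` -/
theorem mem_norm_B (p : F4 t e) (hg : g ∈ 𝐍(S4 t e)) : g ∈ 𝐍(O 𝐂[t] ⊓ 𝐂[e]) := by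
  rw [← h.O_inf p.t1 p.t2 le_rfl, ← cent_S4]
  exact norm_le_norm_Opi _ _ (norm_le_norm_cent _ hg)

theorem pair_or_cf (p : F4 t e) (ht : t ∈ X) (he : e ∈ X) :
    Pair (X ⊓ 𝐂[t]) t e ∨ ∃ a, Cf X a e t := by
  have h1 : S4 t e ≤ X ⊓ 𝐂[t] := le_inf (S4_le.2 ⟨ht, he⟩) p.le_cent
  obtain ⟨T, hT, h2⟩ := exists_syl_ge h1 p.two
  obtain rfl | ⟨a, k, rfl⟩ := h.dih hT.isPGroup (hT.le.trans inf_le_right) (h2 (t_mem_S4 _ _))
    (h2 (s_mem_S4 _ _)) p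
  · refine .inl (p.mk_pair (S4_le.1 h1).1 (S4_le.1 h1).2 fun e' => ?_)
    rw [← card_mul_relIndex h1, p.card] at e'
    exact hT.not_dvd (Nat.dvd_of_mul_dvd_mul_left (k := 4) (by decide) e')
  · exact .inr ⟨a, Cf.of_cent { k with
      a_mem := hT.le k.a_mem, s_mem := hT.le k.s_mem, syl := hT } le_rfl (hT.le.trans inf_le_left)⟩

theorem cf_of_sq (p : F4 t e) (he : e ∈ X) (hc : c ∈ X) (e' : c * c = t) : ∃ a, Cf X a e t := by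
  have ht : t ∈ X := e' ▸ mul_mem hc hc
  refine (h.pair_or_cf p ht he).resolve_left fun q => ?_
  have h1 : c ∈ X ⊓ 𝐂[t] := ⟨hc, mem_cent1.2 (by rw [← e', mul_assoc])⟩
  obtain ⟨g, -, k⟩ := q.syl.exists_conj_le (zpowers_le.2 h1) (Core.isPGroup_zpowers_of_orderOf (k := 2)
    (orderOf_eq_prime_pow (p := 2) (n := 1) (by rw [pow_one, sq, e']; exact p.t1) (by
      rw [show 2 ^ (1 + 1) = 2 * 2 by rfl, pow_mul, sq, sq, e', p.t2])))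
  have := p.sq (k (conj_mem_conj (mem_zpowers c)))
  rw [← cj_mul, e'] at this
  exact conj_ne_one.2 p.t1 this

theorem pair_of_conj (q : Pair (X ⊓ 𝐂[t]) t e) (hc : ∀ z ∈ S4 t e, z ≠ 1 → ∃ g ∈ X, g * t * g⁻¹ = z) :
    Pair X t e := by
  have p := q.f4
  obtain ⟨T, hT, h2⟩ := exists_syl_ge (q.le.trans inf_le_left) p.two
  obtain ⟨z, hz, z1⟩ := exists_mem_ne_one (Zc_ne_bot hT.nil fun e' => p.t1 (mem_bot.1
    (e' ▸ h2 (t_mem_S4 _ _))))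
  obtain ⟨g, hg, rfl⟩ := hc z (h.le_four p (ZG.two_zp hT.isPGroup hz.1) (zpowers_le.2
    (cent_S4 t e ▸ cent_anti h2 hz.2)) (mem_zpowers z)) z1
  refine p.mk_pair q.t_mem.1 q.s_mem.1 fun e' => q.not_dvd ?_
  rw [← card_inf_cent_conj hg]
  rw [← card_mul_relIndex hT.le] at e'
  exact ((((Nat.Prime.coprime_iff_not_dvd Nat.prime_two).2 hT.not_dvd).pow_left 3).dvd_of_dvd_mul_right
    e').trans (card_dvd (le_inf hT.le (le_cent1_iff.2 hz.2)))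

theorem pair_or_cf' (p : F4 t e) (ht : t ∈ X) (he : e ∈ X) (o : OC X) :
    Pair X t e ∨ ∃ a, Cf X a e t :=
  (h.pair_or_cf p ht he).imp_left fun q => h.pair_of_conj q fun z hz z1 =>
    o t ht z (S4_le.2 ⟨ht, he⟩ hz) p.t1 p.t2 z1 (p.sq hz)

/-- with one class of involutions every four-group is rotated -/
theorem exists_rot (o : OC X) (p : F4 t e) (ht : t ∈ X) (he : e ∈ X) : ∃ ρ ∈ X, Rot t e ρ := by
  obtain q | ⟨a, k⟩ := h.pair_or_cf' p ht he o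
  · obtain ⟨ρ, v⟩ := q.sdprod_or.resolve_left fun e' => by
      obtain ⟨g, hg, e''⟩ := o t ht e he p.t1 p.t2 p.e1 p.e2
      have := e'.der_le_of_ab q.ab (commutator_mem_commutator ht hg)
      rw [commutatorElement_def, inv_eq p.t2, mul_assoc t, mul_assoc t, e''] at this
      exact not_mem_of_odd (odd_O X) p.mul_ne_one p.mul_sq this
    exact ⟨ρ, v.ρ_mem, v.rot2⟩
  obtain q | ⟨b, k'⟩ := h.pair_or_cf' p.symm he ht o
  · exact absurd k.eight q.not_dvd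
  obtain ⟨c, hc, -, c1, -⟩ := k.exists_c
  obtain ⟨d, hd, -, d1, -⟩ := k'.exists_c
  have c2 := mem_cent1_iff_conj.1 (zpowers_le.2 k.a_cent hc)
  have d2 := mem_cent1_iff_conj.1 (zpowers_le.2 k'.a_cent hd)
  exact ⟨c * d, mul_mem (zpowers_le.2 k.a_mem hc) (zpowers_le.2 k'.a_mem hd),
    by rw [mul_cj, d1, ← p.comm.eq, cj_mul, c2, c1, p.tte], by rw [mul_cj, d2, c1]⟩

theorem sq (p : ℕ) (M : Subgroup G) : R4.SQ p M := fun L _ H _ f hf h1 _ => by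
  have : Finite H := .of_surjective f hf
  obtain ⟨P, hP⟩ := exists_syl 2 (⊤ : Subgroup H)
  obtain ⟨a, ha, H1, -⟩ := (h.subgroup L).of_surjective hf P hP.isPGroup
  have hc : IsCyclic P := by
    by_cases e : P ≤ zpowers a
    · exact isCyclic_of_le' inferInstance e
    obtain ⟨x, hx, x1⟩ := SetLike.not_le_iff_exists.1 e
    have o := fun y hy (y1 : y ∉ zpowers a) => orderOf_eq_two (H1 y hy y1) fun e => y1 (e ▸ one_mem _)
    have a1 : a = 1 := left_eq_mul.1 (h1 _ _ (o x hx x1) (o _ (mul_mem hx ha)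
      (by rwa [mul_mem_cancel_right (mem_zpowers a)])))
    refine isCyclic_of_le' (B := zpowers x) inferInstance fun y hy => ?_
    by_cases e' : y ∈ zpowers a
    · rw [a1, zpowers_one_eq_bot, mem_bot] at e'; exact e' ▸ one_mem _
    · exact h1 _ _ (o y hy e') (o x hx x1) ▸ mem_zpowers y
  have := pnil_iff_hasNormalPComplement.1 (pnil_of_sdprod (cyclic_pdiv_normal_complement hP hc
    fun q hq _ => hq.two_le) (Op'_piGrp 2 _) hP.isPGroup)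
  exact (Transfer.hasNormalPComplement_congr Subgroup.topEquiv).1 this

end DH

end Cfsg.Agent.GW2
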