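import Cfsg.Agent.Lib.GW2.AutA

/-!
# Package AUT: groups between `L₂(q)` and its automorphism group with dihedral Sylow 2-subgroups
-/

set_option autoImplicit false
set_option linter.unusedSectionVars false

namespace Cfsg.Agent.GW2

open Subgroup Cfsg.Agent.OO Cfsg.Agent.Coprime Cfsg.Agent.Lin Cfsg.Agent.GW Cfsg.Agent.JR
open Matrix hiding J
open JR.L2 JR.FRa
open scoped Pointwise MatrixGroups

universe u

namespace Au

variable {G : Type u} [Group G] [Finite G] {X : Subgroup G} {g s t u v : G}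

theorem dh_mem (h : DH G) (hf : F4 t s) (u2 : u * u = 1) (c1 : Commute t u) (c2 : Commute s u) :
    u ∈ S4 t s := by
  have k : ∀ x : G, x * x = 1 → IsElementaryAbelian 2 (zpowers x) := fun x e =>
    abelem_zpowers (by rwa [sq])
  have hA := abelem_sup (abelem_sup (k t hf.t2) (k s hf.e2) (by
    rw [cent_zpowers, zpowers_le]; exact mem_cent1.2 hf.comm)) (k u u2) (by
      rw [cent_zpowers]; exact S4_le.2 ⟨mem_cent1.2 c1, mem_cent1.2 c2⟩)
  obtain ⟨a, ha, -, h2⟩ := h _ (abelem_isPGroup hA)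
  have a2 : a * a = 1 := by simpa [sq] using hA.2 a ha
  have ht := mem_sup_left (T := zpowers u) (t_mem_S4 t s)
  have hs := mem_sup_left (T := zpowers u) (s_mem_S4 t s)
  simp only [mem_zp a2, not_or] at h2
  by_contra e
  by_cases e1 : a ∈ S4 t s
  · have h3 : ∀ x ∈ S4 t s, x ≠ 1 → x = a := fun x hx x1 => by_contra fun x2 =>
      e ((mul_mem_cancel_left hx).1 ((h2 x (mem_sup_left hx) u (mem_sup_right (mem_zpowers u)) ⟨x1, x2⟩
        ⟨fun e' => e (e' ▸ one_mem _), fun e' => e (e' ▸ e1)⟩).elim (· ▸ one_mem _) (· ▸ e1)))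
    exact hf.ne ((h3 t (t_mem_S4 t s) hf.t1).trans (h3 s (s_mem_S4 t s) hf.e1).symm)
  · refine (h2 t ht s hs ⟨hf.t1, fun e' => e1 (e' ▸ t_mem_S4 t s)⟩
      ⟨hf.e1, fun e' => e1 (e' ▸ s_mem_S4 t s)⟩).elim (fun e' => hf.ne ?_)
      fun e' => e1 (e' ▸ mul_mem (t_mem_S4 t s) (s_mem_S4 t s))
    exact (inv_eq hf.t2).symm.trans (inv_eq_of_mul_eq_one_right e')

variable {F : Type} [Field F] [Fintype F] {m n : (Matrix (Fin 2) (Fin 2) F)ˣ} {σ : F ≃+* F}
  {x y : SL(2, F)} {f : SL(2, F) →* G}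

theorem sl_one (y : SL(2, F)) : sl 1 1 y = y := sl_eq_iff.2 ((one_mul _).trans (mul_one _).symm)

theorem sl_inv (y : SL(2, F)) : sl n 1 (sl n⁻¹ 1 y) = y :=
  sl_sl.trans ((congrArg (sl · 1 y) (mul_inv_cancel n)).trans (sl_one y))

theorem sl_mem_center : sl n 1 y ∈ center SL(2, F) ↔ y ∈ center SL(2, F) := by
  have k : ∀ (n : (Matrix (Fin 2) (Fin 2) F)ˣ) (y : SL(2, F)), y ∈ center SL(2, F) →
      sl n 1 y ∈ center SL(2, F) := fun n y hy => mem_center_iff.2 fun g => by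
    rw [← sl_inv (n := n) g, ← map_mul, mem_center_iff.1 hy, map_mul]
  exact ⟨fun h => sl_inv (n := n⁻¹) y ▸ k _ _ h, k n y⟩

theorem det_ne (m : (Matrix (Fin 2) (Fin 2) F)ˣ) : m.1.det ≠ 0 :=
  (isUnit_iff_isUnit_det _ |>.1 m.isUnit).ne_zero

theorem Sm.cent {c : F} (h : Sm f g m 1) (e : m.1 = c • 1) : g ∈ 𝐂(f.range) :=
  mem_cent_iff_conj.2 (by
    rintro _ ⟨y, rfl⟩
    rw [h, sl_smul (n := 1) e, sl_one])

theorem Sm.mem_range (h : Sm f g m 1) (hL : f.range ≤ X) (hc : X ⊓ 𝐂(f.range) = ⊥) (hg : g ∈ X)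
    (hs : IsSquare m.1.det) : g ∈ f.range := by
  obtain ⟨c, e⟩ := hs
  have c0 : c ≠ 0 := fun e' => det_ne m (by rw [e, e', mul_zero])
  obtain ⟨y, hy⟩ : ∃ y : SL(2, F), y.1 = c⁻¹ • m.1 :=
    ⟨⟨_, by rw [det_smul, e, Fintype.card_fin]; field_simp⟩, rfl⟩
  have h1 : Sm f g (SpecialLinearGroup.toGL y) 1 := fun z => (h z).trans (by
    rw [sl_smul (c := c) (n := SpecialLinearGroup.toGL y) (by
      change _ = c • y.1
      rw [hy, smul_inv_smul₀ c0])])
  exact ⟨y, inv_mul_eq_one.1 (mem_bot.1 (hc.le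
    (mem_inf.2 ⟨mul_mem (inv_mem (hL ⟨y, rfl⟩)) hg, h1.mem_cent (sm_map y)⟩)))⟩

variable (hk : f.ker = center SL(2, F)) (hq : Odd (Fintype.card F))
include hk hq

theorem exists_f4 : ∃ y z : SL(2, F), F4 (f y) (f z) ∧ ∀ σ : F →+* F,
    σ.mapMatrix y.1 = y.1 ∧ σ.mapMatrix z.1 = z.1 := by
  have h2 := S4357.two_ne_zero' hq
  obtain ⟨p, hp⟩ := CharP.exists F
  obtain ⟨-, p1, -⟩ := FiniteField.card F p
  have := Fact.mk p1
  obtain ⟨x, y, hx⟩ := CharP.sq_add_sq F p (-1)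
  replace hx : (x : F) ^ 2 + y ^ 2 = -1 := by simpa using hx
  have n2 : ∀ z : F, z = -z → z = 0 := fun z e => mul_left_cancel₀ h2 (by linear_combination e)
  refine ⟨J F, mk2 x y y (-x) (by linear_combination -hx), ⟨fun e => ?_, fun e => ?_, fun e => ?_,
    J_sq hk, ?_, ?_⟩, fun σ => ⟨?_, ?_⟩⟩
  · simpa [J] using mem_center.1 (hk.le e)
  · obtain ⟨e1, -, e2⟩ := mem_center.1 (hk.le e)
    simp at e1 e2
    simp [e1, n2 _ e2] at hx
  · obtain ⟨e1, -, e2⟩ := mem_center.1 ((eq_iff hk).1 e)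
    simp [J, mul_apply, Fin.sum_univ_two, adjugate_fin_two] at e1 e2
    simp [e1, n2 _ e2.symm] at hx
  · rw [← map_mul, ← MonoidHom.mem_ker, hk, mem_center]
    simp [mul_apply, Fin.sum_univ_two, mul_comm, add_comm]
  · rw [Commute, SemiconjBy, ← map_mul, ← map_mul, eq_iff hk, mem_center]
    simp [J, mul_apply, Fin.sum_univ_two, adjugate_fin_two, mul_comm, add_comm]
  all_goals ext i j; fin_cases i <;> fin_cases j <;> simp [J]

/-- no involution induces a field automorphism -/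
theorem Sm.lin (hd : DH G) (h : Sm f u m σ) (u2 : u * u = 1) : σ = 1 := by
  by_contra hσ
  have h2 := S4357.two_ne_zero' hq
  obtain ⟨e1, c, e2⟩ := (h.mul h).faith hk hq (u2 ▸ one_mem _)
  replace e1 : ∀ x, σ (σ x) = x := fun x => DFunLike.congr_fun e1 x
  replace e2 : m.1 * (σ : F →+* F).mapMatrix m.1 = c • 1 := e2
  have e3 : (σ : F →+* F).mapMatrix m.1 * m.1 = c • 1 := (Units.mul_right_inj m).1 (by
    rw [← Matrix.mul_assoc, e2]; simp)
  have c0 : c ≠ 0 := fun e => det_ne (m * Units.map (σ : F →+* F).mapMatrix.toMonoidHom m) (by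
    rw [show (m * Units.map (σ : F →+* F).mapMatrix.toMonoidHom m).1 = _ from e2, e]; simp)
  have hc : σ c = c := by
    have k1 := congrArg σ (congrFun (congrFun e2 0) 0)
    have k2 := congrFun (congrFun e3 0) 0
    simp [mul_apply, Fin.sum_univ_two, e1] at k1 k2
    rw [← k1, k2]
  obtain ⟨δ, d0, hδ⟩ : ∃ δ, δ ≠ 0 ∧ σ δ = -δ := by
    obtain ⟨x, hx⟩ := DFunLike.ne_iff.1 hσ
    exact ⟨σ x - x, sub_ne_zero.2 hx, by rw [map_sub, e1, neg_sub]⟩
  let K := (σ : F →+* F).eqLocusField (RingHom.id F)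
  let := Fintype.ofFinite K
  obtain ⟨a, b, e4⟩ := FiniteField.exists_root_sum_quadratic (R := K)
    (f := Polynomial.X ^ 2 - Polynomial.C ⟨c, hc⟩)
    (g := Polynomial.C (-⟨δ ^ 2, show σ _ = _ by simp [hδ]⟩) * Polynomial.X ^ 2)
    (Polynomial.degree_X_pow_sub_C two_pos _) (Polynomial.degree_C_mul_X_pow 2 (by
      simp [Subtype.ext_iff, d0])) (FiniteField.odd_card_of_char_ne_two fun e => h2 (by
        exact (map_natCast K.subtype 2).symm.trans
          ((congrArg K.subtype ((ringChar.spec K 2).2 (e ▸ dvd_rfl))).trans (map_zero _))))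
  replace e4 := congrArg Subtype.val e4
  simp at e4
  obtain ⟨μ, hμ⟩ : ∃ μ, μ * σ μ = c := ⟨a + b * δ, by
    rw [map_add, map_mul, hδ, show σ a = a from a.2, show σ b = b from b.2]; linear_combination e4⟩
  have m0 : μ ≠ 0 := fun e => c0 (by rw [← hμ, e, zero_mul])
  obtain ⟨θ, hθ⟩ : ∃ θ, (θ • 1 + (σ θ * μ⁻¹) • m.1).det ≠ 0 := by
    by_contra! k
    have k1 := k 1
    have k2 := k δ
    have k3 := k (1 + δ)
    simp [det_fin_two, hδ] at k1 k2 k3
    exact mul_ne_zero (mul_ne_zero (mul_ne_zero h2 h2) h2) (pow_ne_zero 3 d0) (by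
      linear_combination 2 * δ ^ 2 * k3 - δ ^ 2 * (1 - δ) * 2 * k1 + 2 * δ * (1 - δ) * k2)
  let n := GeneralLinearGroup.mkOfDetNeZero _ hθ
  have e5 : (m * Units.map (σ : F →+* F).mapMatrix.toMonoidHom n).1 = μ • n.1 := by
    change m.1 * (σ : F →+* F).mapMatrix (θ • 1 + (σ θ * μ⁻¹) • m.1) = μ • (θ • 1 + (σ θ * μ⁻¹) • m.1)
    have : (σ : F →+* F).mapMatrix (θ • 1 + (σ θ * μ⁻¹) • m.1) =
        σ θ • 1 + (θ * (σ μ)⁻¹) • (σ : F →+* F).mapMatrix m.1 := by
      ext i j; fin_cases i <;> fin_cases j <;> simp [e1]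
    have m1 : σ μ ≠ 0 := by simpa using m0
    rw [this, Matrix.mul_add, Matrix.mul_smul, Matrix.mul_smul, e2, Matrix.mul_one, ← hμ]
    match_scalars <;> field_simp
  obtain ⟨y, z, h4, h5⟩ := exists_f4 (f := f.comp (sl n 1)) (Subgroup.ext fun y => by
    rw [← sl_mem_center (n := n), ← hk]; rfl) hq
  have k : ∀ y : SL(2, F), (σ : F →+* F).mapMatrix y.1 = y.1 → Commute (f.comp (sl n 1) y) u :=
    fun y hy => (mem_cent1.1 (mem_cent1_iff_conj.2 ((h _).trans (congrArg f (by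
      rw [sl_sl, sl_smul e5, sl_eq_iff, _root_.mul_one, hy]
      exact (sl_eq_iff (m := n) (σ := 1) (y := y)).1 rfl))))).symm
  obtain ⟨w, rfl⟩ := (show S4 _ _ ≤ f.range from S4_le.2 ⟨⟨_, rfl⟩, ⟨_, rfl⟩⟩)
    (dh_mem hd h4 u2 (k y (h5 _).1) (k z (h5 _).2))
  exact hσ (((sm_map w⁻¹).mul_one h).faith hk hq (by simp)).1

theorem Sm.trace (h : Sm f u m 1) (u2 : u * u = 1) (hu : u ∉ 𝐂(f.range)) : m.1.trace = 0 := by
  obtain ⟨-, c, e⟩ := (h.mul_one h).faith hk hq (u2 ▸ one_mem _)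
  by_contra h0
  refine hu (h.cent (c := m.1 0 0) ?_)
  have e1 := congrFun (congrFun e 0) 1
  have e2 := congrFun (congrFun e 1) 0
  have e3 := (congrFun (congrFun e 0) 0).trans (congrFun (congrFun e 1) 1).symm
  simp [mul_apply, Fin.sum_univ_two] at e1 e2 e3
  rw [trace_fin_two] at h0
  ext i j
  fin_cases i <;> fin_cases j <;> simp <;> refine mul_left_cancel₀ h0 ?_
  exacts [by linear_combination e1, by linear_combination e2, by linear_combination -e3]

theorem Sm.commute (h : Sm f g m 1) (ho : Odd (orderOf y)) (hg : g ∈ 𝐂[f y]) : Commute m.1 y.1 := by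
  refine sl_eq_iff.1 (Subtype.ext ((eq_or_neg hk hq ((h y).symm.trans
    (mem_cent1_iff_conj.1 hg))).resolve_right fun e => S4357.two_ne_zero' hq ?_))
  have h1 : (sl m 1 y).1 ^ orderOf y = 1 := by
    rw [← Matrix.SpecialLinearGroup.coe_pow, ← map_pow, pow_orderOf_eq_one, map_one]; rfl
  rw [e, ho.neg_pow, ← Matrix.SpecialLinearGroup.coe_pow, pow_orderOf_eq_one] at h1
  have := congrFun (congrFun h1 0) 0
  simp at this
  linear_combination -this

theorem exists_tor (ht : x.1.trace ^ 2 ≠ 4) : ∃ k, Tor f.range (𝐂[x].map f) k ∧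
    Fintype.card F ≤ 2 * k + 1 ∧ 2 * k ≤ Fintype.card F + 1 := by
  obtain ⟨j, hj⟩ := id hq
  rcases SL2.card_centralizer (S4357.two_ne_zero' hq) ht with e | e
  · exact ⟨j, tor_map f hk hq ht (by omega), by omega⟩
  · exact ⟨j + 1, tor_map f hk hq ht (by omega), by omega⟩

theorem trace_eq_zero (h1 : f x ≠ 1) (h : f x * f x = 1) : x.1.trace = 0 :=
  (sm_map x).trace hk hq h fun e => h1 (hk.ge (mem_center_iff.2 fun y => Subtype.ext (by
    obtain ⟨-, c, e⟩ := (sm_map x).faith hk hq e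
    change y.1 * x.1 = x.1 * y.1
    rw [show x.1 = _ from e]; simp)))

theorem card_cent (ht : t ∈ f.range) (t1 : t ≠ 1) (t2 : t * t = 1) :
    Fintype.card F ≤ ♯(f.range ⊓ 𝐂[t] : Subgroup G) + 1 ∧
      ♯(f.range ⊓ 𝐂[t] : Subgroup G) ≤ Fintype.card F + 1 := by
  obtain ⟨x, rfl⟩ := ht
  have h2 := S4357.two_ne_zero' hq
  obtain ⟨k, h, h1⟩ := exists_tor hk hq (x := x) (by
    rw [trace_eq_zero hk hq t1 t2]
    exact fun e => mul_ne_zero h2 h2 (by linear_combination -e))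
  rwa [h.cent_inv (mem_map_of_mem f (mem_cent1_self x)) t1 t2, h.card_norm]

theorem pg (hd : DH G) (h5 : 5 ≤ Fintype.card F) (hL : f.range ⊴ X) (hc : X ⊓ 𝐂(f.range) = ⊥)
    (hs : Smp f.range) (hn : ¬ Ab f.range) : PG X f.range := by
  classical
  have h2 := S4357.two_ne_zero' hq
  have lin : ∀ u ∈ X, u * u = 1 → ∃ m, Sm f u m 1 := fun u hu u2 =>
    let ⟨m, _, h⟩ := exists_sm hk hq h5 (hL.2 hu); ⟨m, h.lin hk hq hd u2 ▸ h⟩
  have nc : ∀ u ∈ X, u ≠ 1 → u ∉ 𝐂(f.range) := fun u hu u1 e => u1 (mem_bot.1 (hc.le ⟨hu, e⟩))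
  refine ⟨hL, hc, good_of_hom f hk hq hs hn, ?_, ?_, fun u hu v hv u2 v2 u1 v1 => ?_,
    fun u hu u2 u1 => ?_⟩
  · rintro _ ⟨τ, rfl⟩ s - h v hv p hp hp2 hvp
    have ho := hp.odd_of_ne_two hp2
    obtain ⟨y, rfl, hy⟩ := exists_lift f hk hv.1 (hvp ▸ ho)
    refine le_trans (Set.ncard_le_ncard (t := f '' _) ?_) ((Set.ncard_image_le).trans
      ((SL.ncard_le hq hp hp2 (coe_sq f hk hq h.t1 h.t2) (hy.trans hvp) (commute_of_map f hk
        (by rwa [hy, hvp]) (mem_cent1_comm.1 hv.2)).symm).trans (Nat.mul_le_mul_left _ ?_)))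
    · rintro b ⟨b1, b2, b3⟩
      obtain ⟨z, rfl, hz⟩ := exists_lift f hk b1 (b2 ▸ ho)
      exact ⟨z, ⟨hz.trans b2, odd_of_map f hk b3 (by rwa [hy, hvp]) (by rwa [hz, b2])⟩, rfl⟩
    · have := (card_cent hk hq ⟨τ, rfl⟩ h.t1 h.t2).1
      omega
  · intro x hx ho x1 a ha b hb a1 a2 b1 b2
    obtain ⟨y, rfl, hy⟩ := exists_lift f hk hx ho
    have y1 := SL2.mem_center_iff_scalar.not.1 fun e => x1 (hk.ge e)
    obtain ⟨m, h3⟩ := lin a ha.1 a2
    obtain ⟨n, h4⟩ := lin b hb.1 b2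
    obtain ⟨k, l, e1⟩ := exists_of_commute_two y1 (h3.commute hk hq (hy ▸ ho) ha.2)
    obtain ⟨k', l', e2⟩ := exists_of_commute_two y1 (h4.commute hk hq (hy ▸ ho) hb.2)
    have t1 := h3.trace hk hq a2 (nc a ha.1 a1)
    have t2 := h4.trace hk hq b2 (nc b hb.1 b1)
    have l0 : l' ≠ 0 := fun e => nc b hb.1 b1 (h4.cent (c := k') (by simp [e2, e]))
    rw [e1] at t1
    rw [e2] at t2
    simp at t1 t2
    have h6 : Sm f a n 1 := fun z => (h3 z).trans (by
      rw [sl_smul (c := l / l') (n := n) (by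
        rw [e1, e2]
        match_scalars <;> field_simp
        exact mul_left_cancel₀ h2 (by linear_combination l' * t1 - l * t2))])
    exact (inv_mul_eq_one.1 (mem_bot.1 (hc.le
      (mem_inf.2 ⟨X.mul_mem (X.inv_mem hb.1) ha.1, h6.mem_cent h4⟩)))).symm
  · obtain ⟨m, h3⟩ := lin u hu u2
    obtain ⟨n, h4⟩ := lin v hv v2
    refine (h3.mul_one h4).mem_range hL.1 hc (mul_mem hu hv)
      ((quadraticChar_one_iff_isSquare (det_ne _)).1 ?_)
    rw [Units.val_mul, det_mul, map_mul,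
      quadraticChar_neg_one_iff_not_isSquare.2 (mt (h3.mem_range hL.1 hc hu) u1),
      quadraticChar_neg_one_iff_not_isSquare.2 (mt (h4.mem_range hL.1 hc hv) v1)]
    norm_num
  · obtain ⟨m, h3⟩ := lin u hu u2
    have n1 := nc u hu fun e => u1 (e ▸ one_mem _)
    have t0 := h3.trace hk hq u2 n1
    have ns := mt (h3.mem_range hL.1 hc hu) u1
    have m1 : m.1 ∉ Set.range (scalar (Fin 2)) := fun ⟨c, e⟩ =>
      n1 (h3.cent (c := c) (by rw [← e, smul_one_eq_diagonal]; rfl))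
    have dt : ∀ k l : F, (k • 1 + l • m.1).det = k ^ 2 + l ^ 2 * m.1.det ∧
        (k • 1 + l • m.1).trace = 2 * k := fun k l => by
      rw [trace_fin_two] at t0
      simp [det_fin_two, trace_fin_two]
      exact ⟨by linear_combination k * l * t0, by linear_combination l * t0⟩
    obtain ⟨s, s0, s1⟩ : ∃ s : F, s ≠ 0 ∧ 1 + s ^ 2 * m.1.det ≠ 0 := by
      obtain ⟨c, hc⟩ := IsCyclic.exists_generator (α := Fˣ)
      by_contra! k
      have h1 := Nat.le_of_dvd two_pos (orderOf_dvd_of_pow_eq_one (Units.ext (mul_right_cancel₀ (det_ne m)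
        (by push_cast; linear_combination k c c.ne_zero - k 1 one_ne_zero)) : c ^ 2 = 1))
      rw [orderOf_eq_card_of_forall_mem_zpowers hc, Nat.card_units, Nat.card_eq_fintype_card] at h1
      omega
    obtain ⟨x, k, l, l0, hx⟩ : ∃ (x : SL(2, F)) (k l : F), l ≠ 0 ∧ x.1 = k • 1 + l • m.1 :=
      ⟨⟨_, by rw [(dt _ _).1]; field_simp; ring⟩, (1 - s ^ 2 * m.1.det) / (1 + s ^ 2 * m.1.det),
        2 * s / (1 + s ^ 2 * m.1.det), by simp [h2, s0, s1], rfl⟩
    have hC : ∀ y : SL(2, F), y ∈ 𝐂[x] ↔ Commute m.1 y.1 := fun y => by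
      refine ((mem_cent1 (G := SL(2, F))).trans Subtype.ext_iff).trans ?_
      change y.1 * x.1 = x.1 * y.1 ↔ _
      simp only [hx, Matrix.mul_add, Matrix.add_mul, Matrix.mul_smul, Matrix.smul_mul, Matrix.mul_one,
        Matrix.one_mul, add_right_inj, smul_right_inj l0]
      exact eq_comm
    obtain ⟨j, tr, j1, -⟩ := exists_tor hk hq (x := x) fun e => by
      have := x.2
      rw [hx, (dt _ _).1] at this
      rw [hx, (dt _ _).2] at e
      exact mul_ne_zero (mul_ne_zero (mul_ne_zero h2 h2) (pow_ne_zero 2 l0)) (det_ne m) (by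
        linear_combination 4 * this - e)
    have le : 𝐂[x].map f ≤ f.range ⊓ 𝐂[u] := by
      rintro _ ⟨y, hy, rfl⟩
      exact ⟨⟨y, rfl⟩, mem_cent1_comm.1 (mem_cent1_iff_conj.2 ((h3 y).trans
        (congrArg f (sl_eq_iff.2 ((hC y).1 hy)))))⟩
    have ge : ∀ g ∈ f.range ⊓ 𝐂[u], Odd (orderOf g) → g ∈ 𝐂[x].map f := fun g hg ho => by
      obtain ⟨y, rfl, hy⟩ := exists_lift f hk hg.1 ho
      exact mem_map_of_mem f ((hC y).2 (h3.commute hk hq (hy ▸ ho) (mem_cent1_comm.1 hg.2)))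
    have od : Odd ♯(𝐂[x].map f) := Nat.not_even_iff_odd.1 fun e => by
      obtain ⟨_, ⟨y, hy, rfl⟩, y2⟩ := cauchy Nat.prime_two e.two_dvd
      obtain ⟨k, l, e1⟩ := exists_of_commute_two m1 ((hC y).1 hy).symm
      have e2 := trace_eq_zero hk hq (x := y) (fun e => by simp [e] at y2)
        ((sq _).symm.trans (orderOf_dvd_iff_pow_eq_one.1 y2.dvd))
      have e3 := y.2
      rw [e1, (dt _ _).2] at e2
      rw [e1, (dt _ _).1, (mul_eq_zero.1 e2).resolve_left h2] at e3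
      exact ns ⟨l * m.1.det, by linear_combination -m.1.det * e3⟩
    have eO : O (f.range ⊓ 𝐂[u]) = 𝐂[x].map f := le_antisymm
      (fun g hg => ge g (Opi_le _ _ hg) (odd_of_mem (odd_O _) hg))
      (le_O ⟨le, fun g hg => mem_norm_of_conj_mem fun y hy => ge _
        (mul_mem (mul_mem hg (le hy)) (inv_mem hg)) (by rw [orderOf_conj]; exact odd_of_mem od hy)⟩ od)
    rw [eO, tr.card]
    refine ⟨tr.cyc, fun e => ?_, fun t ht t1 t2 => ?_⟩
    · have := tr.card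
      rw [e, card_bot] at this
      omega
    · have := (card_cent hk hq ht t1 t2).2
      omega

end Au

theorem aut : AUT.{u} := fun G _ _ X L hd hL hc ⟨F, _, _, h5, hq, ⟨e⟩⟩ => by
  have h0 : ∃ a : F, a ≠ 0 ∧ a ^ 2 ≠ 1 := by
    obtain ⟨x, hx⟩ : IsCyclic Fˣ := inferInstance
    refine ⟨x, x.ne_zero, fun h => ?_⟩
    have h1 := orderOf_le_of_pow_eq_one zero_lt_two (Units.ext (by simpa using h) : x ^ 2 = 1)
    rw [orderOf_eq_card_of_forall_mem_zpowers hx, Nat.card_units, Nat.card_eq_fintype_card] at h1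
    omega
  have := Matrix.ProjectiveSpecialLinearGroup.rank_two_simple' h0
  have hp : Group.IsPerfect PSL(2, F) := ⟨SL2Simple.PSL_commutator_eq_top h0⟩
  have hs := e.isSimpleGroup
  have hn : ¬ Ab L := fun h => Group.IsPerfect.not_isMulCommutative PSL(2, F)
    ⟨⟨fun a b => e.symm.injective (by rw [map_mul, map_mul, h.is_comm.comm])⟩⟩
  obtain ⟨f, hk, rfl⟩ := exists_hom e
  exact Au.pg hk hq hd h5 hL hc (fun N hN => (hN.subgroupOf.eq_bot_or_eq_top).imp
    (fun e => by rw [← inf_eq_left.2 hN.le, ← subgroupOf_eq_bot.1 e |>.eq_bot])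
    fun e => le_antisymm hN.le (subgroupOf_eq_top.1 e)) hn

end Cfsg.Agent.GW2
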