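import Cfsg.Agent.Lib.GW2.Hyp
import Cfsg.Agent.Lib.JR.FRa

/-!
# Automorphisms of `L₂(q)` are semilinear
-/

set_option autoImplicit false
set_option linter.unusedSectionVars false

namespace Cfsg.Agent.GW2.Au

open Subgroup Cfsg.Agent.OO Cfsg.Agent.Coprime Cfsg.Agent.Lin Cfsg.Agent.GW Cfsg.Agent.JR
open Matrix hiding J
open JR.L2 JR.FRa
open scoped Pointwise MatrixGroups

universe u

variable {F : Type} [Field F] [Fintype F]

/-- the semilinear automorphism given by a matrix and a field automorphism -/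
noncomputable def sl (m : (Matrix (Fin 2) (Fin 2) F)ˣ) (σ : F ≃+* F) : SL(2, F) →* SL(2, F) :=
  MonoidHom.mk' (fun y => ⟨m * (σ : F →+* F).mapMatrix y.1 * (m⁻¹ :), by
    rw [det_units_conj, ← RingHom.map_det, y.2, map_one]⟩) fun a b => Subtype.ext (by
      change m.1 * (σ : F →+* F).mapMatrix (a.1 * b.1) * _ = (_ * _ * _) * (_ * _ * _)
      rw [map_mul]
      simp only [Matrix.mul_assoc, Units.inv_mul_cancel_left])

variable {m n : (Matrix (Fin 2) (Fin 2) F)ˣ} {σ τ : F ≃+* F} {x y z : SL(2, F)}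

theorem coe_sl : (sl m σ y).1 = m * (σ : F →+* F).mapMatrix y.1 * (m⁻¹ :) := rfl

theorem sl_eq_iff : sl m σ y = z ↔ m * (σ : F →+* F).mapMatrix y.1 = z.1 * m :=
  Subtype.ext_iff.trans (Units.mul_inv_eq_iff_eq_mul m)

theorem sl_sl : sl m σ (sl n τ y) = sl (m * Units.map (σ : F →+* F).mapMatrix.toMonoidHom n) (σ * τ) y :=
  Subtype.ext (by
    rw [coe_sl, coe_sl, coe_sl, map_mul, map_mul, _root_.mul_inv_rev, ← map_inv]
    simp only [Units.val_mul, Matrix.mul_assoc]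
    rfl)

theorem trace_sl : (sl m σ y).1.trace = σ y.1.trace := by
  rw [coe_sl, trace_units_conj]
  simp [trace_fin_two]

theorem sl_smul {c : F} (h : (m : Matrix (Fin 2) (Fin 2) F) = c • n) : sl m σ = sl n σ :=
  MonoidHom.ext fun y => sl_eq_iff.2 (by
    rw [h, Matrix.smul_mul, Matrix.mul_smul, sl_eq_iff.1 rfl])

variable {G : Type u} [Group G] [Finite G] {f : SL(2, F) →* G} {g h : G}

variable (f) in
/-- `g` induces the semilinear automorphism given by `m` and `σ` -/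
def Sm (g : G) (m : (Matrix (Fin 2) (Fin 2) F)ˣ) (σ : F ≃+* F) : Prop :=
  ∀ y, g * f y * g⁻¹ = f (sl m σ y)

theorem Sm.mul (h1 : Sm f g m σ) (h2 : Sm f h n τ) :
    Sm f (g * h) (m * Units.map (σ : F →+* F).mapMatrix.toMonoidHom n) (σ * τ) := fun y => by
  rw [mul_cj, h2, h1, sl_sl]

theorem Sm.mul_one (h1 : Sm f g m 1) (h2 : Sm f h n σ) : Sm f (g * h) (m * n) σ := h1.mul h2

theorem sm_map (x : SL(2, F)) : Sm f (f x) (SpecialLinearGroup.toGL x) 1 := fun y => by
  rw [← map_inv, ← map_mul, ← map_mul]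
  exact congrArg f (sl_eq_iff.2 (congrArg Subtype.val (inv_mul_cancel_right (x * y) x).symm)).symm

theorem Sm.mem_cent (h1 : Sm f g m σ) (h2 : Sm f h m σ) : h⁻¹ * g ∈ 𝐂(f.range) :=
  mem_cent_iff_conj.2 (by
    rintro _ ⟨y, rfl⟩
    rw [mul_cj, h1, ← h2]; group)

variable (hk : f.ker = center SL(2, F)) (hq : Odd (Fintype.card F))
include hk hq

theorem eq_or_neg (e : f x = f y) : x.1 = y.1 ∨ x.1 = -y.1 := by
  by_cases h1 : y⁻¹ * x = 1
  · exact .inl (congrArg Subtype.val (inv_mul_eq_one.1 h1).symm)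
  · refine .inr ?_
    rw [← mul_inv_cancel_left y x, show (y * (y⁻¹ * x)).1 = y.1 * (y⁻¹ * x).1 from rfl,
      SL.coe_eq_neg ((eq_iff hk).1 e.symm) h1, Matrix.mul_neg, Matrix.mul_one]

/-- the action is faithful -/
theorem Sm.faith (h1 : Sm f g m σ) (hg : g ∈ 𝐂(f.range)) :
    σ = 1 ∧ ∃ c : F, (m : Matrix (Fin 2) (Fin 2) F) = c • 1 := by
  have h2 := S4357.two_ne_zero' hq
  have k : ∀ y, (sl m σ y).1 = y.1 ∨ (sl m σ y).1 = -y.1 := fun y =>
    eq_or_neg hk hq ((h1 y).symm.trans (mem_cent_iff_conj.1 hg _ ⟨y, rfl⟩))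
  have k1 : ∀ x : F, m.1 1 0 * σ x = 0 * x ∧ m.1 0 0 * σ x = x * m.1 1 1 ∧ x * m.1 1 0 = 0 := fun x => by
    have e := sl_eq_iff.1 (Subtype.ext ((k (um x)).resolve_right fun e => h2 (by
      have := congrArg trace e
      rw [trace_sl] at this
      simp [um, trace_fin_two] at this
      exact mul_left_cancel₀ h2 (by linear_combination this))))
    have e1 := congrFun (congrFun e 0) 0
    have e2 := congrFun (congrFun e 0) 1
    have e3 := congrFun (congrFun e 1) 1
    simp [um, mul_apply, Fin.sum_univ_two] at e1 e2 e3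
    exact ⟨by simpa using e3, by linear_combination e2, by simpa using e1⟩
  have a1 : m.1 1 0 = 0 := by simpa using (k1 1).2.2
  have a2 : m.1 0 0 = m.1 1 1 := by simpa using (k1 1).2.1
  have a3 : m.1 1 1 ≠ 0 := fun e => (isUnit_iff_isUnit_det _ |>.1 m.isUnit).ne_zero (by
    rw [det_fin_two, a1, e]; simp)
  refine ⟨RingEquiv.ext fun x => mul_left_cancel₀ a3 (by
    rw [← a2, (k1 x).2.1, a2, mul_comm]; rfl), m.1 1 1, ?_⟩
  have a4 : m.1 0 1 = 0 := by
    rcases k (J F) with e | e <;> rw [coe_sl, Units.mul_inv_eq_iff_eq_mul] at e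
    · simpa [J, mul_apply, Fin.sum_univ_two, a1] using congrFun (congrFun e 0) 0
    · have := congrFun (congrFun e 0) 1
      simp [J, mul_apply, Fin.sum_univ_two, a2] at this
      exact absurd (mul_left_cancel₀ h2 (by linear_combination this)) a3
  ext i j
  fin_cases i <;> fin_cases j <;> simp [a1, a2, a4]

theorem card_range :
    2 * ♯f.range = Fintype.card F * ((Fintype.card F - 1) * (Fintype.card F + 1)) := by
  have h1 := card_map f hk (S4357.two_ne_zero' hq) (le_top : _ ≤ ⊤)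
  rwa [← MonoidHom.range_eq_map, card_top, card_SL2] at h1

theorem tor_Dg (h5 : 5 ≤ Fintype.card F) :
    Tor f.range ((Dg F).map f) ((Fintype.card F - 1) / 2) := by
  obtain ⟨c, hc⟩ := IsCyclic.exists_generator (α := Fˣ)
  have h1 : c ^ 2 ≠ 1 := fun e => by
    have h2 := Nat.le_of_dvd two_pos (orderOf_dvd_of_pow_eq_one e)
    rw [orderOf_eq_card_of_forall_mem_zpowers hc, Nat.card_units, Nat.card_eq_fintype_card] at h2
    omega
  refine cent_dg h1 ▸ tor_map f hk hq (fun e => h1 ?_) ?_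
  · simp [dg, trace_fin_two] at e
    field_simp at e
    exact Units.ext (sub_eq_zero.1 (pow_eq_zero_iff two_ne_zero |>.1 (by
      push_cast; linear_combination e)))
  · obtain ⟨m, hm⟩ := hq
    rw [cent_dg h1, card_Dg]; omega

theorem exists_norm (h5 : 5 ≤ Fintype.card F) (hg : g ∈ 𝐍(f.range)) :
    ∃ l ∈ f.range, ∃ n ∈ 𝐍(f.range), n ∈ 𝐍((Un F).map f) ∧ n ∈ 𝐍((Dg F).map f) ∧ l * n = g := by
  obtain ⟨p, hp⟩ := CharP.exists F
  obtain ⟨e, p1, he⟩ := FiniteField.card F p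
  have := Fact.mk p1
  have un := uni_map f hk hq p1
  have tr := tor_Dg hk hq h5
  have h0 := card_range hk hq
  obtain ⟨j, hj⟩ := hq
  have hd : p ∣ 2 * j + 1 := hj ▸ he ▸ dvd_pow_self p e.ne_zero
  have hc : (2 * j + 1).Coprime j := by simp
  have h1 : Syl p ((Un F).map f) f.range := ⟨un.le, abelem_isPGroup un.elem, fun e => by
    rw [← card_mul_relIndex un.le, un.card, hj, show (2 * j + 1) * ((2 * j + 1 - 1) * (2 * j + 1 + 1)) =
      2 * ((2 * j + 1) * (j * (2 * j + 1 + 1))) by rw [Nat.add_sub_cancel]; ring] at h0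
    rw [Nat.eq_of_mul_eq_mul_left (by omega) (Nat.eq_of_mul_eq_mul_left two_pos h0)] at e
    exact p1.ne_one (Nat.eq_one_of_dvd_coprimes (hc.mul_right (by simp)) hd e)⟩
  obtain ⟨l, hl, n, hn, rfl⟩ := (h1.frattini (normalIn_norm f.range)).mem_iff.1 hg
  have h3 := norm_map f hk center_le_Un
  rw [norm_Un] at h3
  have sup : (Un F).map f ⊔ (Dg F).map f = f.range ⊓ 𝐍((Un F).map f) := by
    rw [h3, ← Subgroup.map_sup]
    refine congrArg _ (le_antisymm (sup_le Un_le_Bo Dg_le) fun y hy => ?_)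
    have hd := SL.det2 y
    rw [mem_Bo.1 hy, mul_zero, sub_zero] at hd
    rw [show y = um (y.1 0 1 * y.1 0 0) * dg (Units.mk0 _ (left_ne_zero_of_mul_eq_one hd)) from
      Subtype.ext (by
        ext i j
        fin_cases i <;> fin_cases j <;> simp [um, dg, mul_apply, Fin.sum_univ_two, mem_Bo.1 hy,
          eq_inv_of_mul_eq_one_right hd, left_ne_zero_of_mul_eq_one hd])]
    exact mul_mem (mem_sup_left (um_mem _)) (mem_sup_right ⟨_, rfl⟩)
  have cop : (♯((Un F).map f)).Coprime ♯((Dg F).map f) := by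
    rw [un.card, tr.card, hj]; simpa using hc
  have h2 := IsSdprod.of_coprime ((le_sup_right.trans sup.le).trans inf_le_right) cop
  have h4 := h2.conj n
  rw [conj_eq_of_mem_norm hn.2, sup, conj_inf, conj_eq_of_mem_norm hn.1, conj_eq_of_mem hn.2,
    ← sup] at h4
  obtain ⟨x, hx, e⟩ := h2.exists_conj h4 cop (.inr (.inl (sol_of_ab tr.ab)))
  exact ⟨l * x, mul_mem hl (un.le hx), x⁻¹ * n, mul_mem (inv_mem (le_norm_self _ (un.le hx))) hn.1,
    mul_mem (inv_mem (le_norm_self _ hx)) hn.2,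
    by rw [← conj_eq_self_iff, ← conj_conj, e, inv_conj_conj], by group⟩

/-- every automorphism is semilinear -/
theorem exists_sm (h5 : 5 ≤ Fintype.card F) (hg : g ∈ 𝐍(f.range)) : ∃ m σ, Sm f g m σ := by
  obtain ⟨_, ⟨l, rfl⟩, n, hn, n1, n2, rfl⟩ := exists_norm hk hq h5 hg
  obtain ⟨u, σ, e⟩ := semi hk (S4357.two_ne_zero' hq) n1 n2
  have tr := tor_Dg hk hq h5
  have jT : f (J F) ∉ (Dg F).map f := fun e => J_not_mem hk (map_mono Dg_le e)
  obtain ⟨_, ⟨c, rfl⟩, e1⟩ := C1.tor_mul tr ⟨conj_mem_of_norm hn ⟨J F, rfl⟩, conj_mem_of_mem n2 J_norm⟩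
    ⟨⟨_, rfl⟩, J_norm⟩ (fun e => jT (by simpa [mul_assoc] using conj_mem_of_norm' n2 e)) jT
  have h3 : (f (um 1) * f (J F)) ^ 3 = 1 := by
    rw [← map_mul, ← map_pow, ← MonoidHom.mem_ker, hk, mem_center]
    simp [J, um, pow_succ, mul_apply, Fin.sum_univ_two]
  have h4 := eq_mul_inv_of_mul_eq e1.symm
  have h6 : (um (u * σ 1) * (dg c * (J F)⁻¹)) ^ 3 ∈ center _ := by
    rw [← hk, MonoidHom.mem_ker, map_pow, map_mul, map_mul, map_inv, ← e]
    exact h4 ▸ by rw [cj_mul, conj_pow, h3, mul_one, mul_inv_cancel]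
  have h7 := (mem_center.1 h6).1
  simp [J, um, dg, pow_succ, mul_apply, Fin.sum_univ_two, adjugate_fin_two] at h7
  field_simp at h7
  let d : (Matrix (Fin 2) (Fin 2) F)ˣ := GeneralLinearGroup.mkOfDetNeZero !![u, 0; 0, 1] (by simp)
  have hd : d.1 = !![(u : F), 0; 0, 1] := rfl
  refine ⟨_, σ, (sm_map l).mul_one (n := d) fun y => (eq_top_of_um
    (C := ((MulAut.conj n).toMonoidHom.comp f).eqLocus (f.comp (sl d σ))) (fun x => (e x).trans
      (congrArg f (sl_eq_iff.2 ?_).symm)) (h4.trans ?_)).ge (mem_top y)⟩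
  · rw [hd]
    ext i j
    fin_cases i <;> fin_cases j <;> simp [um, mul_apply, Fin.sum_univ_two]
  · rw [MonoidHom.comp_apply, (sl_eq_iff (z := dg u * J F)).2 (by
      rw [hd]
      ext i j
      fin_cases i <;> fin_cases j <;> simp [J, dg, mul_apply, Fin.sum_univ_two]),
      inv_eq (J_sq hk), map_mul]
    refine congrArg (· * _) ((eq_iff hk).2 (mem_center.2 ?_))
    simp [dg, mul_apply, Fin.sum_univ_two, adjugate_fin_two]
    field_simp
    linear_combination h7

end Cfsg.Agent.GW2.Au
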