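import Cfsg.Agent.Lib.GW2.G0

/-!
# The centralizer of an involution is maximal: basic facts
-/

set_option autoImplicit false
set_option linter.unusedSectionVars false

namespace Cfsg.Agent.GW2

open Subgroup Cfsg.Agent.OO Cfsg.Agent.Coprime Cfsg.Agent.Sig GW
open scoped commutatorElement Pointwise

universe u

variable {G : Type u} [Group G] [Finite G] {A D X Y J P Q R L N M K : Subgroup G}
  {a b c e f g s t u v w x y z ρ : G} {p q r : ℕ}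

omit [Finite G] in
theorem O_conj (g : G) (X : Subgroup G) : O (g •ᶜ X) = g •ᶜ O X := Opi_conj _ g X

omit [Finite G] in
theorem PU_conj (p : ℕ) (g t : G) : Op p (O 𝐂[g * t * g⁻¹]) = g •ᶜ Op p (O 𝐂[t]) := by
  rw [cent1_conj, O_conj, Op_conj]

theorem PU_normal (p : ℕ) (t : G) : Op p (O 𝐂[t]) ⊴ 𝐂[t] := (Opi_normal _ _ : O 𝐂[t] ⊴ _).Op p

theorem PU_odd (p : ℕ) (t : G) : Odd ♯(Op p (O 𝐂[t])) := odd_of_le (odd_O _) (Op_le _ _)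

theorem PU_ne_two (h : Op p (O 𝐂[t]) ≠ ⊥) : p ≠ 2 := fun e =>
  h (by rw [e, Op_eq_bot (odd_O _).not_two_dvd_nat])

theorem PU_le (p : ℕ) (t : G) : Op p (O 𝐂[t]) ≤ Op p 𝐂[t] := Op_le_of_normal p (Opi_normal _ _)

theorem PU_inf_le (p : ℕ) (t : G) (X : Subgroup G) : Op p (O 𝐂[t]) ⊓ X ≤ Op p (X ⊓ 𝐂[t]) :=
  (le_inf (inf_le_left.trans (PU_le p t)) (le_inf inf_le_right (inf_le_left.trans
    (PU_normal p t).le))).trans (Op_inf_le p inf_le_right)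

theorem PU_plus_conj (hg : g ∈ 𝐂[t]) (p : ℕ) (e : G) :
    Op p (O 𝐂[t]) ⊓ 𝐂[g * e * g⁻¹] = g •ᶜ (Op p (O 𝐂[t]) ⊓ 𝐂[e]) := by
  rw [conj_inf, cent1_conj, conj_eq_of_mem_norm ((PU_normal p t).norm hg)]

theorem Op_two_cent (t1 : t ≠ 1) (t2 : t * t = 1) : Op 2 𝐂[t] ≠ ⊥ := fun e => t1 (mem_bot.1 (e ▸ OO.le_Op
  ⟨zpowers_le.2 (mem_cent1_self t), le_norm_of_le_cent (cent_zpowers t).ge⟩
  (abelem_isPGroup (abelem_zpowers (by rw [sq, t2]))) (mem_zpowers t)))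

namespace Cp

variable (h : Cp N L)
include h

/-- an outer involution which commutes with `t` -/
theorem exists_out (ht : t ∈ L) (t1 : t ≠ 1) (t2 : t * t = 1) (hu : u ∈ N) (u2 : u * u = 1)
    (uL : u ∉ L) : ∃ u ∈ N, u ∉ L ∧ F4 t u := by
  have u1 : u ≠ 1 := fun e => uL (e ▸ one_mem L)
  have h0 := mul_mem hu (h.le ht)
  by_cases ho : Odd (orderOf (u * t))
  · obtain ⟨k, e⟩ := R1.exists_conj_of_odd u2 t2 ho.not_two_dvd_nat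
    exact absurd (e ▸ conj_mem_of_norm (h.normal.norm (pow_mem h0 k)) ht) uL
  obtain ⟨z, hz, z1, z2, e1, e2⟩ := ZG.dihedral u2 t2 ho
  have zN := zpowers_le.2 h0 hz
  by_cases zL : z ∈ L
  · obtain ⟨g, hg, rfl⟩ := h.oc z zL t ht z1 z2 t1 t2
    have k : g * u * g⁻¹ ∉ L := fun e => uL ((conj_mem_conj_iff (g := g)).1
      (by rwa [conj_eq_of_mem_norm (le_norm_self L hg)]))
    exact ⟨_, conj_mem_of_norm (le_norm_self N (h.le hg)) hu, k, (f4_of_mem z1 z2 u1 u2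
      (mem_cent1.2 e1) fun e => uL (e ▸ zL)).conj g⟩
  · exact ⟨z, zN, zL, f4_of_mem t1 t2 z1 z2 (mem_cent1.2 e2.symm) fun e => zL (e ▸ ht)⟩

theorem oc_of (hi : ∀ i ∈ N, i * i = 1 → i ∈ L) : OC N := h.oc.mono_of h.le hi

theorem mul_not_mem (ht : t ∈ L) (uL : u ∉ L) : t * u ∉ L := by rwa [mul_mem_cancel_left ht]

/-- PGLkill -/
theorem kill' (hD : DH G) (co : CO.{u}) (ht : t ∈ L) (hu : u ∈ N) (uL : u ∉ L) (p : F4 t u)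
    (r : Rot t u ρ) (h1 : ρ⁻¹ •ᶜ KK L u ≤ N) (h2 : (ρ * ρ)⁻¹ •ᶜ KK L (t * u) ≤ N)
    (h3 : ∀ x ∈ ρ⁻¹ •ᶜ KK L u, x ≠ 1 → L ≤ 𝐂[x] → 𝐂[x] ⊓ 𝐂[t] ≤ N) : False := by
  have tu := mul_mem (h.le ht) hu
  have tuL := h.mul_not_mem ht uL
  have e1 : (ρ * ρ)⁻¹ * (t * u) * (ρ * ρ)⁻¹⁻¹ = t := by rw [← r.sq_t]; group
  have e2 : (ρ * ρ)⁻¹ * t * (ρ * ρ)⁻¹⁻¹ = u := by rw [mul_inv_rev, mul_cj, r.inv_t p, r.inv_te]
  have k1 := h.conj_le_O hD ht hu uL p r.inv_e ((r.inv_t p).symm ▸ tu) h1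
  have k2 := h.conj_le_O hD ht tu tuL p.mul e1 (e2.symm ▸ hu) h2
  obtain ⟨x, hx, x1⟩ := exists_mem_ne_one (h.cop t ht u hu uL p).2.1
  obtain ⟨y, hy, y1⟩ := exists_mem_ne_one (h.cop t ht _ tu tuL p.mul).2.1
  have a1 := conj_mem_conj (g := ρ⁻¹) hx
  have a2 := conj_ne_one (g := ρ⁻¹) |>.2 x1
  refine h.kill ht hu p hx x1 hy y1 (conj_le_iff_le_inv_conj.1 k1 hx |> (inv_inv ρ ▸ ·))
    (conj_le_iff_le_inv_conj.1 k2 hy |> (inv_inv (ρ * ρ) ▸ ·)) ?_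
  have a3 := h.cent_le hD co ht p.t1 p.t2 tu p.mul_sq tuL (k1 a1) a2 (by
    rw [← r.inv_t p, show ∀ g t x : G, g * t * g⁻¹ * (g * x * g⁻¹) * (g * t * g⁻¹)⁻¹ =
      g * (t * x * t⁻¹) * g⁻¹ from fun _ _ _ => by group, h.conj_inv hu (h.le ht) p.symm hx]; group)
    (h3 _ a1 a2 (h.cent.trans (cent_le_cent1 (k1 a1))))
  rwa [cent1_conj, conj_le_iff_le_inv_conj, inv_inv] at a3

end Cp

namespace Mn

variable (h : Mn a s t)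
include h

theorem norm_eq (hm : IsCoatom 𝐂[t]) (hQ : Q ⊴ 𝐂[t]) (h0 : Q ≠ ⊥) : 𝐍(Q) = 𝐂[t] :=
  h.smp.norm_eq hm hQ h0

theorem fs : FS 𝐂[t] := fs_of_sol (sol_of_le h.sol inf_le_left)

/-- NC -/
theorem not_U_le (hm : IsCoatom 𝐂[t]) (h0 : O 𝐂[t] ≠ ⊥) (p : F4 t e) : ¬ O 𝐂[t] ≤ 𝐂[e] := fun k => by
  obtain ⟨ρ, r⟩ := h.exists_rot p
  refine r.not_mem p ((h.norm_eq hm (Opi_normal _ _) h0).le (conj_eq_self_iff.1
    (eq_of_le_of_card_le ?_ (card_conj ρ _).le).symm))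
  rw [← O_conj, ← cent1_conj, r.ρt]
  exact h.dh.le_O p.e1 p.e2 le_rfl k (odd_O _)

/-- NC -/
theorem not_Fit_le (hm : IsCoatom 𝐂[t]) (h0 : O 𝐂[t] ≠ ⊥) (p : F4 t e) : ¬ Fit (O 𝐂[t]) ≤ 𝐂[e] :=
  fun k => h.not_U_le hm h0 p (le_cent1_iff.2 (coprime_cent_Fitting (zpowers_le.2 (O_norm _ p.e_mem))
    (coprime_zp (odd_O _) p.e2) (sol_of_odd (odd_O _)) ⟨mem_zpowers e, le_cent1_iff.1 k⟩))

/-- SL -/
theorem PU_le_cent [hr : Fact r.Prime] (p : F4 t e) (hX : X ≤ 𝐂[t] ⊓ 𝐂[e]) (hp : IsPGroup r X)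
    (hc : 𝐂(X) ≤ 𝐂[t]) : Op r (O 𝐂[t]) ≤ 𝐂[e] := by
  by_cases h0 : Op r (O 𝐂[t]) = ⊥
  · exact h0.le.trans bot_le
  obtain ⟨ρ, k⟩ := h.exists_rot p
  have h3 : ρ •ᶜ X ≤ 𝐂[t] ⊓ 𝐂[e] := k.conj_cent ▸ conj_mono ρ hX
  rw [← cent_zpowers e, le_cent_comm]
  refine thompson_AxB (isPGroup_conj.2 hp) ?_ (cent_zpowers e ▸ h3.trans inf_le_right)
    (Op_isPGroup r _) ((h3.trans inf_le_left).trans (PU_normal r t).norm)
    (zpowers_le.2 ((PU_normal r t).norm p.e_mem)) ?_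
  · rw [Nat.card_zpowers, orderOf_eq_two p.e2 p.e1, Nat.coprime_two_left]
    exact hr.out.odd_of_ne_two (PU_ne_two h0)
  · rw [cent_zpowers, cent_conj, ← k.ρt, cent1_conj]
    exact inf_le_right.trans (conj_mono ρ hc)

/-- the primes of `F(N)` -/
theorem Op_ne_bot [Fact q.Prime] (p : F4 t e) (hc : 𝐂[t] ⊓ 𝐂[e] ≤ N) (ha : Arr 𝐂[t] N)
    (h0 : Op q N ≠ ⊥) : Op q 𝐂[t] ≠ ⊥ := fun k => by
  have ho := odd_of_isPGroup (fun e' : q = 2 => Op_two_cent p.t1 p.t2 (e' ▸ k)) (Op_isPGroup q N)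
  have h1 := Op_inf_eq_bot ha h.fs k
  have h2 := hc.trans (Op_normal q N).norm
  have h3 := le_inf p.le_cent p.le_cent'
  have key : ∀ i, F4 t i → 𝐂[t] ⊓ 𝐂[i] = 𝐂[t] ⊓ 𝐂[e] → Op q N ⊓ 𝐂[i] ≤ ⊥ := fun i p' hc' => by
    obtain ⟨g, rfl⟩ := h.exists_conj p'.e1 p'.e2
    refine (le_Op_of_inv (odd_O _) p.t1 p.t2 (O_norm _ p'.t_mem) ((h.conj g).le_U inf_le_right
      (odd_of_le ho inf_le_left)) ((Op_isPGroup q N).to_le inf_le_left) (mem_norm_inf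
        (h2 (h3 (t_mem_S4 t e))) (le_norm_self _ p'.t_mem)) (eq_bot_iff.2 (h1 ▸ inf_le_inf_right _
          inf_le_left)) (le_norm_inf ((le_inf inf_le_right (inf_le_left.trans (Opi_le _ _))).trans
            (hc'.le.trans h2)) (le_norm_of_le (inf_le_left.trans (Opi_le _ _))))).trans
      ((PU_le q _).trans ?_)
    rw [cent1_conj, Op_conj, k, conj_bot]
  exact h0 (eq_bot_iff.2 (p.le_of_forall (h3.trans h2) ho h1.le (key e p rfl) (key _ p.mul p.cent_mul)))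

/-- BA -/
theorem ba [Fact p.Prime] (hm : IsCoatom 𝐂[t]) (hN : N ≠ ⊤) (hne : ¬ N ≤ 𝐂[t]) (ha : Arr 𝐂[t] N)
    (hi : In N t) (hπ : ∀ q : ℕ, q.Prime → Op q N ≠ ⊥ → Op q 𝐂[t] ≠ ⊥) (hp : Op p (O 𝐂[t]) ≠ ⊥) :
    (∃ v ∈ N, F4 t v ∧ O (N ⊓ 𝐂[t]) ≤ 𝐂[v]) ∨ ∃ L, Cp N L ∧ t ∈ L := by
  have h5 : Fit N ≤ 𝐂[t] := Fit_le_of_forall fun q hq => by
    by_cases e : Op q N = ⊥
    · exact e.le.trans bot_le
    by_cases e' : q = 2
    · exact h.smp.Op_le_of_arr hm ha (e' ▸ PU_ne_two hp) (hπ q hq.out e)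
        fun e => hp (eq_bot_iff.2 (e ▸ PU_le p t))
    · exact h.smp.Op_le_of_arr hm ha (Ne.symm e') (hπ q hq.out e) (Op_two_cent h.t1 h.t2)
  have h6 : O N ≤ 𝐂[t] := le_cent1_iff.2 (coprime_cent_Fitting (zpowers_le.2 (O_norm _ hi.mem))
    (coprime_zp (odd_O _) h.t2) (sol_of_odd (odd_O _)) ⟨mem_zpowers t, le_cent1_iff.1
      ((Fit_le_of_normal (Opi_normal _ _)).trans h5)⟩)
  obtain k | ⟨v, hv, p, k⟩ | k | k := h.kf.k4 N hN t hi h6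
  · exact absurd k hne
  · exact .inl ⟨v, hv, p, fun x hx => p.mem_cent_of_odd (k (Opi_le _ _ hx).1) (Opi_le _ _ hx).2
      (odd_of_mem (odd_O _) hx)⟩
  · obtain ⟨v, hv, p, k'⟩ := k.ex
    exact .inl ⟨v, hv, p, le_cent_of_comm p.e2 (O_norm _ ⟨hv, p.e_mem⟩) (odd_O _) (k'.trans
      (le_cent1_iff.2 (k.oc.mem_of_norm (le_norm_cent (O_norm N)) hi.mem (le_cent1_iff.1 h6) h.t1 h.t2
        hv p.e2)))⟩
  · exact .inr k

/-- the first case of BA does not occur -/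
theorem not_refl (hm : IsCoatom 𝐂[t]) (hD : D ≤ Fit (O 𝐂[t])) (h0 : D ≠ ⊥) (hN : D ≤ N)
    (hc : Fit (O 𝐂[t]) ⊓ 𝐂(D) ≤ N) (p : F4 t v) : ¬ O (N ⊓ 𝐂[t]) ≤ 𝐂[v] := fun k => by
  have h7 := (Fit_le _).trans (Opi_le _ _ : O 𝐂[t] ≤ _)
  have ho := odd_of_le (odd_O 𝐂[t]) (Fit_le _)
  have k' : Fit (O 𝐂[t]) ⊓ N ≤ 𝐂[v] := (h.dh.le_O h.t1 h.t2 inf_le_right
    (le_inf inf_le_right (inf_le_left.trans h7)) (odd_of_le ho inf_le_left)).trans k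
  refine h.not_Fit_le hm (fun e => h0 (eq_bot_iff.2 (e ▸ hD.trans (Fit_le _)))) p ?_
  rw [← cent_zpowers v, le_cent_comm]
  refine coprime_nil_faithful_cent_stab (zpowers_le.2 ((Opi_normal _ _).Fit.norm p.e_mem))
    (coprime_zp ho p.e2) (Fit_nil _) (le_inf inf_le_left ?_)
  rw [cent_zpowers]
  exact (le_inf inf_le_left ((inf_le_inf_left _ (cent_anti (le_inf hD ((le_inf hD hN).trans k')))).trans
    hc)).trans k'

variable (hm : IsCoatom 𝐂[t]) (hN : IsCoatom N) (k : Cp N L) (ht : t ∈ L)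
include hN k ht

theorem normal_inf (hA : A ⊴ 𝐂[t]) : A ⊓ O N ⊴ N :=
  ⟨inf_le_right.trans (Opi_le _ _), (k.isProd ht h.t1 h.t2).sup_eq.ge.trans (sup_le
    (le_norm_of_le_cent (k.cent.trans (cent_anti inf_le_right)))
    (le_norm_inf (inf_le_right.trans hA.norm) (inf_le_left.trans (O_norm N))))⟩

theorem plus_eq [hp : Fact p.Prime] (h0 : Op p (O 𝐂[t]) ⊓ O N ≠ ⊥) (he : e ∈ L) (p' : F4 t e) :
    Op p (O 𝐂[t]) ⊓ 𝐂[e] = Op p (O 𝐂[t]) ⊓ O N :=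
  (eq_of_nil_of_inf_norm_le (nil_of_le (Op_nil p _) inf_le_left) (inf_le_inf_left _ (k.O_le_cent he))
    (le_inf (inf_le_left.trans inf_le_left) (le_trans (le_inf ((inf_le_inf inf_le_left
      (h.smp.norm_eq hN (h.normal_inf hN k ht (PU_normal p t)) h0).le).trans (PU_inf_le p t N))
      (inf_le_left.trans inf_le_right)) (k.psl t ht e (k.le he) p' p hp.out
        (PU_ne_two fun e => h0 (by rw [e, bot_inf_eq])))))).symm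

include hm in
theorem mk_bad (hp : p.Prime) (h0 : Op p (O 𝐂[t]) ⊓ O N ≠ ⊥) (he : e ∈ L) (p' : F4 t e) :
    Bad a s t e p N L := by
  have := Fact.mk hp
  have h1 := h.plus_eq hN k ht h0 he p'
  have h2 := h.smp.norm_eq hN (h.normal_inf hN k ht (PU_normal p t)) h0
  refine ⟨h, hm, hN, k, ht, he, p', hp, h1 ▸ h0, fun e' => k.not_le_cent ht h.t1 h.t2 ?_, h1 ▸ h2⟩
  rw [← h1, inf_eq_left.2 e', h.norm_eq hm (PU_normal p t) fun e => h0 (by rw [e, bot_inf_eq])] at h2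
  exact k.le.trans h2.ge

end Mn

namespace Bad

variable (h : Bad a s t e p N L)
include h

theorem fact : Fact p.Prime := ⟨h.prime⟩

theorem P_ne : Op p (O 𝐂[t]) ≠ ⊥ := fun e => h.ne_bot (by rw [e, bot_inf_eq])

theorem U_ne : O 𝐂[t] ≠ ⊥ := fun e => h.P_ne (by rw [e, Op_bot])

theorem ne_two : p ≠ 2 := PU_ne_two h.P_ne

theorem tN : t ∈ N := h.cp.le h.tL

theorem eN : e ∈ N := h.cp.le h.eL

theorem of_cf {a' s' : G} (k : Cf ⊤ a' s' t) : Bad a' s' t e p N L := { h with mn := h.mn.of_cf k }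

theorem not_N_le : ¬ N ≤ 𝐂[t] := fun k => h.cp.not_le_cent h.tL h.mn.t1 h.mn.t2 (h.cp.le.trans k)

theorem not_H_le : ¬ 𝐂[t] ≤ N := fun k => h.not_N_le ((h.max.le_iff.1 k).resolve_left h.coatom.1).le

theorem cent_plus_le : 𝐂(Op p (O 𝐂[t]) ⊓ 𝐂[e]) ≤ N := (cent_le_norm _).trans h.norm.le

theorem cent_le : 𝐂[t] ⊓ 𝐂[e] ≤ N :=
  (le_norm_inf (inf_le_left.trans (PU_normal p t).norm) (le_norm_of_le inf_le_right)).trans h.norm.le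

theorem arr : Arr 𝐂[t] N :=
  have := h.fact
  arr_of_le (inf_le_left.trans ((PU_le p t).trans (Op_le_Fit p _))) ((le_norm_self _).trans h.norm.le)
    (inf_le_right.trans h.cent_plus_le)

theorem inf_le_O (hv : v ∈ N) (k : F4 t v) : Op p (O 𝐂[t]) ⊓ N ⊓ 𝐂[v] ≤ O N :=
  (inf_le_inf_right _ (PU_inf_le p t N)).trans (h.cp.psl t h.tL v hv k p h.prime h.ne_two)

theorem plus : Op p (O 𝐂[t]) ⊓ 𝐂[e] = Op p (O 𝐂[t]) ⊓ O N :=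
  le_antisymm (le_inf inf_le_left ((le_inf (le_inf inf_le_left ((le_norm_self _).trans h.norm.le))
    inf_le_right).trans (h.inf_le_O h.eN h.f4))) (inf_le_inf_left _ (h.cp.O_le_cent h.eL))

theorem plus_le : Op p (O 𝐂[t]) ⊓ 𝐂[e] ≤ O N := h.plus.le.trans inf_le_right

/-- every inner reflection is bad -/
theorem inner (hf : f ∈ L) (k : F4 t f) : Bad a s t f p N L :=
  h.mn.mk_bad h.max h.coatom h.cp h.tL h.prime (h.plus ▸ h.ne_bot) hf k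

theorem plus_inner (hf : f ∈ L) (k : F4 t f) : Op p (O 𝐂[t]) ⊓ 𝐂[f] = Op p (O 𝐂[t]) ⊓ 𝐂[e] :=
  (h.inner hf k).plus.trans h.plus.symm

theorem mem_of_conj (hg : g ∈ 𝐂[t]) (k : g * e * g⁻¹ ∈ L) : g ∈ N := by
  rw [← h.norm, ← conj_eq_self_iff, ← PU_plus_conj hg, h.plus_inner k (h.f4.conj_cent hg)]

theorem inf_eq (hA : A ≤ Op p (O 𝐂[t])) : A ⊓ 𝐂[e] = A ⊓ O N := by
  rw [← inf_eq_left.2 hA, inf_assoc, h.plus, inf_assoc]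

theorem normal_plus (hn : A ⊴ 𝐂[t]) (hA : A ≤ Op p (O 𝐂[t])) : A ⊓ 𝐂[e] ⊴ N :=
  h.inf_eq hA ▸ h.mn.normal_inf h.coatom h.cp h.tL hn

theorem norm_plus (hn : A ⊴ 𝐂[t]) (hA : A ≤ Op p (O 𝐂[t])) (h0 : A ⊓ 𝐂[e] ≠ ⊥) :
    𝐍(A ⊓ 𝐂[e]) = N := h.mn.smp.norm_eq h.coatom (h.normal_plus hn hA) h0

theorem comm_le_KK (hQ : Q ≤ O 𝐂[t]) (hN : Q ≤ N) : ⁅Q, zpowers e⁆ ≤ KK L t :=
  h.cp.le_KK h.mn.dh h.tN h.eL h.f4 (le_inf hN (hQ.trans (Opi_le _ _))) (odd_of_le (odd_O _) hQ)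

theorem KK_le_U : KK L t ≤ O 𝐂[t] := h.mn.le_U ((KK_le' L t).trans inf_le_right) (odd_KK L t)

theorem KK_le_Fit : KK L t ≤ Fit (O 𝐂[t]) :=
  le_Fit_of_inv (odd_O _) h.f4.e1 h.f4.e2 (O_norm _ h.f4.e_mem) h.KK_le_U
    (h.cp.norm_KK t ⟨h.eN, h.f4.e_mem⟩) (h.cp.inv t h.tN e h.eN h.f4)
    ((le_inf ((inf_le_inf_right _ (Opi_le _ _)).trans h.cent_le) (inf_le_left.trans (Opi_le _ _))).trans
      (h.cp.norm_KK t))

theorem Zc_le (r : ℕ) [Fact r.Prime] : Zc (Op r (O 𝐂[t])) ≤ N := by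
  by_cases k : r = 2
  · rw [k, Op_eq_bot (odd_O _).not_two_dvd_nat]; exact (OO.Zc_le _).trans bot_le
  rw [Op_Opi (by simpa using k)]
  exact h.arr.Zc_Op_le r

theorem dvd_KK [hr : Fact r.Prime] (h0 : Op r (O 𝐂[t]) ≠ ⊥) : r ∣ ♯(KK L t) := by
  by_contra h1
  have hn := (PU_normal r t).Zc
  have h2 : Zc (Op r (O 𝐂[t])) ≤ 𝐂[e] := by
    rw [← comm_eq_bot, eq_bot_iff, ← inf_eq_bot_of_coprime_card
      (coprime_of_isPGroup (Op_isPGroup r (O 𝐂[t])) ((piGrp_compl_singleton hr.out).2 h1))]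
    exact le_inf ((commutator_le_left' (zpowers_le.2 (hn.norm h.f4.e_mem))).trans (OO.Zc_le _))
      (h.comm_le_KK ((OO.Zc_le _).trans (Op_le _ _)) (h.Zc_le r))
  have h3 := (le_inf ((le_inf (OO.Zc_le _) (h.Zc_le r)).trans (PU_inf_le r t N)) h2).trans
    (h.cp.psl t h.tL e h.eN h.f4 r hr.out (PU_ne_two h0))
  exact h.cp.not_le_cent h.tL h.mn.t1 h.mn.t2 ((h.cp.cent.trans (cent_anti h3)).trans
    ((cent_le_norm _).trans (h.mn.norm_eq h.max hn (Zc_ne_bot (Op_nil r _) h0)).le))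

/-- the type `L₂(q)`: a Sylow 2-subgroup of `G` lies in `L` -/
theorem S4_le (hi : ∀ i ∈ N, i * i = 1 → i ∈ L) (k : Cf ⊤ b e t) : S4 b e ≤ L := by
  have : Fact (Nat.Prime 2) := ⟨Nat.prime_two⟩
  have h1 : S4 b e ⊓ N = S4 b e := eq_of_nil_of_inf_norm_le (nil_of_isPGroup k.two) inf_le_left
    fun x hx => ⟨hx.1, h.mem_of_conj (k.le_cent hx.1) (hi _ (conj_mem_of_norm hx.2
      ⟨s_mem_S4 b e, h.eN⟩).2 (conj_sq h.f4.e2 x))⟩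
  have h2 := hi _ (h1.ge (mul_mem (t_mem_S4 b e) (s_mem_S4 b e))).2 k.f4'.e2
  exact GW.S4_le.2 ⟨(mul_mem_cancel_right h.eL).1 h2, h.eL⟩

/-- the type `L₂(q)`: a frame inside `L` -/
theorem exists_frame (hi : ∀ i ∈ N, i * i = 1 → i ∈ L) : ∃ b, Bad b e t e p N L ∧
    Bad b e t (b * e) p N L ∧ S4 b e ≤ L := by
  obtain ⟨b, k⟩ := h.mn.exists_mn h.f4
  have h1 := h.S4_le hi k.cf
  exact ⟨b, h.of_cf k.cf, (h.of_cf k.cf).inner (h1 (mul_mem (t_mem_S4 b e) (s_mem_S4 b e))) k.cf.f4', h1⟩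

theorem exists_out (hi : ¬ ∀ i ∈ N, i * i = 1 → i ∈ L) : ∃ u ∈ N, u ∉ L ∧ F4 t u := by
  push Not at hi
  obtain ⟨u, hu, u2, uL⟩ := hi
  exact h.cp.exists_out h.tL h.mn.t1 h.mn.t2 hu u2 uL

theorem le_plus (hJ : L ≤ J) (hn : A ⊴ 𝐂[t]) (hA : A ≤ Op p (O 𝐂[t])) (h0 : A ⊓ 𝐂[e] ≠ ⊥)
    (h1 : A ⊓ 𝐂[e] ≤ Y) (h2 : Y ≤ A) (h3 : ⁅Y ⊓ N, zpowers e⁆ ≤ O J) : Y = A ⊓ 𝐂[e] := by
  have := h.fact
  refine (eq_of_nil_of_inf_norm_le (nil_of_le (Op_nil p _) (h2.trans hA)) h1 (le_inf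
    (inf_le_left.trans h2) ?_)).symm
  have h4 := h.comm_le_KK (inf_le_left.trans ((h2.trans hA).trans (Op_le _ _))) (inf_le_right (a := Y))
  rw [h.norm_plus hn hA h0, ← comm_eq_bot, eq_bot_iff, ← h.cp.KK_inf h.tN h.eL h.f4]
  exact le_inf h4 (((le_inf h3 (h4.trans ((KK_le' L t).trans inf_le_left))).trans
    (Opi_inf_le _ hJ)).trans (Opi_le_of_normal _ h.cp.normal))

/-- overgroups of the component -/
theorem inf_O (hJ : L ≤ J) (J1 : J ≠ ⊤) (hn : A ⊴ 𝐂[t]) (hA : A ≤ Op p (O 𝐂[t])) (hAJ : A ≤ J)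
    (h0 : A ⊓ 𝐂[e] ≠ ⊥) : A ⊓ O J = A ⊓ 𝐂[e] := by
  have := h.fact
  have h1 := (le_inf hA hAJ).trans (PU_inf_le p t J)
  by_cases k : A ⊓ 𝐂[e] ≤ O J
  · exact h.le_plus hJ hn hA h0 (le_inf inf_le_left k) inf_le_left ((commutator_mono
      (inf_le_left.trans inf_le_right) le_rfl).trans (commutator_le_left'
        (zpowers_le.2 (O_norm J (hJ h.eL)))))
  have h2 := h.mn.dh.le_O h.mn.t1 h.mn.t2 inf_le_right (le_inf hAJ hn.le) (odd_of_le (PU_odd p t) hA)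
  have h3 := (h.mn.kf.k3 J J1 t ((h.cp.isIn h.tL h.mn.t1 h.mn.t2).mono hJ) e (hJ h.eL) h.f4 p h.prime
    h.ne_two).resolve_left fun e => k ((inf_le_inf_right _ h1).trans e)
  obtain ⟨w, hw, h4⟩ := SetLike.not_le_iff_exists.1 k
  have h5 := h.le_plus hJ hn hA h0 inf_le_left le_rfl ((commutator_mono (inf_le_left.trans h2)
    le_rfl).trans (h3.comm_le (h2 hw.1) h4 (hJ h.eL) hw.2))
  exact absurd (hn.norm.trans ((congrArg (𝐍(·)) h5).trans (h.norm_plus hn hA h0)).le) h.not_H_le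

theorem inf_cent_le (hJ : L ≤ J) (J1 : J ≠ ⊤) (hn : A ⊴ 𝐂[t]) (hA : A ≤ Op p (O 𝐂[t])) (hAJ : A ≤ J)
    (h0 : A ⊓ 𝐂[e] ≠ ⊥) : J ⊓ 𝐂[t] ≤ N := by
  rw [← h.norm_plus hn hA h0, ← h.inf_O hJ J1 hn hA hAJ h0]
  exact le_norm_inf (inf_le_right.trans hn.norm) (inf_le_left.trans (O_norm J))

variable (hu : u ∈ N) (uL : u ∉ L) (k : F4 t u)
include hu uL k

/-- PGLkill -/
theorem kill (r : Rot t u ρ) (hn : A ⊴ 𝐂[t]) (hA : A ≤ Op p (O 𝐂[t])) (h0 : A ⊓ 𝐂[e] ≠ ⊥)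
    (h1 : ρ⁻¹ •ᶜ KK L u ≤ 𝐂(A)) (h2 : (ρ * ρ)⁻¹ •ᶜ KK L (t * u) ≤ 𝐂(A)) : False := by
  have h3 : 𝐂(A) ≤ N := ((cent_anti inf_le_left).trans (cent_le_norm _)).trans (h.norm_plus hn hA h0).le
  exact h.cp.kill' h.mn.dh h.mn.co h.tL hu uL k r (h1.trans h3) (h2.trans h3) fun x hx x1 hL =>
    h.inf_cent_le hL (h.mn.cent1_ne_top x1) hn hA (le_cent1_iff.2 (h1 hx)) h0

theorem cop [hr : Fact r.Prime] (h0 : Op r (O 𝐂[t]) ≠ ⊥) : ¬ r ∣ ♯(KK L u) := fun e =>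
  hr.out.one_lt.ne' (Nat.eq_one_of_dvd_coprimes (h.cp.cop t h.tL u hu uL k).1 (h.dvd_KK h0) e)

theorem conj_KK_le (e1 : g * u * g⁻¹ = t) : g •ᶜ KK L u ≤ O 𝐂[t] :=
  h.mn.le_U (by rw [← e1, cent1_conj]; exact conj_mono g ((KK_le' L u).trans inf_le_right))
    (by rw [card_conj]; exact odd_KK L u)

theorem pgl_aux (e1 : g * u * g⁻¹ = t) (hD : D ≤ O N ⊓ 𝐂[u]) (hp : IsPGroup p D) (hc : 𝐂(D) ≤ N) :
    g •ᶜ KK L u ≤ 𝐂(Op p (O 𝐂[t])) := by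
  have := h.fact
  have h1 := h.cop hu uL k h.P_ne
  have h2 := (KK_le' L u).trans (inf_le_inf_right _ h.cp.le)
  rw [← e1, PU_conj, cent_conj, conj_le_conj_iff]
  refine thompson_AxB hp ((Nat.Prime.coprime_iff_not_dvd h.prime).2 h1).symm (le_cent_symm
    (le_cent_mono h.cp.cent ((KK_le' L u).trans inf_le_left) (hD.trans inf_le_left))) (Op_isPGroup p _)
    ((hD.trans inf_le_right).trans (PU_normal p u).norm) ((h2.trans inf_le_right).trans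
      (PU_normal p u).norm) ((inf_le_inf_left _ hc).trans ?_)
  exact le_cent_of_coprime ((le_inf inf_le_right (inf_le_left.trans (PU_normal p u).le)).trans
    (h.cp.norm_KK u)) (le_norm_inf ((h2.trans inf_le_right).trans (PU_normal p u).norm)
      (le_norm_of_le (h2.trans inf_le_left))) (coprime_of_isPGroup ((Op_isPGroup p _).to_le inf_le_left)
        ((piGrp_compl_singleton h.prime).2 h1))

/-- PGL1 -/
theorem pgl1 (hD : D ≤ O N ⊓ 𝐂[u]) (hp : IsPGroup p D) : ¬ 𝐂(D) ≤ N := fun hc => by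
  obtain ⟨ρ, r⟩ := h.mn.exists_rot k
  refine h.kill hu uL k r (PU_normal p t) le_rfl h.ne_bot (h.pgl_aux hu uL k r.inv_e hD hp hc)
    (h.pgl_aux (mul_mem h.tN hu) (h.cp.mul_not_mem h.tL uL) k.mul (by rw [← r.sq_t]; group)
      (le_inf (hD.trans inf_le_left) ?_) hp hc)
  exact ((le_inf ((hD.trans inf_le_left).trans (h.cp.O_le_cent h.tL)) (hD.trans inf_le_right)).trans
    k.cent_mul.ge).trans inf_le_right

/-- the outer reflections do not invert `A` -/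
theorem not_inv (hn : A ⊴ 𝐂[t]) (hA : A ≤ Op p (O 𝐂[t])) (h0 : A ⊓ 𝐂[e] ≠ ⊥) : A ⊓ 𝐂[u] ≠ ⊥ :=
  fun h1 => by
  obtain ⟨ρ, r⟩ := h.mn.exists_rot k
  have key : ∀ {w g : G}, w ∈ N → w ∉ L → F4 t w → g * w * g⁻¹ = t → A ⊓ 𝐂[g * t * g⁻¹] = ⊥ →
      g •ᶜ KK L w ≤ 𝐂(A) := fun {w g} hw wL k e1 e2 => by
    have k' := k.symm.conj g
    rw [e1] at k'
    rw [← h.cp.comm_KK hw h.tN k.symm, conj_commutator, conj_zpowers]
    exact commutator_le_cent k'.e2 (((h.conj_KK_le hw wL k e1).trans (Opi_le _ _)).trans hn.norm)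
      (hn.norm k'.e_mem) e2
  refine h.kill hu uL k r hn hA h0 (key hu uL k r.inv_e ?_) (key (mul_mem h.tN hu)
    (h.cp.mul_not_mem h.tL uL) k.mul (by rw [← r.sq_t]; group) ?_)
  · rw [r.inv_t k, k.inf_cent_mul hn.le, h1]
  · rw [mul_inv_rev, mul_cj, r.inv_t k, r.inv_te, h1]

end Bad

/-- CAL -/
theorem cal (iie : IIE.{u}) (iia : IIA.{u}) (h : Mn a s t) (hm : IsCoatom 𝐂[t]) (k : F4 t u)
    (hr : r.Prime) (hn : A ⊴ 𝐂[t]) (hA : A ≤ Op r (O 𝐂[t])) (ha : Ab A) (h0 : A ⊓ 𝐂[u] ≠ ⊥) :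
    Op r (O 𝐂[t]) ≤ 𝐂[u] := by_contra fun h1 => by
  obtain ⟨e, N, L, b, h2⟩ := iie G a s t u r h hm k hr (fun e => h0 (eq_bot_iff.2
    (e ▸ inf_le_inf_right _ hA))) h1
  exact h0 (eq_bot_iff.2 (iia G a s t e r N L A b hn hA ha ▸ le_inf inf_le_left
    ((inf_le_inf_right _ hA).trans h2)))

end Cfsg.Agent.GW2
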