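import Cfsg.Agent.Lib.GW2.D0
import Cfsg.Agent.Lib.ZG.Dih

/-!
# Dihedral Sylow 2-subgroups of order at least 8: elementary facts
-/

set_option autoImplicit false
set_option linter.unusedSectionVars false

namespace Cfsg.Agent.GW2

open Subgroup Cfsg.Agent.OO Cfsg.Agent.Coprime GW ZG
open scoped commutatorElement Pointwise

universe u

variable {G : Type u} [Group G] [Finite G] {X Y R : Subgroup G} {a s t e g j u v x y : G}

namespace Cf

variable (h : Cf X a s t)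
include h

theorem chNorm : s * a * s⁻¹ ∈ zpowers a := h.inv ▸ inv_mem (mem_zpowers a)

theorem chTwo : IsPGroup 2 (zpowers a) := two_zp h.syl.isPGroup (t_mem_S4 a s)

theorem chMul (hx : x ∈ S4 a s) (hy : y ∈ S4 a s) (h1 : x ∉ zpowers a) (h2 : y ∉ zpowers a) :
    x * y ∈ zpowers a := by
  have := mul_mem ((h.mem.1 hx).resolve_left h1)
    (conj_mem_zp h.chNorm ((h.mem.1 hy).resolve_left h2))
  rwa [show x * s * (s * (y * s) * s⁻¹) = x * (s * s) * y by group, h.s2, mul_one] at this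

theorem chFourAux (p : Pair Y u v) (hu : u ∈ S4 a s) (hv : v ∈ S4 a s) (hy : y ∈ S4 a s)
    (h1 : u ∉ zpowers a) (hc : y * u = u * y) : y ∈ S4 u v := by
  have q : F4 t u := f4_of_mem h.t1 h.t2 p.t_ne p.t_sq (h.le_cent hu) fun e => h1 (e ▸ h.ta)
  rw [q.symm.S4_eq p.f4 (S4_comm t u ▸ h.cent_out hu h1 hv (mem_cent1.2 p.comm.symm.eq)), S4_comm]
  exact h.cent_out hu h1 hy (mem_cent1.2 hc)

/-- a four-group is a Sylow subgroup of its centralizer -/
theorem chMemFour (p : Pair Y u v) (hu : u ∈ X) (hv : v ∈ X) (hX : y ∈ X)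
    (hy : IsPGroup 2 (zpowers y)) (h1 : y * u = u * y) (h2 : y * v = v * y) : y ∈ S4 u v := by
  obtain ⟨g, -, e⟩ := h.syl.exists_conj_le (sup_le (S4_le.2 ⟨hu, hv⟩) (zpowers_le.2 hX))
    (isPGroup_sup p.isEp.isPGroup hy (Or.inr (zpowers_le.2
    (cent_le_norm _ (cent_S4 u v ▸ ⟨mem_cent1.2 h1, mem_cent1.2 h2⟩)))))
  have ht := e (conj_mem_conj (mem_sup_left (t_mem_S4 u v)))
  have hv := e (conj_mem_conj (mem_sup_left (s_mem_S4 u v)))
  have hy := e (conj_mem_conj (mem_sup_right (mem_zpowers y)))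
  have q := p.conj g
  rw [← conj_mem_conj_iff (g := g), conj_S4]
  by_cases e1 : g * u * g⁻¹ ∈ zpowers a
  · rw [S4_comm]
    exact h.chFourAux q.symm hv ht hy (fun e2 => q.ne (invol_eq e1 e2 q.t_ne q.t_sq q.s_ne q.s_sq))
      (by rw [conj_mul, conj_mul, h2])
  · exact h.chFourAux q ht hv hy e1 (by rw [conj_mul, conj_mul, h1])

theorem chPairCent (p : Pair Y u v) (hu : u ∈ X) (hv : v ∈ X) : Pair (X ⊓ 𝐂[u] ⊓ 𝐂[v]) u v := by
  have hle : S4 u v ≤ X ⊓ 𝐂[u] ⊓ 𝐂[v] := le_inf (le_inf (S4_le.2 ⟨hu, hv⟩) p.le_cent) p.le_cent'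
  have hS : Syl 2 (S4 u v) (X ⊓ 𝐂[u] ⊓ 𝐂[v]) := syl_of_max hle p.isEp.isPGroup fun U h1 h2 hU =>
    le_antisymm (fun y hy => h.chMemFour p hu hv (h2 hy).1.1 (two_zp hU hy) (mem_cent1.1 (h2 hy).1.2)
      (mem_cent1.1 (h2 hy).2)) h1
  refine { p with t_mem := (S4_le.1 hle).1, s_mem := (S4_le.1 hle).2, not_dvd := fun e => ?_ }
  rw [← card_mul_relIndex hle, p.card] at e
  exact hS.not_dvd (Nat.dvd_of_mul_dvd_mul_left (k := 4) (by decide) e)

theorem chPair : Pair (X ⊓ 𝐂[t] ⊓ 𝐂[s]) t s :=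
  h.chPairCent h.f4.pair h.t_mem h.s_mem

theorem chPnil : PNil 2 (X ⊓ 𝐂[t]) := pnil_two fun R hR h2 g hg hn ho => by
  obtain ⟨k, hk, hS⟩ := h.cent.syl.exists_conj_le hR h2
  have k1 : ∀ y ∈ R, y * y ≠ 1 → k * y * k⁻¹ ∈ zpowers a := fun y hy y2 => by_contra fun e =>
    y2 (by simpa using h.sq_of_not_mem (hS (conj_mem_conj hy)) e)
  have k2 : ∀ y ∈ R, k * y * k⁻¹ ∈ zpowers a → g * y = y * g := fun y hy e => by
    by_cases y2 : y * y = 1
    · by_cases y1 : y = 1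
      · simp [y1]
      have := h.eq_t e (conj_ne_one.2 y1) (conj_sq y2 k)
      rw [← mem_cent1_iff_conj.1 hk.2, mul_left_inj, mul_right_inj] at this
      exact this ▸ mem_cent1.1 hg.2
    have := zp_eq_of_orderOf (k1 _ (conj_mem_of_norm hn hy) (by simpa using y2)) e
      (by simp only [orderOf_conj])
    rw [← conj_zpowers k, ← conj_zpowers k, conj_inj] at this
    exact comm_of_two (two_zp h2 hy) ho (this ▸ mem_zpowers _)
  refine mem_cent_iff_conj.2 fun x hx => ?_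
  have hx' := conj_mem_of_norm hn hx
  by_cases e : k * x * k⁻¹ ∈ zpowers a
  · exact mul_inv_eq_iff_eq_mul.2 (k2 x hx e)
  by_cases e' : k * (g * x * g⁻¹) * k⁻¹ ∈ zpowers a
  · have := k2 _ hx' e'
    rw [inv_mul_cancel_right, mul_right_inj] at this
    exact this
  have hy := mul_mem (inv_mem hx) hx'
  have c := k2 _ hy (by
    rw [← conj_mul, ← conj_inv]
    exact h.chMul (inv_mem (hS (conj_mem_conj hx))) (hS (conj_mem_conj hx'))
      (by rwa [inv_mem_iff]) e')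
  obtain ⟨y, ey⟩ : ∃ y, y = x⁻¹ * (g * x * g⁻¹) := ⟨_, rfl⟩
  rw [← ey] at hy c
  have k3 : ∀ n : ℕ, g ^ n * x = x * y ^ n * g ^ n := fun n => by
    induction n with
    | zero => simp
    | succ n ih =>
      rw [pow_succ', mul_assoc, ih, ← mul_assoc, ← mul_assoc, show g * x = x * y * g by rw [ey]; group,
        mul_assoc (x * y), (Commute.pow_right c n).eq, pow_succ']
      group
  have k4 := k3 (orderOf g)
  rw [pow_orderOf_eq_one, one_mul, mul_one, left_eq_mul] at k4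
  have : y = 1 := by_contra fun y1 =>
    not_odd h2 hy y1 (ho.of_dvd_nat (orderOf_dvd_of_pow_eq_one k4))
  rw [this] at ey
  exact (inv_mul_eq_one.1 ey.symm).symm

theorem chSd : IsSdprod (O (X ⊓ 𝐂[t])) (S4 a s) (X ⊓ 𝐂[t]) := h.chPnil.sdprod h.cent.syl

theorem chMemO : x ∈ O (X ⊓ 𝐂[t]) ↔ x ∈ X ⊓ 𝐂[t] ∧ Odd (orderOf x) := ZG.mem_O h.chPnil

theorem chFour : 4 ∣ orderOf a := by
  obtain ⟨n, hn⟩ := IsPGroup.iff_card.1 h.chTwo
  rw [Nat.card_zpowers] at hn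
  obtain _ | _ | n := n
  · exact absurd (by rw [orderOf_eq_one_iff.1 hn, one_mul]) h.a2
  · exact absurd (by rw [← sq, ← show orderOf a = 2 from hn, pow_orderOf_eq_one]) h.a2
  · exact ⟨2 ^ n, by rw [hn]; ring⟩

theorem chSdS : IsSdprod (zpowers a) (zpowers s) (S4 a s) :=
  .of_sup (zpowers_le.2 (mem_norm_zp h.chNorm)) (eq_bot_iff.2 fun _ hx =>
    ((mem_zp h.s2).1 hx.2).resolve_right fun e => h.sa (e ▸ hx.1))

theorem chCard : ♯(S4 a s) = 2 * orderOf a := by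
  rw [← h.chSdS.card, Nat.card_zpowers, Nat.card_zpowers, orderOf_eq_two h.s2 h.s1, mul_comm]

theorem chRefl (he : e ∈ X ⊓ 𝐂[t]) (e1 : e ≠ 1) (e2 : e * e = 1) (ne : e ≠ t) :
    ∃ g ∈ X ⊓ 𝐂[t], g * e * g⁻¹ = s ∨ g * e * g⁻¹ = a * s :=
  h.cls he.1 (f4_of_mem h.t1 h.t2 e1 e2 he.2 ne)

end Cf

end Cfsg.Agent.GW2
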