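import Cfsg.Agent.Lib.GW2.CfB

/-!
# Dihedral Sylow 2-subgroups: characters induced from the subgroup of index 2 in `C(t)`
-/

set_option autoImplicit false
set_option linter.unusedSectionVars false

namespace Cfsg.Agent.GW2.Ch

open Subgroup Cfsg.Agent.OO Cfsg.Agent.Blk Cfsg.Agent.R1 GW ZG
open scoped ComplexConjugate Pointwise

universe u

variable {G : Type u} [Group G] [Finite G] {X : Subgroup G} {φ χ β B μ : G → ℂ}
  {a s t g k p q y : G} {r i j : ℕ}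

local notation "𝓗" => X ⊓ centralizer (Singleton.singleton t)
local notation "𝓤" => O (X ⊓ centralizer (Singleton.singleton t))
local notation "𝓚" => O (X ⊓ centralizer (Singleton.singleton t)) ⊔ zpowers a

section

variable (h : Cf X a s t)
include h

theorem sdK : IsSdprod 𝓤 (zpowers a) 𝓚 :=
  h.chSd.mono le_rfl le_sup_left (zpowers_le.2 (h.chSd.normal.norm h.cent.a_mem))

theorem K_le : 𝓚 ≤ 𝓗 := sup_le h.chSd.left_le (zpowers_le.2 h.cent.a_mem)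

theorem mem_H (hg : g ∈ 𝓗) : g ∈ 𝓚 ∨ g * s ∈ 𝓚 := by
  obtain ⟨u, hu, b, hb, rfl⟩ := h.chSd.mem_iff.1 hg
  exact (h.mem.1 hb).imp (fun e => mul_mem (mem_sup_left hu) (mem_sup_right e))
    fun e => mul_assoc u b s ▸ mul_mem (mem_sup_left hu) (mem_sup_right e)

theorem s_not : s ∉ 𝓚 := fun e => by
  obtain ⟨u, hu, b, hb, e⟩ := (sdK h).mem_iff.1 e
  have : u ∈ 𝓤 ⊓ S4 a s := ⟨hu, eq_mul_inv_of_mul_eq e ▸
    mul_mem (s_mem_S4 a s) ((S4 a s).inv_mem (mem_sup_left hb))⟩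
  rw [h.chSd.inf_eq, mem_bot] at this
  rw [this, one_mul] at e
  exact h.sa (e ▸ hb)

theorem s_norm : s ∈ 𝐍(𝓚) := mem_norm_sup (h.chSd.normal.norm h.cent.s_mem) (mem_norm_zp h.chNorm)

theorem K_normal : 𝓚 ⊴ 𝓗 := ⟨K_le h, fun _ hg => (mem_H h hg).elim (le_normalizer ·) fun e =>
  (mul_mem_cancel_right (s_norm h)).1 (le_normalizer e)⟩

theorem t_K : t ∈ 𝓚 := mem_sup_right h.ta

theorem t_not : t ∉ 𝓤 := fun e => h.t1 (eq_one_of_odd_of_sq (h.chMemO.1 e).2 h.t2)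

theorem eq_t_of_K (hk : k ∈ 𝓚) (k1 : k ≠ 1) (k2 : k * k = 1) : k = t := by
  by_contra ne
  obtain ⟨g, hg, e | e⟩ := h.chRefl (K_le h hk) k1 k2 ne <;>
    have := e ▸ (K_normal h).conj_mem hg hk
  · exact s_not h this
  · exact s_not h ((mul_mem_cancel_left (mem_sup_right (mem_zpowers a))).1 this)

theorem idx : (𝓚).relIndex 𝓗 = 2 := by
  have h1 := card_mul_relIndex (K_le h)
  rw [← (sdK h).card, ← h.chSd.card, h.chCard, Nat.card_zpowers, mul_assoc, mul_comm 2] at h1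
  exact Nat.eq_of_mul_eq_mul_left (orderOf_pos a) (Nat.eq_of_mul_eq_mul_left Nat.card_pos h1)

theorem t_mem_zp (hk : k ∈ 𝓚) (hu : k ∉ 𝓤) : t ∈ zpowers k := by
  obtain ⟨z, hz, z1, z2⟩ := ZG.exists_invol fun e => hu (h.chMemO.2 ⟨K_le h hk, e⟩)
  exact eq_t_of_K h (zpowers_le.2 hk hz) z1 z2 ▸ hz

theorem ti : NormedTI {k | k ∈ 𝓚 ∧ k ∉ 𝓤} X 𝓗 :=
  ⟨⟨t, t_K h, t_not h⟩, inf_le_left, fun g hg k hk => ⟨(K_normal h).conj_mem hg hk.1,
    fun e => hk.2 ((mem_norm_iff.1 (h.chSd.normal.norm hg) k).2 e)⟩, fun g hg k hk hk' =>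
    ⟨hg, mem_cent1_iff_conj.2 (eq_t_of_K h (zpowers_le.2 hk'.1 (conj_zpowers g k ▸
      conj_mem_conj (t_mem_zp h hk.1 hk.2))) (conj_ne_one.2 h.t1) (conj_sq h.t2 g))⟩⟩

theorem cinv : CInv t 𝓗 := ⟨h.cent.t_mem, inf_le_right, h.t2⟩

theorem reg (g : G) : g ∈ Reg 2 𝓗 ↔ g ∈ 𝓤 :=
  ⟨fun e => h.chMemO.2 ⟨e.1, Nat.odd_iff.2 (Nat.two_dvd_ne_zero.1 e.2)⟩, fun e =>
    ⟨Opi_le _ _ e, Nat.two_dvd_ne_zero.2 (Nat.odd_iff.1 (h.chMemO.1 e).2)⟩⟩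

end

/-- `B` extends the linear character `β` of `U` to `C(t)`, and `μ` is a faithful character of
`U ⟨a⟩ / U` -/
structure Dt (X : Subgroup G) (a s t : G) (β B μ : G → ℂ) (r : ℕ) : Prop extends Cf X a s t where
  oc : OC X
  linB : IsLinChar (X ⊓ 𝐂[t]) B
  res : cfRes (O (X ⊓ 𝐂[t])) B = β
  one : ∀ p ∈ X ⊓ 𝐂[t], p * p = 1 → B p = 1
  lin : IsLinChar (O (X ⊓ 𝐂[t]) ⊔ zpowers a) μ
  ker : O (X ⊓ 𝐂[t]) ≤ cfker (O (X ⊓ 𝐂[t]) ⊔ zpowers a) μ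
  μt : μ t = -1
  ord : orderOf a = 2 * r

theorem exists_dt (h : Cf X a s t) (oc : OC X) (hβ : IsLinChar 𝓤 β) (hβ' : β ∈ CF 𝓗) :
    ∃ B μ r, Dt X a s t β B μ r := by
  have ho := (odd_O 𝓗).of_dvd_nat (cforder_lin_char_dvdG hβ)
  obtain ⟨B, b1, b2, b3⟩ := extend_coprime_linear_char h.chSd.normal hβ (inertia_id hβ') (by
    obtain ⟨n, hn⟩ := IsPGroup.iff_card.1 h.syl.isPGroup
    rw [h.chSd.relIndex_left, hn]
    exact (Nat.coprime_two_left.2 ho).pow_left n)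
  obtain ⟨μ, m1, m2, m3⟩ := exists_lin_char_cfker (sdK h).normal
    ((sdK h).der_le_of_ab (ab_of_isCyclic inferInstance)) (t_not h)
  obtain ⟨r, hr⟩ := (by decide : 2 ∣ 4).trans h.chFour
  refine ⟨B, μ, r, h, oc, b1, b2, fun p hp p2 => ?_, m1, m2, ?_, hr⟩
  · have e := pow_cforder B hp
    obtain ⟨m, hm⟩ := ho
    rwa [b3, hm, pow_succ, pow_mul, sq, ← lin_charM b1 hp hp, p2, b1.one, one_pow, one_mul] at e
  · have := lin_charM m1 (t_K h) (t_K h)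
    rw [h.t2, m1.one, eq_comm, mul_self_eq_one_iff] at this
    exact this.resolve_left fun e => m3 ((mem_cfker_lin m1).2 e)

/-- the linear characters of `K` over `β` -/
noncomputable def ps (K : Subgroup G) (B μ : G → ℂ) (j : ℕ) : G → ℂ := cfRes K B * μ ^ j

/-- the virtual characters of `C(t)` which are induced to `X` -/
noncomputable def al (K : Subgroup G) (B μ : G → ℂ) (r j : ℕ) : G → ℂ :=
  ps K B μ 0 + ps K B μ 0 - ps K B μ j - ps K B μ (2 * r - j)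

local notation "ψ" => ps (O (X ⊓ centralizer (Singleton.singleton t)) ⊔ zpowers a) B μ
local notation "α" => al (O (X ⊓ centralizer (Singleton.singleton t)) ⊔ zpowers a) B μ r
local notation "𝓍" j => cfInd X (X ⊓ centralizer (Singleton.singleton t))
  (al (O (X ⊓ centralizer (Singleton.singleton t)) ⊔ zpowers a) B μ r j)

theorem ps_apply (hk : k ∈ 𝓚) (j : ℕ) : ψ j k = B k * μ k ^ j := by simp [ps, cfResE _ hk]

theorem ps_zero (hk : k ∉ 𝓚) (j : ℕ) : ψ j k = 0 := by simp [ps, cfRes_of_not_mem _ hk]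

namespace Dt

variable (h : Dt X a s t β B μ r)
include h

theorem linβ : IsLinChar 𝓤 β := h.res ▸ h.linB.cfRes h.chSd.left_le

theorem β_eq (hy : y ∈ 𝓤) : β y = B y := by rw [← h.res, cfResE _ hy]

theorem r_even : ∃ m, r = 2 * m ∧ 0 < m := by
  obtain ⟨m, hm⟩ := h.chFour
  have := orderOf_pos a
  exact ⟨m, by have := h.ord; omega, by omega⟩

theorem μ_one (hk : k ∈ 𝓚) : μ k = 1 ↔ k ∈ 𝓤 := by
  refine ⟨fun e => by_contra fun hu => ?_, fun e => (mem_cfker_lin h.lin).1 (h.ker e)⟩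
  have := (mem_cfker_lin h.lin).1 (zpowers_le.2 ((mem_cfker_lin h.lin).2 e) (t_mem_zp h.toCf hk hu))
  rw [h.μt] at this
  norm_num at this

theorem μ_pow (hk : k ∈ 𝓚) : μ k ^ (2 * r) = 1 := by
  have := cforder_dvd_relIndex h.lin h.ker
  rw [(sdK h.toCf).relIndex_left, Nat.card_zpowers, h.ord] at this
  exact cforder_dvd_iff.1 this k hk

theorem prim : IsPrimitiveRoot (μ a) (2 * r) := by
  have ha : a ∈ 𝓚 := mem_sup_right (mem_zpowers a)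
  refine ⟨h.μ_pow ha, fun l e => ?_⟩
  rw [← lin_charX h.lin ha, h.μ_one (pow_mem ha l)] at e
  rw [← h.ord, orderOf_dvd_iff_pow_eq_one, ← mem_bot, ← (sdK h.toCf).inf_eq]
  exact ⟨e, pow_mem (mem_zpowers a) l⟩

theorem μ_conj (hk : k ∈ 𝓚) : μ (s * k * s⁻¹) = (μ k)⁻¹ := by
  obtain ⟨u, hu, b, hb, rfl⟩ := (sdK h.toCf).mem_iff.1 hk
  rw [← conj_mul, cfkerMl (h.ker (h.chSd.normal.conj_mem h.cent.s_mem hu)), cfkerMl (h.ker hu),
    h.inv' hb, lin_charV h.lin (mem_sup_right hb)]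

theorem inv_pow (hk : k ∈ 𝓚) (hj : j ≤ 2 * r) : (μ k)⁻¹ ^ j = μ k ^ (2 * r - j) := by
  rw [_root_.inv_pow, pow_sub₀ _ (lin_char_neq0 h.lin hk) hj, h.μ_pow hk, one_mul]

theorem ps_lin (j : ℕ) : IsLinChar 𝓚 (ψ j) := by
  rcases j.eq_zero_or_pos with rfl | hj
  · simpa [ps] using h.linB.cfRes (K_le h.toCf)
  · exact (h.linB.cfRes (K_le h.toCf)).mul (h.lin.pow hj.ne')

theorem ps_conj (hj : j ≤ 2 * r) (k : G) : ψ j (s * k * s⁻¹) = ψ (2 * r - j) k := by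
  by_cases hk : k ∈ 𝓚
  · rw [ps_apply hk, ps_apply (conj_mem_of_norm (s_norm h.toCf) hk), h.μ_conj hk, h.inv_pow hk hj,
      cfunJ h.linB.mem_CF h.cent.s_mem]
  · rw [ps_zero hk, ps_zero (mt (mem_norm_iff.1 (s_norm h.toCf) k).2 hk)]

theorem ps_top : ψ (2 * r) = ψ 0 := cfun_ext (h.ps_lin _).mem_CF (h.ps_lin _).mem_CF fun k hk => by
  rw [ps_apply hk, ps_apply hk, h.μ_pow hk, pow_zero]

theorem ps_dot (hi : i < 2 * r) (hj : j < 2 * r) : ⟪ψ i, ψ j⟫[𝓚] = if i = j then 1 else 0 := by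
  classical
  have ha : a ∈ 𝓚 := mem_sup_right (mem_zpowers a)
  rw [cfdot_irr (h.ps_lin i).isIrr (h.ps_lin j).isIrr]
  refine if_congr ⟨fun e => ?_, fun e => e ▸ rfl⟩ rfl rfl
  have := congrFun e a
  rw [ps_apply ha, ps_apply ha] at this
  exact h.prim.pow_inj hi hj (mul_left_cancel₀ (lin_char_neq0 h.linB h.cent.a_mem) this)

theorem dot_symm (hφ : φ ∈ CF 𝓗) (hj : j ≤ 2 * r) : ⟪ψ (2 * r - j), φ⟫[𝓚] = ⟪ψ j, φ⟫[𝓚] := by
  rw [← cfdot_cfConjg (inv_mem (s_norm h.toCf)) (ψ j), cfConjg_id hφ (inv_mem h.cent.s_mem)]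
  exact cfdot_congr (fun k _ => by rw [cfConjgE, inv_inv, h.ps_conj hj]) fun _ _ => rfl

theorem al_apply (hk : k ∈ 𝓚) (j : ℕ) : α j k = B k * (2 - μ k ^ j - μ k ^ (2 * r - j)) := by
  simp only [al, Pi.sub_apply, Pi.add_apply, ps_apply hk]; ring

theorem al_K (j : ℕ) : α j ∈ CF 𝓚 :=
  sub_mem (sub_mem (add_mem (h.ps_lin _).mem_CF (h.ps_lin _).mem_CF) (h.ps_lin _).mem_CF)
    (h.ps_lin _).mem_CF

theorem al_on (hj : j ≤ 2 * r) : α j ∈ CFon 𝓗 {k | k ∈ 𝓚 ∧ k ∉ 𝓤} := by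
  refine ⟨⟨suppOn_mono (K_le h.toCf) (h.al_K j).1, fun g hg k => ?_⟩, fun k hk => ?_⟩
  · rcases mem_H h.toCf hg with e | e
    · exact cfunJ (h.al_K j) e k
    rw [show g * k * g⁻¹ = g * s * (s⁻¹ * k * s⁻¹⁻¹) * (g * s)⁻¹ by group, cfunJ (h.al_K j) e,
      inv_eq h.s2]
    simp only [al, Pi.sub_apply, Pi.add_apply, h.ps_conj hj, h.ps_conj (Nat.zero_le _),
      h.ps_conj (Nat.sub_le _ _), Nat.sub_zero, h.ps_top, Nat.sub_sub_self hj]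
    ring
  · by_cases e : k ∈ 𝓚
    · rw [h.al_apply e, (h.μ_one e).2 (not_not.1 fun c => hk ⟨e, c⟩)]; norm_num
    · exact cfun0 (h.al_K j) e

theorem al_dot (hφ : φ ∈ CF 𝓗) (hj : j ≤ 2 * r) :
    ⟪α j, φ⟫[𝓗] = ⟪ψ 0, φ⟫[𝓚] - ⟪ψ j, φ⟫[𝓚] := by
  have := cfdot_of_suppOn (K_le h.toCf) (h.al_K j).1 φ
  rw [idx h.toCf] at this
  nth_rewrite 2 [al] at this
  rw [cfdotBl, cfdotBl, cfdotDl, h.dot_symm hφ hj] at this
  push_cast at this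
  linear_combination this / 2

theorem x_dot (hχ : χ ∈ CF X) (hj : j ≤ 2 * r) : ⟪𝓍 j, χ⟫[X] = ⟪ψ 0, χ⟫[𝓚] - ⟪ψ j, χ⟫[𝓚] := by
  rw [cfdot_cfInd_left inf_le_left (h.al_on hj).1.1 hχ, ← cfdot_cfRes_right,
    h.al_dot (cfRes_mem_CF inf_le_left hχ) hj]
  congr 1 <;> exact cfdot_congr (fun _ _ => rfl) fun k hk => cfResE _ (K_le h.toCf hk)

theorem int_dot (hχ : IsIrr X χ) (j : ℕ) : IsCint ⟪ψ j, χ⟫[𝓚] :=
  cfdot_cfRes_right (H := 𝓚) (ψ j) χ ▸ (Cnat_cfdot_char (h.ps_lin j).isChar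
    (hχ.isChar.cfRes ((K_le h.toCf).trans inf_le_left))).isCint

theorem x_vchar (hj : j ≤ 2 * r) : (𝓍 j) ∈ ZIrr X :=
  vchar_of_cfdot (cfInd_mem_CF _ _ _) fun _ hχ =>
    h.x_dot hχ.mem_CF hj ▸ (h.int_dot hχ 0).sub (h.int_dot hχ j)

theorem gram (i0 : 0 < i) (hi : i < 2 * r) (j0 : 0 < j) (hj : j < 2 * r) :
    ⟪𝓍 i, 𝓍 j⟫[X] = 2 + (if i = j then 1 else 0) + if i = 2 * r - j then 1 else 0 := by
  rw [normedTI_isometry (ti h.toCf) (h.al_on hi.le) (h.al_on hj.le), h.al_dot (h.al_on hj.le).1 hi.le]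
  simp only [al, cfdotBr, cfdotDr]
  rw [h.ps_dot (by omega) (by omega), h.ps_dot (by omega) hj, h.ps_dot (by omega) (by omega),
    h.ps_dot hi (by omega), h.ps_dot hi hj, h.ps_dot hi (by omega), if_pos rfl, if_neg j0.ne,
    if_neg (by omega), if_neg i0.ne']
  ring

theorem x_one (hj : j ≤ 2 * r) : (𝓍 j) 1 = 0 := by
  rw [cfInd1 inf_le_left, (h.al_on hj).2 1 fun e => e.2 (one_mem _), mul_zero]

theorem x_t (hj : j ≤ 2 * r) (hy : y ∈ 𝓤) : (𝓍 j) (t * y) = (2 - 2 * (-1) ^ j) * β y := by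
  have h1 : t * y ∈ 𝓚 := mul_mem (t_K h.toCf) (mem_sup_left hy)
  have h2 : μ (t * y) = -1 := by rw [cfkerMr h.lin.mem_CF (h.ker hy), h.μt]
  rw [normedTI_Ind_id (ti h.toCf) (h.al_on hj)
    ⟨h1, fun e => t_not h.toCf ((mul_mem_cancel_right hy).1 e)⟩ (K_le h.toCf h1).1, h.al_apply h1,
    ← h.inv_pow h1 hj, h2, lin_charM h.linB h.cent.t_mem (h.chSd.left_le hy),
    h.one t h.cent.t_mem h.t2, h.β_eq hy, inv_neg_one]
  ring

theorem sum_ps : ∑ j ∈ Finset.range (2 * r), (-1 : ℂ) ^ j • ψ j = (2 * r : ℂ) • tr t β := by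
  funext k
  rw [Finset.sum_apply, Pi.smul_apply, tr_apply, smul_eq_mul]
  by_cases hk : k ∈ 𝓚
  swap
  · rw [cfun0 h.linβ.mem_CF fun e => hk ((mul_mem_cancel_left (t_K h.toCf)).1 (mem_sup_left e))]
    simp [ps_zero hk]
  have h1 := mul_mem (t_K h.toCf) hk
  rw [Finset.sum_congr rfl (g := fun j => B k * μ (t * k) ^ j) fun j _ => by
    rw [Pi.smul_apply, ps_apply hk, lin_charM h.lin (t_K h.toCf) hk, h.μt, mul_pow, smul_eq_mul]
    ring, ← Finset.mul_sum]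
  by_cases e : t * k ∈ 𝓤
  · rw [(h.μ_one h1).2 e, h.β_eq e, lin_charM h.linB h.cent.t_mem (K_le h.toCf hk),
      h.one t h.cent.t_mem h.t2]
    simp [mul_comm]
  · rw [cfun0 h.linβ.mem_CF e, geom_sum_eq (mt (h.μ_one h1).1 e), h.μ_pow h1]; simp

/-- the decomposition numbers at `t` -/
theorem d_eq (hχ : IsIrr X χ) :
    ⟪tr t χ, β⟫[𝓤] = ∑ j ∈ Finset.range (2 * r), (-1) ^ j * ⟪ψ j, χ⟫[𝓚] := by
  have c : CInv t 𝓚 := ⟨t_K h.toCf, (K_le h.toCf).trans inf_le_right, h.t2⟩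
  have h1 : ∑ j ∈ Finset.range (2 * r), (-1) ^ j * ⟪ψ j, χ⟫[𝓚] = ⟪β, tr t χ⟫[𝓤] := by
    rw [← cfdot_of_suppOn le_sup_left h.linβ.mem_CF.1, ← c.cfdot_tr, (sdK h.toCf).relIndex_left,
      Nat.card_zpowers, h.ord, ← cfdotZl, Nat.cast_mul, Nat.cast_ofNat, ← h.sum_ps, cfdot_suml]
    simp only [cfdotZl]
  rw [cfdotC, ← h1]
  exact (isCint_sum fun j _ => ((isCint_one.neg).pow j).mul (h.int_dot hχ j)).conj_eq

end Dt

end Cfsg.Agent.GW2.Ch
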