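import Cfsg.Agent.Lib.GW2.ChA

/-!
# Dihedral Sylow 2-subgroups: the order formulas
-/

set_option autoImplicit false
set_option linter.unusedSectionVars false

namespace Cfsg.Agent.GW2.Ch

open Subgroup Cfsg.Agent.OO Cfsg.Agent.Blk Cfsg.Agent.R1 GW ZG
open scoped ComplexConjugate Pointwise

universe u

variable {G : Type u} [Group G] [Finite G] {X : Subgroup G} {φ χ β B μ : G → ℂ}
  {a s t g k p q y : G} {r i j : ℕ}

local notation "𝓗" => X ⊓ centralizer (Singleton.singleton t)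
local notation "𝓤" => O (X ⊓ centralizer (Singleton.singleton t))
local notation "𝓚" => O (X ⊓ centralizer (Singleton.singleton t)) ⊔ zpowers a
local notation "ψ" => ps (O (X ⊓ centralizer (Singleton.singleton t)) ⊔ zpowers a) B μ
local notation "α" => al (O (X ⊓ centralizer (Singleton.singleton t)) ⊔ zpowers a) B μ r
local notation "𝓍" j => cfInd X (X ⊓ centralizer (Singleton.singleton t))
  (al (O (X ⊓ centralizer (Singleton.singleton t)) ⊔ zpowers a) B μ r j)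

/-- three vectors and four vectors with inner product two -/
theorem shape {ι : Type*} {I : Finset ι} {w z : ι → ℤ} (hz : ∀ i ∈ I, z i = 0 ∨ z i = 1 ∨ z i = -1)
    (h1 : ∑ i ∈ I, w i * w i = 3) (h2 : ∑ i ∈ I, z i * z i = 4) (h3 : ∑ i ∈ I, w i * z i = 2) :
    ∃ a ∈ I, ∃ b ∈ I, ∃ c ∈ I, ∃ d ∈ I, ∃ e ∈ I, (w a = z a ∧ z a ≠ 0) ∧ (w b = z b ∧ z b ≠ 0) ∧
      (w c = 0 ∧ z c ≠ 0) ∧ (w d = 0 ∧ z d ≠ 0) ∧ (w e = 1 ∨ w e = -1) ∧
      (∀ i ∈ I, w i = z i → z i ≠ 0 → i = a ∨ i = b) ∧ ∀ g : ι → ℂ,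
      ∑ i ∈ I, w i * g i = z a * g a + z b * g b + w e * g e ∧
      ∑ i ∈ I, z i * g i = z a * g a + z b * g b + z c * g c + z d * g d := by
  classical
  have hw : ∀ i ∈ I, w i = 0 ∨ w i = 1 ∨ w i = -1 := fun i hi => by
    have := Finset.single_le_sum (fun i _ => mul_self_nonneg (w i)) hi
    have : w i ≤ 1 := by nlinarith
    have : -1 ≤ w i := by nlinarith
    omega
  have key : ∀ {M : Type} [AddCommGroup M] (f : ι → M), (∀ i ∈ I, w i = 0 → z i = 0 → f i = 0) →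
      ∑ i ∈ I, f i = ∑ i ∈ I.filter (fun i => w i = z i ∧ z i ≠ 0), f i +
      ∑ i ∈ I.filter (fun i => w i = -z i ∧ z i ≠ 0), f i +
      ∑ i ∈ I.filter (fun i => w i = 0 ∧ z i ≠ 0), f i +
      ∑ i ∈ I.filter (fun i => w i ≠ 0 ∧ z i = 0), f i := fun f hf => by
    simp only [Finset.sum_filter, ← Finset.sum_add_distrib]
    refine Finset.sum_congr rfl fun i hi => ?_
    have := hf i hi
    rcases hw i hi with e | e | e <;> rcases hz i hi with e' | e' | e' <;> simp [e, e'] at this ⊢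
    exact this
  have c : ∀ (P : ι → Prop) [DecidablePred P] (f : ι → ℤ) (m : ℤ), (∀ i ∈ I, P i → f i = m) →
      ∑ i ∈ I.filter P, f i = (I.filter P).card * m := fun P _ f m hf => by
    rw [Finset.sum_congr rfl fun i hi => hf i (Finset.mem_filter.1 hi).1 (Finset.mem_filter.1 hi).2,
      Finset.sum_const, nsmul_eq_mul]
  rw [key _ fun i _ e _ => by simp [e], c _ _ 1, c _ _ 1, c _ _ 0, c _ _ 1] at h1
  rw [key _ fun i _ _ e => by simp [e], c _ _ 1, c _ _ 1, c _ _ 1, c _ _ 0] at h2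
  rw [key _ fun i _ e _ => by simp [e], c _ _ 1, c _ _ (-1), c _ _ 0, c _ _ 0] at h3
  rotate_left
  any_goals
    intro i hi
    rcases hw i hi with e | e | e <;> rcases hz i hi with e' | e' | e' <;> simp [e, e']
  obtain ⟨a, b, ab, e1⟩ := Finset.card_eq_two.1
    (by omega : (I.filter fun i => w i = z i ∧ z i ≠ 0).card = 2)
  obtain ⟨c, d, cd, e2⟩ := Finset.card_eq_two.1
    (by omega : (I.filter fun i => w i = 0 ∧ z i ≠ 0).card = 2)
  obtain ⟨e, e3⟩ := Finset.card_eq_one.1 (by omega : (I.filter fun i => w i ≠ 0 ∧ z i = 0).card = 1)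
  have e4 := Finset.card_eq_zero.1 (by omega : (I.filter fun i => w i = -z i ∧ z i ≠ 0).card = 0)
  have ma := Finset.mem_filter.1 (e1.ge (Finset.mem_insert_self a _))
  have mb := Finset.mem_filter.1 (e1.ge (Finset.mem_insert_of_mem (Finset.mem_singleton_self b)))
  have mc := Finset.mem_filter.1 (e2.ge (Finset.mem_insert_self c _))
  have md := Finset.mem_filter.1 (e2.ge (Finset.mem_insert_of_mem (Finset.mem_singleton_self d)))
  have me := Finset.mem_filter.1 (e3.ge (Finset.mem_singleton_self e))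
  refine ⟨a, ma.1, b, mb.1, c, mc.1, d, md.1, e, me.1, ma.2, mb.2, mc.2, md.2,
    (hw e me.1).resolve_left me.2.1, fun i hi p q => by
      simpa using e1.le (Finset.mem_filter.2 ⟨hi, p, q⟩), fun g => ⟨?_, ?_⟩⟩
  · rw [key _ fun i _ e _ => by simp [e], e1, e2, e3, e4, Finset.sum_pair ab, Finset.sum_pair cd]
    simp [ma.2.1, mb.2.1, mc.2.1, md.2.1]
  · rw [key _ fun i _ _ e => by simp [e], e1, e2, e3, e4, Finset.sum_pair ab, Finset.sum_pair cd]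
    simp [me.2.2, add_assoc]

namespace Dt

variable (h : Dt X a s t β B μ r)
include h

theorem al_mul (j0 : 0 < j) (hj : j < 2 * r) (hp : p ∈ X) (p1 : p ≠ 1) (p2 : p * p = 1)
    (q1 : q ≠ 1) (q2 : q * q = 1) : α j (p * q) = 2 * (μ (p * s) ^ (2 * r) * μ (q * s) ^ (2 * r)) -
      μ (p * s) ^ j * μ (q * s) ^ (2 * r - j) - μ (p * s) ^ (2 * r - j) * μ (q * s) ^ j := by
  have c := h.toCf
  by_cases e : p * s ∈ 𝓚 ∧ q * s ∈ 𝓚
  · have e1 : p * q = p * s * (q * s)⁻¹ := by rw [mul_inv_rev, inv_eq q2]; group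
    have hp := (mul_mem_cancel_right c.cent.s_mem).1 (K_le c e.1)
    have hq := (mul_mem_cancel_right c.cent.s_mem).1 (K_le c e.2)
    rw [h.al_apply (e1 ▸ mul_mem e.1 (inv_mem e.2)), lin_charM h.linB hp hq, h.one p hp p2,
      h.one q hq q2, e1, lin_charM h.lin e.1 (inv_mem e.2), lin_charV h.lin e.2, mul_pow, mul_pow,
      h.inv_pow e.2 hj.le, h.inv_pow e.2 (Nat.sub_le _ _), Nat.sub_sub_self hj.le, h.μ_pow e.1,
      h.μ_pow e.2]
    ring
  rw [(h.al_on hj.le).2 _ fun hA => e ?_]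
  · rcases not_and_or.1 e with e | e <;>
      simp [cfun0 h.lin.mem_CF e, j0.ne', (Nat.sub_pos_of_lt hj).ne', (j0.trans hj).ne']
  have h1 : p ∈ 𝓗 := (ti c).mem_of_conj p hp _ hA (by
    rw [inv_mul_left p2 q2]; exact ⟨inv_mem hA.1, fun e => hA.2 (inv_mem_iff.1 e)⟩)
  have h2 : p ∉ 𝓚 := fun e => hA.2 (by
    rw [eq_t_of_K c e p1 p2, eq_t_of_K c ((mul_mem_cancel_left e).1 hA.1) q1 q2, h.t2]
    exact one_mem _)
  exact ⟨(mem_H c h1).resolve_left h2, (mem_H c ((mul_mem_cancel_left h1).1 (K_le c hA.1))).resolve_left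
    fun e => h2 ((mul_mem_cancel_right e).1 hA.1)⟩

theorem μ_K (hk : k ∈ 𝓚) (p : G) : μ (k * p * k⁻¹ * s) = μ k ^ 2 * μ (p * s) := by
  have h1 := conj_mem_of_norm (s_norm h.toCf) (inv_mem hk)
  rw [show k * p * k⁻¹ * s = k * (p * s⁻¹⁻¹ * (s⁻¹ * k⁻¹ * s⁻¹⁻¹)) by group, inv_eq h.s2,
    lin_charMl h.lin hk, ← cfun_mul_comm h.lin.mem_CF h1, lin_charMl h.lin h1,
    h.μ_conj (inv_mem hk), lin_charV h.lin hk, inv_inv, inv_eq h.s2]
  ring

theorem F_zero (j0 : 0 < j) (hj : j < 2 * r) (hr : j ≠ r) :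
    ∑ i ∈ elts (X : Set G), μ (i * t * i⁻¹ * s) ^ j = 0 := by
  have h1 := sum_elts_mul_left h.a_mem fun i => μ (i * t * i⁻¹ * s) ^ j
  rw [Finset.sum_congr rfl (g := fun i => μ a ^ (2 * j) * μ (i * t * i⁻¹ * s) ^ j) fun i _ => by
    rw [pow_mul, ← mul_pow, ← h.μ_K (mem_sup_right (mem_zpowers a))]; congr 2; group,
    ← Finset.mul_sum] at h1
  refine by_contra fun h0 => ?_
  have e := (mul_eq_right₀ h0).1 h1
  obtain ⟨m, hm⟩ := Nat.dvd_of_mul_dvd_mul_left two_pos (h.prim.dvd_of_pow_eq_one _ e)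
  obtain _ | _ | m := m
  exacts [by omega, by omega, by nlinarith]

theorem μ_H (hg : g ∈ 𝓗) (p : G) : μ (g * p * g⁻¹ * s) ^ r = μ (p * s) ^ r := by
  have h1 : ∀ k ∈ 𝓚, ∀ p, μ (k * p * k⁻¹ * s) ^ r = μ (p * s) ^ r := fun k hk p => by
    rw [h.μ_K hk, mul_pow, ← pow_mul, h.μ_pow hk, one_mul]
  rcases mem_H h.toCf hg with e | e
  · exact h1 g e p
  rw [show g * p * g⁻¹ = g * s * (s⁻¹ * p * s) * (g * s)⁻¹ by group, h1 _ e, inv_eq h.s2,
    show s * p * s * s = s * (p * s) * s⁻¹⁻¹ by group, inv_eq h.s2]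
  by_cases c : p * s ∈ 𝓚
  · rw [h.μ_conj c, h.inv_pow c (by omega), show 2 * r - r = r by omega]
  · rw [cfun0 h.lin.mem_CF c, cfun0 h.lin.mem_CF (mt (mem_norm_iff.1 (s_norm h.toCf) _).2 c)]

open Classical in
theorem μ_r (p1 : p ≠ 1) (p2 : p * p = 1) (e : ℕ) (he : e ≠ 0) : μ (p * s) ^ (r * e) =
    (if ∃ g ∈ 𝓗, g * p * g⁻¹ = s then 1 else 0) +
      (-1) ^ e * if ∃ g ∈ 𝓗, g * p * g⁻¹ = a * s then 1 else 0 := by
  obtain ⟨m, rfl, hm⟩ := h.r_even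
  have h1 : (∃ g ∈ 𝓗, g * p * g⁻¹ = s) → μ (p * s) ^ (2 * m) = 1 := fun ⟨g, hg, e⟩ => by
    rw [← h.μ_H hg, e, h.s2, h.lin.one, one_pow]
  have h2 : (∃ g ∈ 𝓗, g * p * g⁻¹ = a * s) → μ (p * s) ^ (2 * m) = -1 := fun ⟨g, hg, e⟩ => by
    rw [← h.μ_H hg, e, mul_assoc, h.s2, mul_one]
    exact (h.prim.pow (by omega) (mul_comm _ _)).eq_neg_one_of_two_right
  rw [pow_mul]
  split_ifs with c1 c2 c2
  · exact absurd ((h1 c1).symm.trans (h2 c2)) (by norm_num)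
  · simp [h1 c1]
  · simp [h2 c2]
  rw [cfun0 h.lin.mem_CF fun c => ?_]
  · simp [he, hm.ne']
  obtain ⟨g, hg, e | e⟩ := h.chRefl ((mul_mem_cancel_right h.cent.s_mem).1 (K_le h.toCf c)) p1 p2
    fun e => s_not h.toCf ((mul_mem_cancel_left (t_K h.toCf)).1 (e ▸ c))
  exacts [c1 ⟨g, hg, e⟩, c2 ⟨g, hg, e⟩]

theorem F_mul (e : ℕ) (he : e ≠ 0) : ∑ i ∈ elts (X : Set G), μ (i * t * i⁻¹ * s) ^ (r * e) =
    (kI X t s + (-1) ^ e * kI X t (a * s)) * ♯𝓗 := by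
  have h2 : ∀ g ∈ X, ♯(X ⊓ 𝐂[g * t * g⁻¹]) = ♯𝓗 := fun g hg => by
    rw [← card_conj g 𝓗, conj_inf, ← cent1_conj, conj_eq_of_mem hg]
  obtain ⟨g, hg, e1⟩ := h.oc t h.t_mem s h.s_mem h.t1 h.t2 h.s1 h.s2
  obtain ⟨k, hk, e2⟩ := h.oc t h.t_mem _ h.swap.s_mem h.t1 h.t2 h.swap.s1 h.swap.s2
  have h4 := sum_conj_ite (H := 𝓗) inf_le_left hg e1
  have h5 := sum_conj_ite (H := 𝓗) inf_le_left hk e2
  rw [← e1, h2 g hg, e1] at h4
  rw [← e2, h2 k hk, e2] at h5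
  rw [Finset.sum_congr rfl fun i _ => h.μ_r (conj_ne_one.2 h.t1) (conj_sq h.t2 i) e he,
    Finset.sum_add_distrib, ← Finset.mul_sum, h4, h5]
  ring

theorem order_eq (j0 : 0 < j) (hj : j < 2 * r) :
    nI X t * ∑ χ ∈ Irr X, ⟪𝓍 j, χ⟫[X] * (χ t * χ t / χ 1) =
      if j = r then (8 * kI X t s * kI X t (a * s) : ℂ) else 2 * (kI X t s + kI X t (a * s)) ^ 2 := by
  have h1 := sum_prod_conj inf_le_left (h.al_on hj.le).1.1 h.t_mem h.t_mem
  rw [Finset.sum_congr rfl fun i hi => Finset.sum_congr rfl fun k _ =>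
    h.al_mul j0 hj (conj_mem_of_mem (mem_elts.1 hi) h.t_mem) (conj_ne_one.2 h.t1)
      (conj_sq h.t2 i) (conj_ne_one.2 h.t1) (conj_sq h.t2 k)] at h1
  simp only [← Finset.mul_sum, Finset.sum_sub_distrib, ← Finset.sum_mul] at h1
  rw [← card_mul_relIndexC (inf_le_left : 𝓗 ≤ X), inf_relIndex_left,
    mul_comm 2 r, h.F_mul 2 two_ne_zero, mul_comm r 2] at h1
  rw [Finset.sum_congr rfl fun χ hχ => by
    rw [cfdot_cfInd_left inf_le_left (h.al_on hj.le).1.1 (mem_Irr.1 hχ).mem_CF]]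
  refine mul_left_cancel₀ (pow_ne_zero 2 (cardC_ne_zero 𝓗)) ?_
  split_ifs with e
  · have := h.F_mul 1 one_ne_zero
    rw [mul_one] at this
    rw [e, show 2 * r - r = r by omega, this] at h1
    rw [e]
    linear_combination -h1
  · rw [h.F_zero j0 hj e] at h1
    linear_combination -h1

end Dt

end Cfsg.Agent.GW2.Ch
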