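import Cfsg.Agent.Lib.GW2.ChB

/-!
# Dihedral Sylow 2-subgroups: the characters over a stable linear character
-/

set_option autoImplicit false
set_option linter.unusedSectionVars false

namespace Cfsg.Agent.GW2.Ch

open Subgroup Cfsg.Agent.OO Cfsg.Agent.Blk Cfsg.Agent.R1 GW ZG
open scoped ComplexConjugate Pointwise

universe u

variable {G : Type u} [Group G] [Finite G] {X : Subgroup G} {φ θ χ β B μ : G → ℂ}
  {a s t g k p q y : G} {r i j : ℕ}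

local notation "𝓗" => X ⊓ centralizer (Singleton.singleton t)
local notation "𝓤" => O (X ⊓ centralizer (Singleton.singleton t))
local notation "𝓚" => O (X ⊓ centralizer (Singleton.singleton t)) ⊔ zpowers a
local notation "ψ" => ps (O (X ⊓ centralizer (Singleton.singleton t)) ⊔ zpowers a) B μ
local notation "α" => al (O (X ⊓ centralizer (Singleton.singleton t)) ⊔ zpowers a) B μ r
local notation "𝓍" j => cfInd X (X ⊓ centralizer (Singleton.singleton t))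
  (al (O (X ⊓ centralizer (Singleton.singleton t)) ⊔ zpowers a) B μ r j)

theorem sum_symm {f : ℕ → ℂ} (h : ∀ j ≤ 2 * r, f (2 * r - j) = f j) :
    ∑ j ∈ Finset.range (2 * r), f j = 2 * ∑ j ∈ Finset.range r, f j + f r - f 0 := by
  have h1 := Finset.sum_range_reflect (fun j => f (j + 1)) r
  have h2 := Finset.sum_range_succ' f r
  rw [Finset.sum_range_succ] at h2
  rw [two_mul r, Finset.sum_range_add, Finset.sum_congr rfl (f := fun j => f (r + j))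
    (g := fun j => f (r - 1 - j + 1)) fun j hj => by
      have := Finset.mem_range.1 hj
      rw [← h (r + j) (by omega)]; congr 1; omega, h1]
  linear_combination -h2

/-- multiplicities as integers -/
noncomputable def mi (X : Subgroup G) (φ χ : G → ℂ) : ℤ := ⌊(⟪φ, χ⟫[X]).re⌋

theorem mi_eq (hφ : φ ∈ ZIrr X) (hχ : IsIrr X χ) : ⟪φ, χ⟫[X] = mi X φ χ := by
  obtain ⟨m, hm⟩ := Cint_cfdot_vchar_irr hφ hχ
  simp [mi, hm]

theorem sum_mi (hφ : φ ∈ ZIrr X) (f : (G → ℂ) → ℂ) :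
    ∑ χ ∈ Irr X, ⟪φ, χ⟫[X] * f χ = ∑ χ ∈ Irr X, mi X φ χ * f χ :=
  Finset.sum_congr rfl fun _ hχ => by rw [mi_eq hφ (mem_Irr.1 hχ)]

theorem sum_mi_mi (hφ : φ ∈ ZIrr X) (hθ : θ ∈ ZIrr X) {n : ℤ} (h : ⟪φ, θ⟫[X] = n) :
    ∑ χ ∈ Irr X, mi X φ χ * mi X θ χ = n := by
  rw [cfdot_sum_irr (vchar_mem_CF hφ), Finset.sum_congr rfl fun χ hχ => by
    rw [mi_eq hφ (mem_Irr.1 hχ), mi_eq hθ (mem_Irr.1 hχ), map_intCast]] at h
  exact_mod_cast h

/-- an irreducible character with sign, of degree `P` and with values `k β` on `t U` -/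
def Sg (X : Subgroup G) (t : G) (β : G → ℂ) (k P : ℤ) : Prop :=
  ∃ (χ : G → ℂ) (ε : ℤ), IsIrr X χ ∧ (ε = 1 ∨ ε = -1) ∧ ε * χ 1 = P ∧
    ∀ y ∈ O (X ⊓ 𝐂[t]), ε * χ (t * y) = k * β y

theorem exists_sg (hχ : IsIrr X χ) {ε k : ℤ} (hε : ε = 1 ∨ ε = -1) (h1 : β 1 = 1)
    (h : ∀ y ∈ 𝓤, ε * χ (t * y) = k * β y) :
    ∃ P : ℤ, Sg X t β k P ∧ ε * χ 1 = P ∧ ε * (χ t * χ t / χ 1) = k ^ 2 / P := by
  obtain ⟨n, -, hn⟩ := hχ.exists_one
  have h2 := h 1 (one_mem _)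
  have h3 : ε * χ 1 = (ε * n : ℤ) := by rw [hn]; push_cast; rfl
  refine ⟨ε * n, ⟨χ, ε, hχ, hε, h3, h⟩, h3, ?_⟩
  rw [mul_one, h1, mul_one] at h2
  rw [← h3, ← h2]
  rcases hε with rfl | rfl <;> simp [sq, div_neg]

namespace Dt

variable (h : Dt X a s t β B μ r)
include h

theorem al_symm (hj : j ≤ 2 * r) : α (2 * r - j) = α j := by
  rw [al, al, Nat.sub_sub_self hj, sub_right_comm]

theorem d_eq' (hχ : IsIrr X χ) : ⟪tr t χ, β⟫[𝓤] =
    -(2 * ∑ j ∈ Finset.range r, (-1) ^ j * ⟪𝓍 j, χ⟫[X] + ⟪𝓍 r, χ⟫[X]) := by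
  obtain ⟨m, hm, -⟩ := h.r_even
  have h1 := sum_symm (f := fun j => (-1) ^ j * ⟪𝓍 j, χ⟫[X]) (r := r) fun j hj => by
    rw [h.al_symm hj, neg_one_pow_congr (n := j) (by rw [Nat.even_sub hj]; simp)]
  rw [Finset.sum_congr rfl fun j hj => by
    rw [h.x_dot hχ.mem_CF (Finset.mem_range.1 hj).le, mul_sub], Finset.sum_sub_distrib,
    ← h.d_eq hχ, ← Finset.sum_mul, neg_one_geom_sum, if_pos (even_two_mul r),
    h.x_dot hχ.mem_CF (Nat.zero_le _), Even.neg_one_pow ⟨m, by omega⟩] at h1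
  linear_combination -h1

theorem mi_r (hχ : IsIrr X χ) : mi X (𝓍 r) χ = 0 ∨ mi X (𝓍 r) χ = 1 ∨ mi X (𝓍 r) χ = -1 := by
  obtain ⟨m, hm, m0⟩ := h.r_even
  have h1 := h.x_vchar (j := r) (by omega)
  have := (norm_four h1 (by
    rw [h.gram (by omega) (by omega) (by omega) (by omega), if_pos rfl, if_pos (by omega)]; norm_num)
    (h.x_one (by omega))).2 χ hχ
  rw [cfdot_vchar_comm (irr_vchar hχ) h1, mi_eq h1 hχ, ← or_iff_not_imp_left] at this
  exact_mod_cast this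

variable (hst : ∀ y ∈ O (X ⊓ 𝐂[t]), ∀ g ∈ X, g * y * g⁻¹ ∈ O (X ⊓ 𝐂[t]) → β (g * y * g⁻¹) = β y)
include hst

theorem val (hχ : IsIrr X χ) (h0 : ⟪tr t χ, β⟫[𝓤] ≠ 0) (hy : y ∈ 𝓤) :
    χ (t * y) = ⟪tr t χ, β⟫[𝓤] * β y := by
  simpa using apply_eq_sum (k := 1) h.t_mem (by rw [pow_one, pow_two, h.t2]) (reg h.toCf)
    (S := {β}) (by simpa using h.linβ) (fun _ hy _ hg e => by simpa using hst _ hy _ hg e)
    hχ (Finset.mem_singleton_self β) h0 hy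

theorem mi_r_zero (hχ : IsIrr X χ) (h2 : χ t = 2 ∨ χ t = -2) : mi X (𝓍 r) χ = 0 := by
  obtain ⟨m, hm⟩ := isCint_sum (s := Finset.range r) fun j hj => (isCint_one.neg.pow j).mul
    (Cint_cfdot_vchar_irr (h.x_vchar (j := j) (by have := Finset.mem_range.1 hj; omega)) hχ)
  have h1 := h.d_eq' hχ
  rw [hm, mi_eq (h.x_vchar (by omega)) hχ] at h1
  have h3 := fun e => h.val hst hχ e (one_mem _)
  rw [mul_one, h.linβ.one, mul_one, h1, ← or_iff_not_imp_left] at h3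
  have h4 : -(2 * m + mi X (𝓍 r) χ) = 0 ∨ 2 = -(2 * m + mi X (𝓍 r) χ) ∨
      -2 = -(2 * m + mi X (𝓍 r) χ) := by
    rcases h2 with e | e <;> rw [e] at h3 <;> norm_cast at h3 <;> tauto
  have := h.mi_r hχ
  omega

theorem mi_odd_even (hi : i < 2 * r) (io : Odd i) (j0 : 0 < j) (hj : j < 2 * r) (je : Even j)
    (jr : j ≠ r) (hχ : IsIrr X χ) (h0 : mi X (𝓍 r) χ ≠ 0) : ⟪𝓍 i, χ⟫[X] = ⟪𝓍 j, χ⟫[X] := by
  classical
  obtain ⟨m, hm, -⟩ := h.r_even
  obtain ⟨i', hi'⟩ := id io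
  obtain ⟨j', hj'⟩ := id je
  obtain ⟨ξ, η, hξ, hη, -, e⟩ := vchar_norm2 (sub_mem (h.x_vchar hi.le) (h.x_vchar hj.le))
    (by rw [Pi.sub_apply, h.x_one hi.le, h.x_one hj.le, sub_zero]) (cfnorm_eq_of_cfdot (by
      rw [cfdotBl, cfdotBr, cfdotBr, h.gram io.pos hi io.pos hi, h.gram io.pos hi j0 hj,
        h.gram j0 hj io.pos hi, h.gram j0 hj j0 hj, if_pos rfl, if_pos rfl, if_neg (by omega),
        if_neg (by omega), if_neg (by omega), if_neg (by omega), if_neg (by omega), if_neg (by omega)]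
      norm_num))
  have h1 := congrFun e 1
  have h2 := congrFun e (t * 1)
  rw [Pi.sub_apply, Pi.sub_apply, h.x_one hi.le, h.x_one hj.le, sub_zero, eq_comm, sub_eq_zero] at h1
  rw [Pi.sub_apply, Pi.sub_apply, h.x_t hi.le (one_mem _), h.x_t hj.le (one_mem _), io.neg_one_pow,
    je.neg_one_pow, h.linβ.one, mul_one t] at h2
  have h3 := (h.order_eq io.pos hi).trans ((if_neg (by omega)).trans
    ((h.order_eq j0 hj).trans (if_neg jr)).symm)
  rw [mul_right_inj' (relIndexC_ne_zero _ _), ← sub_eq_zero,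
    ← Finset.sum_sub_distrib, Finset.sum_congr rfl fun χ hχ => by
      rw [← sub_mul, ← cfdotBl, e, cfdotBl, cfdot_irr hξ (mem_Irr.1 hχ), cfdot_irr hη (mem_Irr.1 hχ),
        sub_mul, ite_mul, ite_mul, one_mul, zero_mul], Finset.sum_sub_distrib, Finset.sum_ite_eq,
    Finset.sum_ite_eq, if_pos (mem_Irr.2 hξ), if_pos (mem_Irr.2 hη), h1, sub_eq_zero,
    div_left_inj' (irr1_neq0 hη)] at h3
  have h4 : ξ t + η t = 0 := by linear_combination (h3 + (ξ t + η t) * h2) / 4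
  rw [← sub_eq_zero, ← cfdotBl, e, cfdotBl, cfdot_irr_ne hξ hχ, cfdot_irr_ne hη hχ, sub_zero] <;>
    rintro rfl
  · exact h0 (h.mi_r_zero hst hχ (.inr (by linear_combination (h4 + h2) / 2)))
  · exact h0 (h.mi_r_zero hst hχ (.inl (by linear_combination (h4 - h2) / 2)))

theorem d_val (hχ : IsIrr X χ) (h0 : mi X (𝓍 r) χ ≠ 0) :
    ⟪tr t χ, β⟫[𝓤] = 2 * mi X (𝓍 1) χ - mi X (𝓍 r) χ := by
  obtain ⟨m, hm, m0⟩ := h.r_even
  have h1 : ∀ j, 0 < j → j < r → ⟪𝓍 j, χ⟫[X] = ⟪𝓍 1, χ⟫[X] := fun j j0 hj => by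
    rcases j.even_or_odd with e | e
    · exact (h.mi_odd_even hst (by omega) odd_one j0 (by omega) e hj.ne hχ h0).symm
    rcases (by obtain ⟨i, hi⟩ := e; omega : j = 1 ∨ 2 < r) with rfl | c
    · rfl
    · rw [h.mi_odd_even hst (by omega) e two_pos (by omega) even_two c.ne hχ h0,
        h.mi_odd_even hst (by omega) odd_one two_pos (by omega) even_two c.ne hχ h0]
  have h2 : ∑ j ∈ Finset.range r, (-1) ^ j * (⟪𝓍 j, χ⟫[X] - ⟪𝓍 1, χ⟫[X]) = -⟪𝓍 1, χ⟫[X] := by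
    rw [Finset.sum_eq_single_of_mem 0 (Finset.mem_range.2 (by omega)) fun j hj j0 => by
      rw [h1 j (Nat.pos_of_ne_zero j0) (Finset.mem_range.1 hj), sub_self, mul_zero],
      h.x_dot hχ.mem_CF (Nat.zero_le _)]
    ring
  simp only [mul_sub, Finset.sum_sub_distrib, ← Finset.sum_mul] at h2
  rw [neg_one_geom_sum, if_pos ⟨m, by omega⟩] at h2
  rw [h.d_eq' hχ, ← mi_eq (h.x_vchar (by omega)) hχ, ← mi_eq (h.x_vchar (by omega)) hχ]
  linear_combination -2 * h2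

theorem sg_val (hχ : IsIrr X χ) (h0 : mi X (𝓍 r) χ ≠ 0) {ε : ℤ} (hε : ε = 1 ∨ ε = -1)
    (e : 2 * mi X (𝓍 1) χ - mi X (𝓍 r) χ = ε) (y : G) (hy : y ∈ 𝓤) :
    ε * χ (t * y) = (1 : ℤ) * β y := by
  have h1 : ⟪tr t χ, β⟫[𝓤] = ε := by rw [h.d_val hst hχ h0]; exact_mod_cast e
  rw [h.val hst hχ (by rcases hε with rfl | rfl <;> simp [h1]) hy, h1]
  rcases hε with rfl | rfl <;> simp

omit hst in
theorem mi_cf1 (e : β = cf1 𝓤) (j0 : 0 < j) (hj : j < 2 * r) : mi X (𝓍 j) (cf1 X) = 1 := by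
  have h1 : ∀ i, ⟪ψ i, cf1 X⟫[𝓚] = ⟪ψ i, ψ 0⟫[𝓚] := fun i => cfdot_congr (fun _ _ => rfl) fun k hk => by
    rw [cf1E (K_le h.toCf hk).1, ps_apply hk, pow_zero, mul_one]
    obtain ⟨u, hu, b, hb, rfl⟩ := (sdK h.toCf).mem_iff.1 hk
    have h2 := mul_mem (zpowers_le.2 h.cent.a_mem hb) h.cent.s_mem
    rw [show u * b = u * (b * s * s) by rw [mul_assoc b, h.s2, mul_one],
      lin_charMl h.linB (h.chSd.left_le hu), lin_charMl h.linB h2, ← h.β_eq hu, e, cf1E hu,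
      h.one _ h2 (h.out_sq hb), h.one s h.cent.s_mem h.s2, one_mul, one_mul]
  have h2 := mi_eq (h.x_vchar hj.le) (isIrr_cf1 X)
  rw [h.x_dot (cf1_mem_CF X) hj.le, h1, h1, h.ps_dot (by omega) (by omega), h.ps_dot hj (by omega),
    if_pos rfl, if_neg j0.ne', sub_zero] at h2
  exact_mod_cast h2.symm

theorem core : ∃ P Q R T : ℤ, Sg X t β 1 P ∧ Sg X t β 1 Q ∧ Sg X t β 1 R ∧ Sg X t β 1 T ∧
    Sg X t β (-2) (P + Q) ∧ R + T = P + Q ∧
    (nI X t : ℚ) * (1 / P + 1 / Q - 4 / (P + Q)) = 2 * (kI X t s + kI X t (a * s)) ^ 2 ∧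
    (nI X t : ℚ) * (1 / P + 1 / Q - 1 / R - 1 / T) = 8 * kI X t s * kI X t (a * s) ∧
    (β = cf1 𝓤 → P = 1 ∨ Q = 1) := by
  obtain ⟨m, hm, m0⟩ := h.r_even
  have v1 := h.x_vchar (j := 1) (by omega)
  have vr := h.x_vchar (j := r) (by omega)
  have z := fun χ (hχ : χ ∈ Irr X) => h.mi_r (mem_Irr.1 hχ)
  obtain ⟨A, hA, B', hB, C, hC, D, hD, E, hE, a1, b1, c1, d1, e1, k1, k2⟩ := shape z
    (sum_mi_mi v1 v1 (by
      rw [h.gram one_pos (by omega) one_pos (by omega), if_pos rfl, if_neg (by omega)]; norm_num))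
    (sum_mi_mi vr vr (by
      rw [h.gram (by omega) (by omega) (by omega) (by omega), if_pos rfl, if_pos (by omega)]; norm_num))
    (sum_mi_mi v1 vr (by
      rw [h.gram one_pos (by omega) (by omega) (by omega), if_neg (by omega), if_neg (by omega)]
      norm_num))
  have za := (z A hA).resolve_left a1.2
  have zb := (z B' hB).resolve_left b1.2
  have zc : -mi X (𝓍 r) C = 1 ∨ -mi X (𝓍 r) C = -1 := by have := z C hC; omega
  have zd : -mi X (𝓍 r) D = 1 ∨ -mi X (𝓍 r) D = -1 := by have := z D hD; omega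
  have va := h.sg_val hst (mem_Irr.1 hA) a1.2 za (by omega)
  have vb := h.sg_val hst (mem_Irr.1 hB) b1.2 zb (by omega)
  obtain ⟨P, p1, p2, p3⟩ := exists_sg (mem_Irr.1 hA) za h.linβ.one va
  obtain ⟨Q, q1, q2, q3⟩ := exists_sg (mem_Irr.1 hB) zb h.linβ.one vb
  obtain ⟨R, r1, r2, r3⟩ := exists_sg (mem_Irr.1 hC) zc h.linβ.one
    (h.sg_val hst (mem_Irr.1 hC) c1.2 zc (by omega))
  obtain ⟨T, t1, t2, t3⟩ := exists_sg (mem_Irr.1 hD) zd h.linβ.one
    (h.sg_val hst (mem_Irr.1 hD) d1.2 zd (by omega))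
  obtain ⟨S, s1, s2, s3⟩ := exists_sg (mem_Irr.1 hE) (ε := -mi X (𝓍 1) E) (k := -2) (by omega)
    h.linβ.one fun y hy => by
      have := h.x_t (j := 1) (by omega) hy
      rw [cfun_apply_sum_cfdot (vchar_mem_CF v1), sum_mi v1, (k2 _).1, va y hy, vb y hy] at this
      push_cast at this ⊢
      linear_combination -this
  have o1 := h.x_one (j := 1) (by omega)
  have o2 := h.x_one (j := r) (by omega)
  have o3 := h.order_eq one_pos (by omega)
  have o4 := h.order_eq (j := r) (by omega) (by omega)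
  rw [cfun_apply_sum_cfdot (vchar_mem_CF v1), sum_mi v1, (k2 _).1, p2, q2] at o1
  rw [cfun_apply_sum_cfdot (vchar_mem_CF vr), sum_mi vr, (k2 _).2, p2, q2] at o2
  rw [sum_mi v1, (k2 _).1, p3, q3, if_neg (by omega)] at o3
  rw [sum_mi vr, (k2 _).2, p3, q3, if_pos rfl] at o4
  push_cast at r2 r3 t2 t3 s2 s3 o3 o4
  obtain rfl : S = P + Q := by exact_mod_cast (by linear_combination -s2 - o1 : (S : ℂ) = P + Q)
  refine ⟨P, Q, R, T, p1, q1, r1, t1, s1,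
    by exact_mod_cast (by linear_combination -r2 - t2 - o2 : (R + T : ℂ) = P + Q),
    @Rat.cast_injective ℂ _ _ _ _ ?_, @Rat.cast_injective ℂ _ _ _ _ ?_, fun e => ?_⟩
  · push_cast at s3 ⊢
    linear_combination o3 + nI X t * s3
  · push_cast
    linear_combination o4 + nI X t * (r3 + t3)
  have w := h.mi_cf1 e (j := r) (by omega) (by omega)
  refine (k1 _ (cf1_mem_Irr X) ((h.mi_cf1 e one_pos (by omega)).trans w.symm)
    (by omega)).imp ?_ ?_ <;> rintro rfl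
  · rw [w, cf1_one] at p2; exact_mod_cast p2.symm
  · rw [w, cf1_one] at q2; exact_mod_cast q2.symm

end Dt

end Cfsg.Agent.GW2.Ch
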