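import Cfsg.Agent.Lib.GW2.ChC

/-!
# Dihedral Sylow 2-subgroups: the principal block, and stable linear characters in simple groups
-/

set_option autoImplicit false
set_option linter.unusedSectionVars false

namespace Cfsg.Agent.GW2

open Subgroup Cfsg.Agent.OO Cfsg.Agent.Blk Cfsg.Agent.R1 GW ZG
open scoped ComplexConjugate Pointwise commutatorElement

universe u

namespace Ch

variable {G : Type u} [Group G] [Finite G] {X N : Subgroup G} {χ β : G → ℂ}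
  {a s t e g y ρ ρ' : G} {P Q R T A C D : ℤ}

local notation "𝓗" => X ⊓ centralizer (Singleton.singleton t)
local notation "𝓤" => O (X ⊓ centralizer (Singleton.singleton t))

theorem num_of {n N₁ N₂ : ℕ} (hn : Odd n) (h1 : 0 < N₁) (h2 : 0 < N₂) (h4 : 4 ∣ N₁ + N₂)
    (hA : A % 4 = 1) (hC : C % 4 = 1) (hD : D % 4 = 1) (hs : C + D = 1 + A)
    (e1 : (n : ℚ) * (1 / (1 : ℤ) + 1 / A - 4 / ((1 : ℤ) + A)) = 2 * (N₁ + N₂) ^ 2)
    (e2 : (n : ℚ) * (1 / (1 : ℤ) + 1 / A - 1 / C - 1 / D) = 8 * N₁ * N₂) : Num n N₁ N₂ A C D := by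
  have a0 : (A : ℚ) ≠ 0 := by norm_cast; omega
  have a1 : (1 + A : ℚ) ≠ 0 := by norm_cast; omega
  have c0 : (C : ℚ) ≠ 0 := by norm_cast; omega
  have d0 : (D : ℚ) ≠ 0 := by norm_cast; omega
  have hs' : (C + D : ℚ) = 1 + A := by exact_mod_cast hs
  push_cast at e1 e2
  have o1 : n * (A - 1) ^ 2 = 2 * (N₁ + N₂) ^ 2 * A * (A + 1) := by
    have : (n * (A - 1) ^ 2 : ℚ) = 2 * (N₁ + N₂) ^ 2 * A * (A + 1) := by rw [← e1]; field_simp; ring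
    exact_mod_cast this
  have o2 : n * (A + 1) * (C - 1) * (D - 1) = 8 * N₁ * N₂ * A * C * D := by
    have : (n * (A + 1) * (C - 1) * (D - 1) : ℚ) = 8 * N₁ * N₂ * A * C * D := by
      rw [← e2]; field_simp; linear_combination -n * hs'
    exact_mod_cast this
  have o3 : n * (C - D) ^ 2 = 2 * (N₁ - N₂) ^ 2 * C * D * (C + D) := by
    have : (n * (C - D) ^ 2 : ℚ) = 2 * (N₁ - N₂) ^ 2 * C * D * (C + D) := by
      rw [show (2 * (N₁ - N₂) ^ 2 : ℚ) = n * (1 / C + 1 / D - 4 / (1 + A)) by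
        linear_combination e2 - e1]
      rw [← hs'] at a1 ⊢
      field_simp; ring
    exact_mod_cast this
  have p : (8 * N₁ * N₂ * A * C * D : ℤ) ≠ 0 := by
    simp only [ne_eq, mul_eq_zero]; omega
  refine ⟨?_, ?_, hC, hD, ?_, ?_, by omega, o1, o2, o3⟩
  · obtain ⟨M, hM⟩ := h4
    obtain ⟨k, rfl⟩ : ∃ k, A = 4 * k + 1 := ⟨A / 4, by omega⟩
    have : Even (n * k ^ 2 : ℤ) := ⟨2 * M ^ 2 * (4 * k + 1) * (2 * k + 1),
      mul_left_cancel₀ (by decide : (16 : ℤ) ≠ 0) (by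
        rw [show (N₁ + N₂ : ℤ) = 4 * M by exact_mod_cast hM] at o1; linear_combination o1)⟩
    obtain ⟨l, hl⟩ := (Int.even_pow.1 ((Int.even_mul.1 this).resolve_left
      (Int.not_even_iff_odd.2 (Int.odd_coe_nat n |>.2 hn)))).1
    omega
  · rintro rfl
    have : (0 : ℤ) < 2 * (N₁ + N₂) ^ 2 * 1 * (1 + 1) := by positivity
    rw [← o1] at this
    simp at this
  · rintro rfl
    exact p (by rw [← o2]; ring)
  · rintro rfl
    exact p (by rw [← o2]; ring)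

theorem ca_num (hP : P % 4 = 1 ∧ P ≠ 1) (hQ : Q % 4 = 1 ∧ Q ≠ 1) (hR : R % 4 = 1 ∧ R ≠ 1)
    (hT : T % 4 = 1 ∧ T ≠ 1) (hA : A % 8 = 1 ∧ A ≠ 1) (hC : C % 4 = 1 ∧ C ≠ 1)
    (hD : D % 4 = 1 ∧ D ≠ 1) (h1 : R + T = P + Q) (h2 : C + D = A + 1) (h3 : P + Q ≠ -2)
    (e1 : (1 / P + 1 / Q - 4 / (P + Q) : ℚ) = 1 / (1 : ℤ) + 1 / A - 4 / ((1 : ℤ) + A))
    (e2 : (1 / P + 1 / Q - 1 / R - 1 / T : ℚ) = 1 / (1 : ℤ) + 1 / A - 1 / C - 1 / D) : R = -3 := by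
  have k : ∀ y : ℤ, y % 4 = 1 ∧ y ≠ 1 → (y : ℚ)⁻¹ ≤ 1 / 5 ∧ (y < 0 → (y : ℚ)⁻¹ < 0) := fun y hy => by
    rcases (by omega : (5 : ℕ) ≤ y ∨ y ≤ -(3 : ℕ)) with e | e
    · exact ⟨(inv_pos_le 5 (by omega) e).2.2, fun _ => by omega⟩
    · have := (inv_neg_ge 3 (by omega) e).2.1
      exact ⟨by linarith, fun _ => this⟩
  rw [← Int.cast_add, ← Int.cast_add, div_eq_mul_inv 4, div_eq_mul_inv 4] at e1
  simp only [one_div, Int.cast_one, inv_one] at e1 e2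
  have a : A = 9 ∨ 7 / 9 < 1 + (A : ℚ)⁻¹ - 4 * ((1 + A : ℤ) : ℚ)⁻¹ := by
    rcases (by omega : A = 9 ∨ (17 : ℕ) ≤ A ∨ A ≤ -(7 : ℕ)) with e | e | e
    · exact .inl e
    · have := (inv_pos_le 17 (by omega) e).2.1
      have := (inv_pos_le (y := 1 + A) 18 (by omega) (by omega)).2.2
      exact .inr (by push_cast at *; linarith)
    · have := (inv_neg_ge 7 (by omega) e).2.2
      have := (inv_neg_ge (y := 1 + A) 6 (by omega) (by omega)).2.1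
      exact .inr (by push_cast at *; linarith)
  have b : 32 / 45 ≤ (P : ℚ)⁻¹ + (Q : ℚ)⁻¹ - 4 * ((P + Q : ℤ) : ℚ)⁻¹ := by
    rw [e1]
    rcases a with rfl | a
    · norm_num
    · linarith
  obtain ⟨p1, p2⟩ := k P hP
  obtain ⟨q1, q2⟩ := k Q hQ
  have c : P + Q = -6 := by
    rcases (by omega : P + Q = -6 ∨ (2 : ℕ) ≤ P + Q ∨ P + Q ≤ -(10 : ℕ)) with e | e | e
    · exact e
    · linarith [(inv_pos_le 2 (by omega) e).2.1]
    · have := (inv_neg_ge 10 (by omega) e).2.2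
      rcases (by omega : P < 0 ∨ Q < 0) with c | c
      · have := p2 c; push_cast at *; linarith
      · have := q2 c; push_cast at *; linarith
  have d : (P : ℚ)⁻¹ + (Q : ℚ)⁻¹ = 2 / 45 ∧ A = 9 := by
    rw [c] at b e1
    obtain rfl : Q = -6 - P := by omega
    rcases (by omega : P = -3 ∨ P = 5 ∨ P = 9 ∨ P = -11 ∨ P = -15 ∨ 13 ≤ P ∨ P ≤ -19) with
      rfl | rfl | rfl | rfl | rfl | e
    any_goals rcases a with rfl | a <;> first | rw [← e1] at a | skip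
    any_goals (norm_num at *; done)
    all_goals
      have u : ((247 : ℕ) : ℤ) ≤ P * (P + 6) := by rcases e with e | e <;> push_cast <;> nlinarith
      have v := (inv_pos_le 247 (by omega) u).2.2
      have w : (P : ℚ)⁻¹ + ((-6 - P : ℤ) : ℚ)⁻¹ = 6 * ((P * (P + 6) : ℤ) : ℚ)⁻¹ := by
        have : (P : ℚ) ≠ 0 := by norm_cast; omega
        have : (P + 6 : ℚ) ≠ 0 := by norm_cast; omega
        have : (-6 - P : ℚ) ≠ 0 := by norm_cast; omega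
        push_cast; field_simp; ring
      rw [w] at b
      norm_num at b v
      linarith
  obtain ⟨d, rfl⟩ := d
  by_contra hR3
  have := (k C hC).1
  have := (k D hD).1
  rcases (by omega : (5 : ℕ) ≤ R ∧ T ≤ -(11 : ℕ) ∨ (5 : ℕ) ≤ T ∧ R ≤ -(11 : ℕ)) with e | e <;>
    have := (inv_pos_le 5 (by omega) e.1).2.1 <;> have := (inv_neg_ge 11 (by omega) e.2).2.2 <;>
    push_cast at * <;> linarith

section

variable (h : Cf X a s t)
include h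

theorem four_dvd_N : 4 ∣ kI X t s + kI X t (a * s) := by
  have key : ∀ s, Cf X a s t → ∃ o, Odd o ∧ 4 * (o * kI X t s) = ♯𝓗 := fun s h =>
    ⟨_, Nat.odd_iff.2 (Nat.two_dvd_ne_zero.1 h.chPair.syl.not_dvd), by
      rw [← mul_assoc, ← h.chPair.card, card_mul_relIndex h.chPair.le, kI, ← inf_relIndex_left,
        card_mul_relIndex inf_le_left]⟩
  obtain ⟨o, ⟨k, rfl⟩, e1⟩ := key s h
  obtain ⟨o', ⟨l, rfl⟩, e2⟩ := key _ h.swap
  obtain ⟨m, hm⟩ := h.chFour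
  rw [← h.chSd.card, h.chCard, hm] at e1 e2
  refine Nat.Coprime.dvd_of_dvd_mul_right (n := (2 * k + 1) * (2 * l + 1))
    ((Nat.coprime_two_left.2 ((odd_two_mul_add_one k).mul (odd_two_mul_add_one l))).pow_left 2)
    ⟨♯𝓤 * m * (k + l + 1), Nat.eq_of_mul_eq_mul_left four_pos ?_⟩
  zify at e1 e2 ⊢
  linear_combination (2 * l + 1) * e1 + (2 * k + 1) * e2

theorem odd_n : Odd (nI X t) := Nat.odd_iff.2 (Nat.two_dvd_ne_zero.1 fun e => h.syl.not_dvd (by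
  rw [← relIndex_mul_relIndex _ _ _ h.cent.le inf_le_left, inf_relIndex_left]
  exact e.mul_left _))

theorem Sg.mod_four (oc : OC X) (h1 : β 1 = 1) (k : Sg X t β 1 P) : P % 4 = 1 := by
  obtain ⟨χ, ε, hχ, hε, e1, e2⟩ := k
  have p := h.f4
  have c1 : CInv t (S4 t s) := ⟨t_mem_S4 _ _, p.le_cent, h.t2⟩
  have c2 : CInv s (S4 t s) := ⟨s_mem_S4 _ _, p.le_cent', h.s2⟩
  obtain ⟨m, hm⟩ := Cnat_char1 (c2.isChar_add (c1.isChar_add (hχ.isChar.cfRes (h.four_le.trans h.le))))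
  have h2 : ∀ x ∈ X, F4 t x → χ x = χ t := fun x hx q => by
    obtain ⟨g, hg, rfl⟩ := oc t h.t_mem x hx h.t1 h.t2 q.e1 q.e2
    exact cfunJ hχ.mem_CF hg t
  simp only [Pi.smul_apply, Pi.add_apply, tr_apply, mul_one, cfRes1, cfResE χ c1.mem,
    cfResE χ c2.mem, cfResE χ (mul_mem c1.mem c2.mem), smul_eq_mul, h2 s h.s_mem p,
    h2 _ (mul_mem h.t_mem h.s_mem) p.mul] at hm
  have e3 := e2 1 (one_mem _)
  rw [mul_one, h1] at e3
  have : P + 3 = 4 * (ε * m) := by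
    exact_mod_cast (by push_cast at e3; linear_combination 4 * ε * hm - e1 - 3 * e3 :
      (P + 3 : ℂ) = 4 * (ε * m))
  omega

theorem principal (oc : OC X) : ∃ A C D : ℤ, Num (nI X t) (kI X t s) (kI X t (a * s)) A C D ∧
    Sg X t (cf1 𝓤) (-2) (1 + A) ∧
    (nI X t : ℚ) * (1 / (1 : ℤ) + 1 / A - 4 / ((1 : ℤ) + A)) = 2 * (kI X t s + kI X t (a * s)) ^ 2 ∧
    (nI X t : ℚ) * (1 / (1 : ℤ) + 1 / A - 1 / C - 1 / D) = 8 * kI X t s * kI X t (a * s) := by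
  obtain ⟨B, μ, r, d⟩ := exists_dt h oc (isLinChar_cf1 _) (cf1_mem_CF_of_normal h.chSd.normal)
  have m := fun P => Sg.mod_four (P := P) h oc (cf1_one 𝓤)
  obtain ⟨P, Q, R, T, p, q, r, t, s, e0, e1, e2, e3⟩ :=
    d.core fun y hy g _ e => by rw [cf1E hy, cf1E e]
  have n := fun A => num_of (A := A) (odd_n h) (Nat.pos_of_ne_zero index_ne_zero_of_finite)
    (Nat.pos_of_ne_zero index_ne_zero_of_finite) (four_dvd_N h) (C := R) (D := T)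
  rcases e3 rfl with rfl | rfl
  · exact ⟨Q, R, T, n Q (m Q q) (m R r) (m T t) e0 e1 e2, s, e1, e2⟩
  · rw [add_comm P] at e0 s
    rw [add_comm (1 / P : ℚ)] at e1 e2
    rw [add_comm (P : ℚ)] at e1
    exact ⟨P, R, T, n P (m P p) (m R r) (m T t) e0 e1 e2, s, e1, e2⟩

theorem t_der : t ∈ der 𝓗 := by
  obtain ⟨c, hc, -, e, -⟩ := h.exists_c
  have := commutator_mem_commutator (zpowers_le.2 h.cent.a_mem hc) h.cent.s_mem
  rwa [commutatorElement_def, e, mul_inv_cancel_right] at this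

theorem stab_aux (hβ : β ∈ CF 𝓗) (p : F4 t e) (hρ : ρ ∈ X) (r : Rot t e ρ)
    (H : ∀ b ∈ 𝓤 ⊓ 𝐂[e], β (ρ * b * ρ⁻¹) = β b) (hy : y ∈ 𝓤) (hg : g ∈ X) (e1 : g * t * g⁻¹ = e)
    (hv : g * y * g⁻¹ ∈ 𝓤) : β (g * y * g⁻¹) = β y := by
  have h1 : ρ⁻¹ * g ∈ 𝓗 := ⟨mul_mem (X.inv_mem hρ) hg, mem_cent1_iff_conj.2 (by
    rw [mul_cj, e1, r.inv_e])⟩
  have h2 : g * y * g⁻¹ ∈ 𝐂[t * e] := mem_cent1_comm.1 (mul_mem
    (mem_cent1_comm.1 (h.chSd.left_le hv).2)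
    (mem_cent1_comm.1 (e1 ▸ cent1_conj g t ▸ conj_mem_conj (h.chSd.left_le hy).2)))
  rw [← cfunJ hβ h1 y, ← H _ ⟨h.chSd.normal.conj_mem h1 hy, by
    rw [mul_cj, ← r.inv_te, cent1_conj]; exact conj_mem_conj h2⟩]
  congr 1; group

theorem stable (hβ : β ∈ CF 𝓗) (h1 : ρ ∈ X) (r : Rot t s ρ) (h2 : ρ' ∈ X) (r' : Rot t (a * s) ρ')
    (H : ∀ b ∈ 𝓤 ⊓ 𝐂[s], β (ρ * b * ρ⁻¹) = β b) (H' : ∀ b ∈ 𝓤 ⊓ 𝐂[a * s], β (ρ' * b * ρ'⁻¹) = β b)
    (y : G) (hy : y ∈ 𝓤) (g : G) (hg : g ∈ X) (hv : g * y * g⁻¹ ∈ 𝓤) : β (g * y * g⁻¹) = β y := by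
  have key : ∀ y ∈ 𝓤, ∀ g ∈ X, g * t * g⁻¹ ∈ 𝐂[t] → g * y * g⁻¹ ∈ 𝓤 → β (g * y * g⁻¹) = β y :=
    fun y hy g hg c hv => by
      by_cases e : g * t * g⁻¹ = t
      · exact cfunJ hβ ⟨hg, mem_cent1_iff_conj.2 e⟩ y
      obtain ⟨k, hk, e⟩ := h.chRefl ⟨conj_mem_of_mem hg h.t_mem, c⟩ (conj_ne_one.2 h.t1)
        (conj_sq h.t2 g) e
      have h3 := h.chSd.normal.conj_mem hk hv
      rw [← cfunJ hβ hk]
      rw [← mul_cj] at h3 e ⊢
      exact e.elim (fun e => stab_aux h hβ h.f4 h1 r H hy (mul_mem hk.1 hg) e h3)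
        fun e => stab_aux h hβ h.f4' h2 r' H' hy (mul_mem hk.1 hg) e h3
  have c1 : t ∈ X ⊓ 𝐂[g * y * g⁻¹] := ⟨h.t_mem, mem_cent1_comm.1 (h.chSd.left_le hv).2⟩
  have c2 : g * t * g⁻¹ ∈ X ⊓ 𝐂[g * y * g⁻¹] := ⟨conj_mem_of_mem hg h.t_mem,
    cent1_conj g y ▸ conj_mem_conj (mem_cent1_comm.1 (h.chSd.left_le hy).2)⟩
  have c3 := zpowers_le.2 (mul_mem c2 c1)
  by_cases o : Odd (orderOf (g * t * g⁻¹ * t))
  · obtain ⟨j, e⟩ := exists_conj_of_odd (conj_sq h.t2 g) h.t2 (Nat.two_dvd_ne_zero.2 (Nat.odd_iff.1 o))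
    have hc := inv_mem (c3 (pow_mem (mem_zpowers _) j))
    rw [← mem_cent1_iff_conj.1 hc.2, ← mul_cj]
    generalize (g * t * g⁻¹ * t) ^ j = c at e hc
    exact cfunJ hβ ⟨mul_mem hc.1 hg, mem_cent1_iff_conj.2 (by rw [mul_cj, ← e]; group)⟩ y
  obtain ⟨w, hw, w1, w2, d1, d2⟩ := dihedral (conj_sq h.t2 g) h.t2 o
  obtain ⟨k, hk, rfl⟩ := h.oc_of_rot h1 r.ρt h2 r'.ρt t h.t_mem w (c3 hw).1 h.t1 h.t2 w1 w2
  have h3 : k⁻¹ * g * y * (k⁻¹ * g)⁻¹ ∈ 𝓤 := h.chMemO.2 ⟨mem_inf.2 ⟨conj_mem_of_mem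
    (mul_mem (inv_mem hk) hg) (h.chSd.left_le hy).1, by
      rw [← conj_mem_conj_iff (g := k), ← cent1_conj, ← mul_cj, mul_inv_cancel_left]
      exact mem_cent1_comm.1 (c3 hw).2⟩, by rw [orderOf_conj]; exact (h.chMemO.1 hy).2⟩
  rw [← key y hy _ (mul_mem (inv_mem hk) hg) (by
      rw [← conj_mem_conj_iff (g := k), ← cent1_conj, ← mul_cj, mul_inv_cancel_left]
      exact mem_cent1.2 d1) h3,
    ← key _ h3 k hk (mem_cent1.2 d2.symm) (by rwa [← mul_cj, mul_inv_cancel_left]), ← mul_cj,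
    mul_inv_cancel_left]

variable [IsSimpleGroup G] (hX : X = ⊤)
include hX

theorem Sg.ne_one (hβ : IsLinChar 𝓤 β) (h0 : β ≠ cf1 𝓤) (k : Sg X t β 1 P) : P ≠ 1 := by
  obtain ⟨χ, ε, hχ, hε, e1, e2⟩ := k
  rintro rfl
  have e3 := e2 1 (one_mem _)
  rw [mul_one, hβ.one] at e3
  have h1 : χ t = ε := by
    rcases hε with rfl | rfl <;> push_cast at e3 ⊢
    exacts [by linear_combination e3, by linear_combination -e3]
  have h2 : ⁅X, X⁆ = X := by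
    subst hX
    exact ((normalIn_top.1 (der_normal ⊤)).eq_bot_or_eq_top).resolve_left fun e =>
      h.t1 (mem_bot.1 (e ▸ commutator_mono le_top le_top (t_der h)))
  obtain rfl := eq_cf1_of_perfect (t := t) h2 hχ (by rcases hε with rfl | rfl <;> simp [h1])
    (by rw [h1, e1, Int.cast_one])
  refine h0 (cfun_ext hβ.mem_CF (cf1_mem_CF _) fun y hy => ?_)
  have := e2 y hy
  rw [cf1E (hX.ge (mem_top _)), ← h1, cf1E h.t_mem] at this
  rw [cf1E hy]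
  simpa using this.symm

theorem Sg.ne_two (h1 : β 1 = 1) (k : Sg X t β (-2) P) : P ≠ -2 := by
  obtain ⟨χ, ε, hχ, hε, e1, e2⟩ := k
  rintro rfl
  have e3 := e2 1 (one_mem _)
  rw [mul_one, h1, mul_one, ← e1, mul_right_inj' (by rcases hε with rfl | rfl <;> simp)] at e3
  refine h.t1 (mem_bot.1 (V4.cfker_eq_bot hX hχ ?_ ▸ (cfkerEchar hχ.isChar).2 ⟨h.t_mem, e3⟩))
  rintro rfl
  rw [cf1_one] at e1
  rcases hε with rfl | rfl <;> norm_cast at e1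

theorem Sg.three (hβ : IsLinChar 𝓤 β) (hβ' : β ∈ CF 𝓗) (k : Sg X t β 1 (-3)) : 𝓤 = ⊥ := by
  obtain ⟨χ, ε, hχ, hε, e1, e2⟩ := k
  obtain rfl : ε = -1 := hε.resolve_left fun e => by
    obtain ⟨n, -, hn⟩ := hχ.exists_one
    rw [e, hn] at e1
    norm_cast at e1
  replace e1 : χ 1 = 3 := by push_cast at e1; linear_combination -e1
  replace e2 : ∀ y ∈ 𝓤, χ (t * y) = -β y := fun y hy => by
    have := e2 y hy; push_cast at this; linear_combination -this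
  have e3 := e2 1 (one_mem _)
  rw [mul_one, hβ.one] at e3
  have c := cinv h
  have hU := h.chSd.left_le
  have h1 := c.isChar_sub (hχ.isChar.cfRes inf_le_left)
  obtain ⟨m, hm⟩ := Cnat_cfdot_char ((c.isChar_add (hχ.isChar.cfRes inf_le_left)).cfRes hU) hβ.isChar
  obtain ⟨ξ, hξ, h2, h3⟩ := exists_common_constt (ψ := cfInd 𝓗 𝓤 β) h1.mem_CF (by
    rw [cfdot_cfInd_right hU h1.mem_CF hβ.mem_CF.1, cfdot_congr (φ' := cfRes 𝓤 ((2⁻¹ : ℂ) •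
      (cfRes 𝓗 χ + tr t (cfRes 𝓗 χ))) + β) (fun y hy => ?_) fun _ _ => rfl, cfdotDl, hm,
      cfdot_irr_self hβ.isIrr]
    · exact Nat.cast_add_one_ne_zero m
    simp only [Pi.smul_apply, Pi.add_apply, Pi.sub_apply, tr_apply, cfResE _ hy, smul_eq_mul,
      cfResE _ (mul_mem c.mem (hU hy)), e2 y hy]
    ring)
  rw [cfdot_Ind_irr hU hβ.isChar hξ.isChar] at h3
  have h4 : tr t ξ = -ξ := (c.sign hξ).resolve_left fun e => h2 (by
    rw [cfdotZl, cfdotBl, c.cfdot_tr, e, sub_self, mul_zero])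
  obtain ⟨n, n0, -, h5, h6⟩ := exists_cfRes_eq_smul h.chSd.normal hξ hβ.isIrr h3 (inertia_id hβ')
  rw [hβ.one, mul_one] at h6
  have h7 : ((2⁻¹ : ℂ) • (cfRes 𝓗 χ - tr t (cfRes 𝓗 χ))) 1 = 2 := by
    simp only [Pi.smul_apply, Pi.sub_apply, tr_apply, mul_one, cfRes1, cfResE _ c.mem, e1, e3]
    norm_num
  obtain rfl : n = 2 := by
    have h8 := char1_ge_constt h1 hξ h2
    rw [h6, h7] at h8
    have h9 : n ≤ 2 := by simpa using h8
    refine le_antisymm h9 (not_lt.1 fun h10 => ?_)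
    rw [show n = 1 by omega, Nat.cast_one] at h6
    have := congrFun h4 1
    rw [tr_apply, mul_one, cfker1 (lin_char_der1 (hξ.isLinChar h6) (t_der h)), Pi.neg_apply, h6] at this
    norm_num at this
  rw [← eq_of_constt_of_one_eq h1 hξ h2 (by rw [h6, h7, Nat.cast_ofNat])] at h5
  have h8 := hχ.isChar.mul hχ.isChar.star
  have h9 : 𝓤 ≤ cfker X (χ * star χ) := fun y hy => (cfkerEchar h8).2 ⟨(hU hy).1, by
    have := congrFun h5 y
    simp only [Pi.smul_apply, Pi.sub_apply, tr_apply, cfResE _ hy, smul_eq_mul, cfResE _ (hU hy),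
      cfResE _ (mul_mem c.mem (hU hy)), e2 y hy, Nat.cast_ofNat] at this
    rw [Pi.mul_apply, Pi.mul_apply, cfConjCE, cfConjCE, e1,
      show χ y = 3 * β y by linear_combination 2 * this, map_mul]
    linear_combination 3 * conj 3 * lin_char_mul_conj hβ hy⟩
  subst hX
  rcases (normalIn_top.1 (cfker_normal h8.mem_CF)).eq_bot_or_eq_top with e | e
  · exact le_bot_iff.1 (e ▸ h9)
  have := cfker1 (e.ge (mem_top t))
  rw [Pi.mul_apply, Pi.mul_apply, cfConjCE, cfConjCE, e1, e3, Complex.conj_ofNat] at this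
  norm_num at this

theorem ca_aux (r : Rot t s ρ) (r' : Rot t (a * s) ρ') (hN : N ⊴ 𝓤) (h1 : ⁅𝓤, zpowers s⁆ ≤ N)
    (h2 : ⁅𝓤, zpowers (a * s)⁆ ≤ N) (h3 : ∀ b ∈ 𝓤 ⊓ 𝐂[s], ⁅b, ρ⁆ ∈ N)
    (h4 : ∀ b ∈ 𝓤 ⊓ 𝐂[a * s], ⁅b, ρ'⁆ ∈ N) : N = 𝓤 := by
  by_contra hne
  obtain ⟨β, hβ, h5, h0⟩ := exists_lin hN (sol_of_odd (odd_O _)) hne
  have i : ∀ x ∈ 𝓗, ⁅𝓤, zpowers x⁆ ≤ N → x ∈ inertia 𝓗 β := fun x hx e =>
    (mem_inertia_lin hβ hx (h.chSd.normal.norm hx)).2 fun y hy =>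
      h5 (e (Subgroup.commutator_comm_le _ _ (commutator_mem_commutator (mem_zpowers x) hy)))
  have hβ' : β ∈ CF 𝓗 := mem_CF_of_inertia (suppOn_mono h.chSd.left_le hβ.mem_CF.1)
    (inertia_eq_of_le (h.chSd.sup_eq.ge.trans (sup_le (sub_inertia h.chSd.left_le hβ.mem_CF)
      (S4_le.2 ⟨(mul_mem_cancel_right (i s h.cent.s_mem h1)).1 (i _ h.cent.as_mem h2),
        i s h.cent.s_mem h1⟩))))
  have m := fun g => hX.ge (mem_top g)
  have oc := h.oc_of_rot (m ρ) r.ρt (m ρ') r'.ρt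
  have j : ∀ b ρ : G, ⁅b, ρ⁆ ∈ N → β (ρ * b * ρ⁻¹) = β b := fun b ρ e => by
    rw [← cfkerMl (h5 e), commutatorElement_def]; congr 1; group
  obtain ⟨B, μ, r₀, d⟩ := exists_dt h oc hβ hβ'
  obtain ⟨P, Q, R, T, p, q, r₁, t₁, s₁, e0, e1, e2, -⟩ := d.core (stable h hβ' (m ρ) r (m ρ') r'
    (fun b hb => j b ρ (h3 b hb)) fun b hb => j b ρ' (h4 b hb))
  obtain ⟨A, C, D, n, -, f1, f2⟩ := principal h oc
  have k : ∀ P, Sg X t β 1 P → P % 4 = 1 ∧ P ≠ 1 := fun P e =>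
    ⟨e.mod_four h oc hβ.one, e.ne_one h hX hβ h0⟩
  have n0 : (nI X t : ℚ) ≠ 0 := Nat.cast_ne_zero.2 index_ne_zero_of_finite
  obtain rfl := ca_num (k P p) (k Q q) (k R r₁) (k T t₁) ⟨n.A8, n.A1⟩ ⟨n.C4, n.C1⟩ ⟨n.D4, n.D1⟩ e0
    n.sum (s₁.ne_two h hX hβ.one) (mul_left_cancel₀ n0 (e1.trans f1.symm))
    (mul_left_cancel₀ n0 (e2.trans f2.symm))
  have := r₁.three h hX hβ hβ'
  exact hne ((le_bot_iff.1 (this ▸ hN.1)).trans this.symm)

end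

end Ch

theorem co : CO.{u} := fun _ _ _ _ _ _ _ h oc => by
  obtain ⟨A, C, D, n, ⟨χ, ε, h1, h2, h3, h4⟩, -⟩ := Ch.principal h oc
  exact ⟨A, C, D, n, χ, ε, h1, h2, by rw [h3]; push_cast; ring, fun y hy => by
    rw [h4 y hy, cf1E hy]; simp⟩

theorem ca : CA.{u} := fun _ _ _ _ _ t _ _ _ _ h r r' => by
  rw [← top_inf_eq 𝐂[t]]
  exact Ch.ca_aux h rfl r r'

end Cfsg.Agent.GW2
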