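import Cfsg.Agent.Lib.GW2.G0

/-!
# Groups between `L₂(q)` and `PΓL₂(q)`: elementary local properties
-/

set_option autoImplicit false
set_option linter.unusedSectionVars false

namespace Cfsg.Agent.GW2.Cq

open Subgroup Cfsg.Agent.OO Cfsg.Agent.Coprime GW
open scoped commutatorElement Pointwise

universe u

variable {G : Type u} [Group G] [Finite G] {X Y J P Q R L N M K T : Subgroup G}
  {a c e f g s t u v w x y z ρ : G} {p : ℕ}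

theorem oc_of_perfect (hD : DH G) (hp : der L = L) : OC L := fun a ha b hb a1 a2 b1 b2 => by
  have h1 : der (⊤ : Subgroup L) = ⊤ :=
    map_subtype_eq_self_iff.1 (by rw [map_der, map_subtype_top, hp])
  obtain ⟨g, e⟩ := isConj_iff.1 ((hD.subgroup L).alm.oneCl (ZG.index_ne_two_of_perfect h1) ⟨a, ha⟩
    ⟨b, hb⟩ (fun e => a1 (congrArg Subtype.val e)) (Subtype.ext a2)
    (fun e => b1 (congrArg Subtype.val e)) (Subtype.ext b2))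
  exact ⟨g, g.2, congrArg Subtype.val e⟩

theorem not_odd_of_perfect (hp : der L = L) (h0 : L ≠ ⊥) : ¬ Odd ♯L := fun e =>
  (der_lt (sol_of_odd e) h0).ne hp

theorem exists_invol_cent (hT : IsPGroup 2 T) (hK : K ⊴ T) (h0 : K ≠ ⊥) :
    ∃ z ∈ K, z ≠ 1 ∧ z * z = 1 ∧ z ∈ 𝐂(T) := by
  obtain ⟨z, hz, z1⟩ := exists_mem_ne_one (inf_cent_ne_bot_of_nil (nil_of_isPGroup hT) hK h0)
  obtain ⟨y, hy, y1, y2⟩ := ZG.exists_invol (ZG.not_odd hT (hK.le hz.1) z1)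
  exact ⟨y, (zpowers_le.2 hz hy).1, y1, y2, (zpowers_le.2 hz hy).2⟩

theorem ex_of_perfect (hD : DH G) (hp : der L = L) (ht : t ∈ L) (t1 : t ≠ 1) (t2 : t * t = 1) :
    ∃ e ∈ L, F4 t e := by
  obtain ⟨T, hT, h1⟩ := exists_syl_ge (zpowers_le.2 ht) (ZG.two_elt t2)
  obtain ⟨z, hz, z1, z2, zc⟩ := exists_invol_cent hT.isPGroup (.refl T) fun e =>
    t1 (mem_bot.1 (e ▸ h1 (mem_zpowers t)))
  by_contra! h
  obtain rfl : z = t := by_contra fun e =>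
    h z (hT.le hz) (f4_of_mem t1 t2 z1 z2 (cent_le_cent1 (h1 (mem_zpowers t)) zc) e)
  have key : ∀ x ∈ T, x ≠ 1 → x * x = 1 → x = z := fun x hx x1 x2 => by_contra fun e =>
    h x (hT.le hx) (f4_of_mem t1 t2 x1 x2 (mem_cent1_comm.1 (cent_le_cent1 hx zc)) e)
  obtain ⟨a, ha, H, -⟩ := hD T hT.isPGroup
  obtain ⟨b, rfl⟩ : ∃ b, T = zpowers b := by
    by_cases a1 : a = 1
    · refine ⟨z, le_antisymm (fun x hx => by_contra fun e => ?_) h1⟩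
      have x1 : x ≠ 1 := fun e' => e (e' ▸ one_mem _)
      exact e (key x hx x1 (H x hx (by simpa [a1] using x1)) ▸ mem_zpowers x)
    · refine ⟨a, le_antisymm (fun x hx => by_contra fun e => ?_) (zpowers_le.2 ha)⟩
      obtain ⟨y, hy, y1, y2⟩ := ZG.exists_invol (ZG.not_odd hT.isPGroup ha a1)
      exact e (by rwa [key x hx (fun e' => e (e' ▸ one_mem _)) (H x hx e),
        ← key y (zpowers_le.2 ha hy) y1 y2])
  exact not_mem_of_odd (odd_O L) t1 t2 (((ZG.pnil_of_cyc hT).sdprod hT).der_le_of_ab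
    (ab_of_isCyclic inferInstance) (hp.ge ht))

theorem ex_of_norm (hD : DH G) (hp : der L = L) (h0 : L ≠ ⊥) (hu : u ∈ 𝐍(L)) (u1 : u ≠ 1)
    (u2 : u * u = 1) : ∃ v ∈ L, F4 u v := by
  by_cases h : u ∈ L
  · exact ex_of_perfect hD hp h u1 u2
  obtain ⟨T, hT, h1⟩ := exists_syl_ge (le_sup_right : zpowers u ≤ L ⊔ zpowers u) (ZG.two_elt u2)
  have hL : L ⊴ L ⊔ zpowers u := ⟨le_sup_left, sup_le (le_norm_self _) (zpowers_le.2 hu)⟩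
  obtain ⟨z, hz, z1, z2, zc⟩ := exists_invol_cent hT.isPGroup (K := T ⊓ L) ⟨inf_le_left,
    le_norm_inf (le_norm_self _) (hT.le.trans hL.norm)⟩ ((hT.inf_normal hL).ne_bot
      (even_iff_two_dvd.1 (Nat.not_odd_iff_even.1 (not_odd_of_perfect hp h0))))
  exact ⟨z, hz.2, f4_of_mem u1 u2 z1 z2 (cent_le_cent1 (h1 (mem_zpowers u)) zc) fun e => h (e ▸ hz.2)⟩

theorem f4_quo (p : F4 u v) (hu : u ∈ 𝐍(K)) (hv : v ∈ 𝐍(K)) (ho : Odd ♯K) :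
    F4 (coset K u) (coset K v) := (p.pair.quo (S4_le.2 ⟨hu, hv⟩) ho).f4

theorem card_four (hD : DH G) (p : F4 t e) (ht : t ∈ L) (he : e ∈ L) :
    4 * ♯(O (L ⊓ 𝐂[t])) ≤ ♯(L ⊓ 𝐂[t] : Subgroup G) :=
  Nat.le_of_dvd Nat.card_pos (p.card ▸ (p.coprime (odd_O _)).symm.mul_dvd_of_dvd_of_dvd
    (card_dvd (le_inf (S4_le.2 ⟨ht, he⟩) p.le_cent)) (card_dvd (Opi_le _ _)))

section

variable (h : PG N L)
include h

theorem ne_bot (hu : u ∈ N) (u1 : u ≠ 1) : L ≠ ⊥ := fun e =>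
  u1 (mem_bot.1 (h.cent ▸ (⟨hu, by rw [e, cent_bot]; trivial⟩ : u ∈ N ⊓ 𝐂(L))))

theorem exists_f4 (hD : DH G) (hu : u ∈ N) (u1 : u ≠ 1) (u2 : u * u = 1) : ∃ v ∈ L, F4 u v :=
  ex_of_norm hD h.good.perfect (ne_bot h hu u1) (h.normal.norm hu) u1 u2

theorem eq_one (p : F4 u v) (hu : u ∈ N) (hv : v ∈ N) (hx : x ∈ L ⊓ 𝐂[u] ⊓ 𝐂[v])
    (ho : Odd (orderOf x)) : x = 1 := by_contra fun x1 =>
  p.ne (h.ui x hx.1.1 ho x1 u ⟨hu, mem_cent1_comm.1 hx.1.2⟩ v ⟨hv, mem_cent1_comm.1 hx.2⟩ p.t1 p.t2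
    p.e1 p.e2)

theorem inf_eq_bot (p : F4 u v) (hu : u ∈ N) (hv : v ∈ N) (hQ : Q ≤ L ⊓ 𝐂[u]) (ho : Odd ♯Q) :
    Q ⊓ 𝐂[v] = ⊥ :=
  eq_bot_iff.2 fun _ hx => eq_one h p hu hv ⟨hQ hx.1, hx.2⟩ (odd_of_mem ho hx.1)

theorem cent_le (hD : DH G) (p : F4 u v) (hu : u ∈ N) (hv : v ∈ N) : L ⊓ 𝐂[u] ⊓ 𝐂[v] ≤ S4 u v := by
  obtain ⟨T, hT⟩ := exists_syl 2 (L ⊓ 𝐂[u] ⊓ 𝐂[v])
  refine ((hD.pnil p.t1 p.t2 (inf_le_left.trans inf_le_right)).sdprod hT).sup_eq.ge.trans (sup_le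
    (fun x hx => ?_) (hD.le_four p hT.isPGroup (hT.le.trans (inf_le_inf_right _ inf_le_right))))
  exact eq_one h p hu hv (Opi_le _ _ hx) (odd_of_mem (odd_O _) hx) ▸ one_mem _

theorem cyc (hu : u ∈ N) (u1 : u ≠ 1) (u2 : u * u = 1) : IsCyclic (O (L ⊓ 𝐂[u])) := by
  by_cases e : u ∈ L
  exacts [h.good.cyc u e u1 u2 _ (Opi_le _ _) (odd_O _), (h.out u hu u2 e).1]

theorem KK_eq (hD : DH G) (hu : u ∈ N) (u1 : u ≠ 1) (u2 : u * u = 1) : KK L u = O (L ⊓ 𝐂[u]) := by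
  obtain ⟨v, hv, p⟩ := exists_f4 h hD hu u1 u2
  exact le_antisymm (KK_le L u) ((commutator_eq_of_inf_eq_bot p.e2 (O_norm (L ⊓ 𝐂[u]) ⟨hv, p.e_mem⟩)
    (odd_O _) (inf_eq_bot h p hu (h.normal.le hv) (Opi_le _ _) (odd_O _))).ge.trans
      (commutator_mono le_rfl (zpowers_le.2 ⟨hv, p.e_mem⟩)))

theorem comm_le (hv : v ∈ N) (v2 : v * v = 1) : ⁅N, zpowers v⁆ ≤ L := by
  by_cases e : v ∈ L
  · exact (commutator_mono le_rfl (zpowers_le.2 e)).trans (commutator_le_right' h.normal.norm)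
  refine commutator_le.2 fun g hg y hy => ?_
  rcases (mem_zp v2).1 hy with rfl | rfl
  · simp
  · rw [commutatorElement_def, inv_eq v2]
    exact h.com _ (N.mul_mem (N.mul_mem hg hv) (N.inv_mem hg)) y hv (conj_sq v2 g) v2
      (fun e' => e ((mem_norm_iff.1 (h.normal.norm hg) y).2 e')) e

theorem comm_O (hD : DH G) (hv : v ∈ N) (p : F4 u v) :
    ⁅O (N ⊓ 𝐂[u]), zpowers v⁆ ≤ O (L ⊓ 𝐂[u]) := by
  have h1 : ⁅O (N ⊓ 𝐂[u]), zpowers v⁆ ≤ O (N ⊓ 𝐂[u]) :=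
    commutator_le_left' (zpowers_le.2 (O_norm _ ⟨hv, p.e_mem⟩))
  exact hD.le_O p.t1 p.t2 inf_le_right (le_inf ((commutator_mono ((Opi_le _ _).trans inf_le_left)
    le_rfl).trans (comm_le h hv p.e2)) (h1.trans ((Opi_le _ _).trans inf_le_right)))
    (odd_of_le (odd_O _) h1)

theorem mem_cent (ha : a ∈ N) (h1 : a ≠ 1) (h2 : a * a = 1) (hx : x ∈ L ⊓ 𝐂[a])
    (ho : Odd (orderOf x)) (hx1 : x ≠ 1) (hg : g ∈ N) (hc : g⁻¹ * x * g ∈ 𝐂[a]) : g ∈ 𝐂[a] :=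
  mem_cent1_iff_conj.2 (h.ui x hx.1 ho hx1 _ ⟨N.mul_mem (N.mul_mem hg ha) (N.inv_mem hg),
    mem_cent1_comm.1 (by rwa [cent1_conj, mem_conj])⟩ a ⟨ha, mem_cent1_comm.1 hx.2⟩
    (conj_ne_one.2 h1) (conj_sq h2 g) h1 h2)

theorem norm_le (ha : a ∈ N) (h1 : a ≠ 1) (h2 : a * a = 1) (hQ : Q ≤ L ⊓ 𝐂[a])
    (ho : Odd ♯Q) (h0 : Q ≠ ⊥) : N ⊓ 𝐍(Q) ≤ 𝐂[a] := fun g hg' => by
  obtain ⟨x, hx, hx1⟩ := exists_mem_ne_one h0
  exact mem_cent h ha h1 h2 (hQ hx) (odd_of_mem ho hx) hx1 hg'.1 (hQ (conj_mem_of_norm' hg'.2 hx)).2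

/-- a subgroup of odd order that is normalized by a four-group -/
theorem exists_le_cent (p : F4 t u) (ht : t ∈ N) (hu : u ∈ N) (hQ : Q ≤ L) (ho : Odd ♯Q)
    (hS : S4 t u ≤ 𝐍(Q)) : ∃ v ∈ S4 t u, v ≠ 1 ∧ Q ≤ 𝐂[v] := by
  by_cases h0 : Q = ⊥
  · exact ⟨t, t_mem_S4 _ _, p.t1, h0.le.trans bot_le⟩
  have h1 := Zc_ne_bot (Fit_nil Q) (Fit_ne_bot (sol_of_odd ho) h0)
  have h2 : Zc (Fit Q) ≤ Q := (Zc_le _).trans (Fit_le Q)
  have h3 := (norm_le_norm_Fit Q).trans (norm_le_norm_Zc _)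
  have hV := S4_le.2 ⟨ht, hu⟩
  by_contra! h4
  refine h1 (eq_bot_iff.2 (coprime_abelian_gen_cent1 p.ab (p.pair.isEp.not_isCyclic le_rfl)
    (hS.trans h3) (p.coprime (odd_of_le ho h2)) fun a ha a1 x hx => by_contra fun x1 => h4 a ha a1 ?_))
  refine (le_inf (hQ.trans h.normal.le) ((le_norm_self Q).trans h3)).trans (norm_le h (hV ha) a1
    (p.sq ha) (fun y hy => ⟨hQ (h2 hy), mem_cent h (hV ha) a1 (p.sq ha) ⟨hQ (h2 hx.1), hx.2⟩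
      (odd_of_mem ho (h2 hx.1)) x1 (h.normal.le (hQ (h2 hy))) ?_⟩) (odd_of_le ho h2) h1)
  rw [mul_assoc, ← (mem_Zc.1 hx.1).2 y hy.1, inv_mul_cancel_left]
  exact hx.2

theorem coprime (hD : DH G) (ht : t ∈ L) (hu : u ∈ N) (uL : u ∉ L) (q : F4 t u) :
    (♯(O (L ⊓ 𝐂[t]))).Coprime ♯(O (L ⊓ 𝐂[u])) := by
  refine Nat.coprime_of_dvd fun p hp h1 h2 => ?_
  have := Fact.mk hp
  obtain ⟨P, hP⟩ := exists_syl p (L ⊓ 𝐂[t])
  obtain ⟨x, hx, hxp⟩ := cauchy hp h2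
  have ho := odd_of_isPGroup (fun e => (odd_O _).not_two_dvd_nat (e ▸ h1)) hP.isPGroup
  have h3 : Syl p P L := IsSylowIn.of_syl_norm (hP.le.trans inf_le_left) (hP.mono (le_inf
    (hP.le.trans inf_le_left) (le_norm_self P)) (le_inf inf_le_left ((inf_le_inf_right _
      h.normal.le).trans (norm_le h (h.normal.le ht) q.t1 q.t2 hP.le ho
        (hP.ne_bot (h1.trans (card_dvd (Opi_le _ _))))))))
  have hx' := Opi_le _ _ hx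
  obtain ⟨g, hg, e⟩ := h3.exists_conj_le (zpowers_le.2 hx'.1) (Core.isPGroup_zpowers_of_orderOf (k := 1)
    (by rw [hxp, pow_one]))
  have h4 := hP.le (e (conj_mem_conj (mem_zpowers x)))
  have h5 := h.ui _ h4.1 (by rw [orderOf_conj]; exact odd_of_mem (odd_O _) hx) (conj_ne_one.2 fun e' =>
    hp.one_lt.ne (by rw [← hxp, e', orderOf_one])) t ⟨h.normal.le ht, mem_cent1_comm.1 h4.2⟩
    (g * u * g⁻¹) ⟨N.mul_mem (N.mul_mem (h.normal.le hg) hu) (N.inv_mem (h.normal.le hg)),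
      cent1_conj g x ▸ conj_mem_conj (mem_cent1_comm.1 hx'.2)⟩ q.t1 q.t2 (conj_ne_one.2 q.e1)
      (conj_sq q.e2 g)
  exact uL ((mem_norm_iff.1 (le_norm_self L hg) u).2 (h5 ▸ ht))

theorem card_cent (hD : DH G) (p : F4 t e) (ht : t ∈ L) (he : e ∈ L) :
    ♯(L ⊓ 𝐂[t] : Subgroup G) ≤ 4 * kI L t e := by
  rw [← card_inf_mul_relIndex 𝐂[e] (L ⊓ 𝐂[t]), inf_comm]
  exact Nat.mul_le_mul_right _ (p.card ▸ card_le (cent_le h hD p (h.normal.le ht) (h.normal.le he)))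

theorem mem_of_in (hD : DH G) (ht : In N t) : t ∈ L := by_contra fun tL => by
  obtain ⟨c, hc, e⟩ | ⟨e, he, ρ, hρ, p, r⟩ := ht.or
  · obtain ⟨v, hv, p⟩ := exists_f4 h hD ht.mem ht.t1 ht.t2
    obtain ⟨a, k⟩ := hD.cf_of_sq p (h.normal.le hv) hc e
    exact tL (k.mem_of_norm (k.le.trans h.normal.norm) h.normal.le
      (not_odd_of_perfect h.good.perfect (ne_bot h ht.mem ht.t1)))
  · have h1 := mem_norm_iff.1 (h.normal.norm hρ)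
    exact tL (r.ρte p ▸ (h1 _).1 (h.com t ht.mem e he p.t2 p.e2 tL fun e' => tL ((h1 t).2 (r.ρt ▸ e'))))

end

end Cfsg.Agent.GW2.Cq
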