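import Cfsg.Agent.Lib.GW2.CpA

/-!
# Groups between `L₂(q)` and `PΓL₂(q)`: no field automorphisms in `F(C(t))`
-/

set_option autoImplicit false
set_option linter.unusedSectionVars false

namespace Cfsg.Agent.GW2.Cq

open Subgroup Cfsg.Agent.OO Cfsg.Agent.Coprime GW
open scoped commutatorElement Pointwise

universe u

variable {G : Type u} [Group G] [Finite G] {X Y J P Q R L N M K T : Subgroup G}
  {a b c e f g s t u v w x y z ρ : G} {p : ℕ} (h : PG N L)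
include h

theorem exists_rot (hD : DH G) (p : F4 t s) (ht : t ∈ L) (hs : s ∈ L) (hw : w ∈ N ⊓ 𝐂[t])
    (hw' : s ∈ 𝐂[w]) (ho : Odd (orderOf w)) : ∃ ρ ∈ L ⊓ 𝐂[w], Rot t s ρ := by
  obtain ⟨ρ, hρ, r⟩ := hD.exists_rot (oc_of_perfect hD h.good.perfect) p ht hs
  have hc : zpowers w ≤ 𝐂(S4 t s) := cent_S4 t s ▸ zpowers_le.2 ⟨hw.2, mem_cent1_comm.1 hw'⟩
  obtain ⟨y, hy, hy'⟩ := coprime_cent_lift (le_norm_of_le_cent hc) (p.coprime (by
    rwa [Nat.card_zpowers])).symm (.inl (sol_of_ab p.ab)) r.mem_norm fun a ha =>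
      cent_le h hD p (h.normal.le ht) (h.normal.le hs) (by
        rw [inf_assoc, ← cent_S4]; exact ⟨commutator_le_left' ((zpowers_le.2 hw.1).trans
          h.normal.norm) (commutator_mem_commutator hρ ha), commutator_le_right'
            (norm_le_norm_cent _) (commutator_mem_commutator r.mem_norm (hc ha))⟩)
  rw [cent_zpowers] at hy'
  exact ⟨_, ⟨mul_mem (S4_le.2 ⟨ht, hs⟩ hy) hρ, hy'⟩, r.mul_left ⟨p.le_cent hy, p.le_cent' hy⟩⟩

/-- the rotations of a Sylow 2-subgroup centralize `O(C_N(t))` -/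
theorem rot_cent (hD : DH G) (k : Cf N a e t) : a ∈ 𝐂(O (N ⊓ 𝐂[t])) := by
  have hn : N ⊓ 𝐂[t] ≤ 𝐍(O (L ⊓ 𝐂[t])) := (le_norm_inf (inf_le_left.trans h.normal.norm)
    (le_norm_of_le inf_le_right)).trans (norm_le_norm_Opi _ _)
  have inv : ∀ v ∈ N, F4 t v → ∀ x ∈ O (L ⊓ 𝐂[t]), v * x * v⁻¹ = x⁻¹ := fun v hv q x hx =>
    conj_eq_inv q.e2 (hn ⟨hv, q.e_mem⟩) (inf_eq_bot h q k.t_mem hv (Opi_le _ _) (odd_O _)) hx
  refine zpowers_le.1 (stable_factor_cent (K := O (L ⊓ 𝐂[t])) (zpowers_le.2 (mem_cent_iff_conj.2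
    fun x hx => ?_)) ⟨hD.O_mono k.t1 k.t2 inf_le_right (inf_le_inf_right _ h.normal.le),
      (Opi_le _ _).trans hn⟩ ?_ (coprime_of_isPGroup (ZG.two_zp k.two (t_mem_S4 _ _))
        (Op'_piGrp 2 _)).symm)
  · have := inv _ k.as_mem k.f4' _ (inv_mem hx)
    rwa [mul_cj, inv e k.s_mem k.f4 _ (inv_mem hx), inv_inv] at this
  · refine (commutator_mono le_rfl (zpowers_le.2 ((mul_mem_cancel_right (s_mem_S4 (a * e) e)).1
      (t_mem_S4 _ _)))).trans ?_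
    rw [commutator_comm]
    exact commutator_sup_le ((S4_le.2 ⟨k.cent.as_mem, k.cent.s_mem⟩).trans hn)
      ((commutator_comm _ _).le.trans (comm_O h hD k.as_mem k.f4'))
      ((commutator_comm _ _).le.trans (comm_O h hD k.s_mem k.f4))

theorem exists_syl_cent (hD : DH G) (q : F4 t e) (ht : t ∈ N) (he : e ∈ N) (hw : w ∈ O (N ⊓ 𝐂[t]))
    (hc : w ∈ 𝐂[e]) : ∃ T, Syl 2 T (N ⊓ 𝐂[t]) ∧ T ≤ 𝐂[w] := by
  obtain k | ⟨a, k⟩ := hD.pair_or_cf q ht he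
  · exact ⟨_, k.syl, S4_le.2 ⟨mem_cent1_comm.1 (Opi_le _ _ hw).2, mem_cent1_comm.1 hc⟩⟩
  · exact ⟨_, k.cent.syl, S4_le.2 ⟨cent_le_cent1 hw (rot_cent h hD k), mem_cent1_comm.1 hc⟩⟩

theorem frame (hD : DH G) (q : F4 t e) (ht : t ∈ L) (he : e ∈ N) (hw : w ∈ O (N ⊓ 𝐂[t]))
    (hc : w ∈ 𝐂[e]) : ∃ s ∈ 𝐂[w], Pair L t s ∨ ∃ b ∈ 𝐂[w], Cf L b s t := by
  obtain ⟨T, hT, hTw⟩ := exists_syl_cent h hD q (h.normal.le ht) he hw hc
  obtain ⟨v, hv, q'⟩ := ex_of_perfect hD h.good.perfect ht q.t1 q.t2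
  have hS : Syl 2 (T ⊓ (L ⊓ 𝐂[t])) (L ⊓ 𝐂[t]) := hT.inf_normal ⟨inf_le_inf_right _ h.normal.le,
    le_norm_inf (inf_le_left.trans h.normal.norm) (le_norm_of_le inf_le_right)⟩
  obtain ⟨g, hg, e'⟩ := hS.exists_conj_le (le_inf (S4_le.2 ⟨ht, hv⟩) q'.le_cent) q'.two
  rw [conj_S4, mem_cent1_iff_conj.1 hg.2, S4_le] at e'
  have q'' := q'.conj_cent hg.2
  refine ⟨_, hTw e'.2.1, ?_⟩
  obtain e'' | ⟨b, k, e''⟩ := hD.dih hS.isPGroup (hS.le.trans inf_le_right) e'.1 e'.2 q''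
  · rw [e''] at hS
    exact .inl (hD.pair_of_conj (ZG.pair_of_syl q''.pair hS) fun z hz z1 => oc_of_perfect hD
      h.good.perfect t ht z (hS.le hz).1 q.t1 q.t2 z1 (q''.sq hz))
  · rw [e''] at hS
    exact .inr ⟨b, hTw k.a_mem.1, Cf.of_cent { k with
      a_mem := k.a_mem.2, s_mem := k.s_mem.2, syl := hS } le_rfl (hS.le.trans inf_le_left)⟩

theorem eq_one_of_cf [hp : Fact p.Prime] (hD : DH G) (co : CO.{u}) (k : Cf L b s t) (h2 : p ≠ 2)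
    (hw : w ∈ Op p (N ⊓ 𝐂[t])) (hb : b ∈ 𝐂[w]) (hs : s ∈ 𝐂[w]) (h1 : w ^ p = 1) : w = 1 := by
  by_contra h0
  have tN := h.normal.le k.t_mem
  have hwo := orderOf_eq_prime h1 h0
  have ho : Odd (orderOf w) := hwo ▸ hp.out.odd_of_ne_two h2
  have hw' := Op_le _ _ hw
  have hS : S4 b s ≤ L ⊓ 𝐂[w] := le_inf k.le (S4_le.2 ⟨hb, hs⟩)
  obtain ⟨ρ, hρ, r⟩ := exists_rot h hD k.f4 k.t_mem k.s_mem hw' hs ho
  obtain ⟨ρ', hρ', r'⟩ := exists_rot h hD k.f4' k.t_mem k.as_mem hw' (mul_mem hb hs) ho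
  have o := (k.mono hS inf_le_left).oc_of_rot hρ r.ρt hρ' r'.ρt
  refine h0 (mem_bot.1 (h.cent ▸ (⟨hw'.1, le_cent1_iff.1 ((k.o1 co inf_le_left ?_ o).trans
    inf_le_right)⟩ : w ∈ N ⊓ 𝐂(L))))
  obtain ⟨P, hP⟩ : ∃ P, P = Op p (N ⊓ 𝐂[t]) ⊓ L := ⟨_, rfl⟩
  have hPo : Odd ♯(Op p (N ⊓ 𝐂[t])) := odd_of_isPGroup h2 (Op_isPGroup _ _)
  have hR : P ⊔ zpowers w ≤ Op p (N ⊓ 𝐂[t]) := sup_le (hP ▸ inf_le_left) (zpowers_le.2 hw)
  have hLt : L ⊓ 𝐂[t] ≤ N ⊓ 𝐂[t] := inf_le_inf_right _ h.normal.le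
  have hn : L ⊓ 𝐂[t] ≤ 𝐍(Ohm p (P ⊔ zpowers w)) := le_norm_Ohm p (commutator_le_left_iff.1
    (le_sup_of_le_left ((le_inf ((commutator_mono hR hLt).trans (Op_normal _ _).commutator_le)
      ((commutator_mono (hR.trans ((Op_le _ _).trans inf_le_left)) inf_le_left).trans
        (commutator_le_right' h.normal.norm))).trans hP.ge)))
  have hab : Ab (Ohm p (P ⊔ zpowers w)) := by
    by_cases e : IsCyclic ↥(P ⊔ zpowers w)
    · exact ab_of_le (ab_of_isCyclic e) (Ohm_le _ _)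
    obtain ⟨x, hx⟩ := exists_zpowers_eq (h.good.cyc t k.t_mem k.t1 k.t2 P (hP ▸ le_inf
      inf_le_right (inf_le_left.trans ((Op_le _ _).trans inf_le_right))) (odd_of_le hPo (hP ▸ inf_le_left)))
    refine (Ohm1_extremal_odd ((Op_isPGroup _ _).to_le hR) (odd_of_le hPo hR) e
      (mem_sup_left (hx ▸ mem_zpowers x)) ?_).ab
    rw [hx, relIndex_sup_eq' (.inr (hP ▸ zpowers_le.2 (mem_norm_inf (le_norm_self _ hw)
      (h.normal.norm hw'.1)))), ← hwo, ← Nat.card_zpowers, ← card_inf_mul_relIndex P, inf_comm,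
      inf_eq_bot_of_prime (by rw [Nat.card_zpowers, hwo]; exact hp.out) fun e => h0 (eq_one h k.f4 tN
        (h.normal.le k.s_mem) ⟨⟨(hP.le (e (mem_zpowers w))).2, hw'.2⟩, mem_cent1_comm.1 hs⟩ ho),
      card_bot, one_mul]
  have hwΩ := mem_Ohm (mem_sup_right (mem_zpowers w) : w ∈ P ⊔ zpowers w) h1
  have hΩ := (Ohm_le p _).trans hR
  have hQ : Ohm p (P ⊔ zpowers w) ⊓ L ≤ L ⊓ 𝐂[w] ⊓ 𝐂[t] := le_inf (le_inf inf_le_right
    (inf_le_left.trans (hab.le_cent.trans (cent_le_cent1 hwΩ))))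
    (inf_le_left.trans (hΩ.trans ((Op_le _ _).trans inf_le_right)))
  have hQo := odd_of_le hPo (inf_le_left.trans hΩ : _ ⊓ L ≤ _)
  have key : ∀ g ∈ L ⊓ 𝐂[t], g * w * g⁻¹ * w⁻¹ ∈ Ohm p (P ⊔ zpowers w) ⊓ L := fun g hg =>
    ⟨Subgroup.mul_mem _ (conj_mem_of_norm (hn hg) hwΩ) (inv_mem hwΩ), commutator_le_left'
      ((zpowers_le.2 hw'.1).trans h.normal.norm) (commutator_mem_commutator hg.1 (mem_zpowers w))⟩
  have h4 : ∀ v ∈ L, F4 t v → (L ⊓ 𝐂[w]).relIndex (L ⊓ 𝐂[t]) ≤ kI (L ⊓ 𝐂[w]) t v := fun v hv q => by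
    refine le_trans ?_ (card_le_kI hQ (inf_eq_bot h q tN (h.normal.le hv)
      (hQ.trans (inf_le_inf_right _ inf_le_left)) hQo))
    rw [← inf_relIndex_right, inf_comm L, inf_assoc, ← inf_assoc L, inf_idem, inf_relIndex_right,
      ← ncard_conj]
    refine Set.ncard_le_ncard_of_injOn (· * w⁻¹) ?_ (mul_left_injective _).injOn
    rintro _ ⟨g, hg, rfl⟩
    exact key g hg
  refine k.count co inf_le_left hS o ((cent_le h hD k.f4 tN (h.normal.le k.s_mem)).trans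
    (k.four_le.trans hS)) ((cent_le h hD k.f4' tN (h.normal.le k.as_mem)).trans (k.four_le'.trans hS))
    (fun g hg hgJ x hx e => ?_) (h4 _ k.s_mem k.f4) (h4 _ k.as_mem k.f4')
  have h5 := mul_mem (mul_mem hx (hS (k.four_le (t_mem_S4 _ _)))) (inv_mem hx)
  refine h.good.ui _ (key g hg).2 (odd_of_mem hQo (key g hg)) (fun e => hgJ ⟨hg.1,
    mem_cent1_iff_conj.2 (mul_inv_eq_one.1 e)⟩) _ ⟨h5.1, mem_cent1_comm.1 (mul_mem ?_
      (inv_mem (mem_cent1_comm.1 h5.2)))⟩ t ⟨k.t_mem, mem_cent1_comm.1 (hQ (key g hg)).2⟩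
      (conj_ne_one.2 k.t1) (conj_sq k.t2 x) k.t1 k.t2
  rw [mem_cent1_comm, cent1_conj, mem_conj]
  exact e.2

theorem psl [hp : Fact p.Prime] (hD : DH G) (co : CO.{u}) (ht : t ∈ L) (he : e ∈ N) (q : F4 t e)
    (h2 : p ≠ 2) : Op p (N ⊓ 𝐂[t]) ⊓ 𝐂[e] = ⊥ := by
  by_contra h0
  obtain ⟨w, hw, hwp⟩ := cauchy hp.out (dvd_card_of_isPGroup ((Op_isPGroup p _).to_le inf_le_left) h0)
  have h1 : w ^ p = 1 := hwp ▸ pow_orderOf_eq_one w
  have hw' := Op_le _ _ hw.1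
  have ho : Odd (orderOf w) := hwp ▸ hp.out.odd_of_ne_two h2
  refine hp.out.one_lt.ne' (hwp ▸ orderOf_eq_one_iff.2 ?_)
  obtain ⟨s, hs, k | ⟨b, hb, k⟩⟩ := frame h hD q ht he ((hD.mem_O q.t1 q.t2 inf_le_right).2 ⟨hw', ho⟩)
    hw.2
  swap
  · exact eq_one_of_cf h hD co k h2 hw.1 hb hs h1
  obtain ⟨ρ, hρ, r⟩ := hD.exists_rot (oc_of_perfect hD h.good.perfect) k.f4 ht k.s_mem
  have h3 : L ⊔ zpowers w ≤ N := sup_le h.normal.le (zpowers_le.2 hw'.1)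
  refine Red.eq_one_of_mem_Op (X := L ⊔ zpowers w) charO ⟨fun e => k.not_dvd ?_,
    h.normal.mono le_sup_left h3, h.good, r.v4 k hρ, eq_bot_iff.2 (h.cent ▸ inf_le_inf_right _ h3)⟩ h2
    (Op_inf_le p (inf_le_inf_right _ h3) ⟨hw.1, mem_sup_right (mem_zpowers w), hw'.2⟩)
    (mem_cent1_comm.1 hs) h1
  have := e.trans (card_sup_dvd (.inr (zpowers_le.2 (h.normal.norm hw'.1))))
  rw [Nat.card_zpowers] at this
  exact ((Nat.coprime_two_left.2 ho).pow_left 3).dvd_of_dvd_mul_right this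

theorem cp_of_pg (hD : DH G) (co : CO.{u}) (h0 : O N = ⊥) : Cp N L where
  normal := h.normal
  cent := by rw [h0, cent_bot]; exact le_top
  perfect := h.good.perfect
  oc := oc_of_perfect hD h.good.perfect
  ex _ := ex_of_perfect hD h.good.perfect
  rot _ ht _ he q := hD.exists_rot (oc_of_perfect hD h.good.perfect) q ht he
  com u hu v hv u2 v2 uL vL := mem_sup_left (h.com u hu v hv u2 v2 uL vL)
  cyc _ hu u1 u2 := KK_eq h hD hu u1 u2 ▸ cyc h hu u1 u2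
  inv _ hu _ hv q := inf_eq_bot h q hu hv (KK_le' _ _) (odd_KK _ _)
  sup _ hu u1 u2 := le_sup_of_le_left (KK_eq h hD hu u1 u2).ge
  comm _ hu _ hv q := le_sup_of_le_left (KK_eq h hD hu q.t1 q.t2 ▸ comm_O h hD hv q)
  comm' _ hu _ hv q := KK_eq h hD hu q.t1 q.t2 ▸ comm_O h hD (h.normal.le hv) q
  copZ _ _ _ _ := by simp [h0]
  cop t ht u hu uL q := by
    obtain ⟨e, he, q'⟩ := ex_of_perfect hD h.good.perfect ht q.t1 q.t2
    obtain ⟨-, k1, k2⟩ := h.out u hu q.e2 uL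
    have := (card_four hD q' ht he).trans (k2 t ht q.t1 q.t2)
    rw [KK_eq h hD hu q.e1 q.e2, KK_eq h hD (h.normal.le ht) q.t1 q.t2]
    exact ⟨coprime h hD ht hu uL q, k1, by omega⟩
  oddV _ ht _ hu q _ hQ ho hS := (exists_le_cent h q ht hu hQ ho hS).imp fun _ k =>
    ⟨k.1, k.2.1, (comm_eq_bot.2 k.2.2).le.trans bot_le⟩
  psl _ ht _ he q _ hp h2 := (psl (hp := ⟨hp⟩) h hD co ht he q h2).le.trans bot_le
  memO _ ht _ he q _ hx ho := eq_one h q (h.normal.le ht) (h.normal.le he) hx ho ▸ one_mem _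
  yb t ht e he q p hp h2 _ v hv hvp := (h.yb t ht e he q v hv p hp h2 hvp).trans
    (Nat.mul_le_mul_left _ (by have := card_cent h hD q ht he; omega))

end Cfsg.Agent.GW2.Cq
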