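import Cfsg.Agent.Lib.GW2.Hyp
import Cfsg.Agent.Lib.R4.Fin45
import Cfsg.Agent.Lib.SEA.Walter
import Cfsg.Agent.Lib.JR.Main
import Cfsg.Agent.Lib.WF.Asm
import Cfsg.Agent.Lib.Core.Ord1092

/-!
# `π`-homogeneous groups with dihedral or abelian Sylow 2-subgroups
-/

set_option autoImplicit false

namespace Cfsg.Agent.GW2

open Subgroup Cfsg.Agent.OO Cfsg.Agent.Coprime Cfsg.Agent.R1 GW Polynomial
open scoped Pointwise MatrixGroups

universe u

namespace Fi

section DH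

variable {G G' : Type u} [Group G] [Group G']

theorem dh_inj (h : DH G') (f : G →* G') (hf : Function.Injective f) : DH G := fun P hP => by
  obtain ⟨_, ⟨a, ha, rfl⟩, h1, h2⟩ := h _ (hP.map f)
  have e : ∀ x, f x ∈ zpowers (f a) ↔ x ∈ zpowers a := fun x => by
    rw [← MonoidHom.map_zpowers, mem_map_iff_mem hf]
  exact ⟨a, ha, fun x hx n => hf (by
    rw [map_mul, map_one]; exact h1 _ (mem_map_of_mem f hx) (mt (e x).1 n)), fun x hx y hy n m =>
    (e _).1 (map_mul f x y ▸ h2 _ (mem_map_of_mem f hx) _ (mem_map_of_mem f hy) (mt (e x).1 n)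
      (mt (e y).1 m))⟩

theorem dh_surj [Finite G] (h : DH G) (f : G →* G') (hf : Function.Surjective f) : DH G' :=
  fun P hP => by
  have := Fact.mk Nat.prime_two
  obtain ⟨Q, hQ⟩ := exists_syl 2 (P.comap f)
  have e : Q.map f = P := by
    have := Finite.of_surjective f hf
    have h1 := hQ.map f
    rw [map_comap_eq_self_of_surjective hf] at h1
    exact (h1.eq_of_le h1.le le_rfl hP).symm
  obtain ⟨a, ha, h1, h2⟩ := h Q hQ.isPGroup
  have k : ∀ x, x ∈ zpowers a → f x ∈ zpowers (f a) := fun x hx =>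
    MonoidHom.map_zpowers f a ▸ mem_map_of_mem f hx
  subst e
  refine ⟨f a, mem_map_of_mem f ha, ?_, ?_⟩
  · rintro _ ⟨x, hx, rfl⟩ n
    rw [← map_mul, h1 x hx (mt (k x) n), map_one]
  · rintro _ ⟨x, hx, rfl⟩ _ ⟨y, hy, rfl⟩ n m
    exact map_mul f x y ▸ k _ (h2 x hx y hy (mt (k x) n) (mt (k y) m))

open DihedralGroup in
theorem dh_of (h : ∀ S : Sylow 2 G, ∃ n : ℕ, Nonempty ((S : Subgroup G) ≃* DihedralGroup n)) :
    DH G := fun P hP => by
  obtain ⟨S, hS⟩ := hP.exists_le_sylow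
  obtain ⟨n, ⟨e⟩⟩ := h S
  let f : P →* DihedralGroup n := e.toMonoidHom.comp (inclusion hS)
  have hf : Function.Injective f := e.injective.comp (inclusion_injective hS)
  have hr : ∀ i : ZMod n, r i ∈ zpowers (r 1 : DihedralGroup n) := fun i =>
    ⟨ZMod.cast i, by simp⟩
  have : IsCyclic ((zpowers (r 1 : DihedralGroup n)).comap f) :=
    isCyclic_of_injective (f.subgroupComap _) fun x y e' =>
      Subtype.ext (hf (congrArg Subtype.val e'))
  obtain ⟨a, ha⟩ := (Subgroup.isCyclic_iff_exists_zpowers_eq_top _).1 this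
  have k : ∀ x : P, (x : G) ∈ zpowers (a : G) ↔ f x ∈ zpowers (r 1) := fun x => by
    rw [← mem_comap, ← ha, ← mem_map_iff_mem P.subtype_injective, MonoidHom.map_zpowers]
    rfl
  have k2 : ∀ x : P, (x : G) ∉ zpowers (a : G) → ∃ i, f x = sr i := fun x hx => by
    rcases e' : f x with i | i
    · exact (hx ((k x).2 (e' ▸ hr i))).elim
    · exact ⟨i, rfl⟩
  refine ⟨a, a.2, fun x hx n => ?_, fun x hx y hy n m => ?_⟩
  · obtain ⟨i, hi⟩ := k2 ⟨x, hx⟩ n
    exact congrArg Subtype.val (hf (a₁ := ⟨x, hx⟩ * ⟨x, hx⟩) (a₂ := 1) (by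
      rw [map_mul, hi, sr_mul_self, map_one]))
  · obtain ⟨i, hi⟩ := k2 ⟨x, hx⟩ n
    obtain ⟨j, hj⟩ := k2 ⟨y, hy⟩ m
    exact (k (⟨x, hx⟩ * ⟨y, hy⟩)).2 (by rw [map_mul, hi, hj, sr_mul_sr]; exact hr _)

end DH

section SL

variable {F : Type} [Field F]

/-- semisimple elements of `SL₂(q)` are real -/
theorem sl_real [Fintype F] {y : SL(2, F)} (ht : y.1.trace ^ 2 ≠ 4) :
    ∃ g : SL(2, F), g * y * g⁻¹ = y⁻¹ := by
  obtain ⟨a, b, c, d, hy⟩ : ∃ a b c d, y.1 = !![a, b; c, d] := ⟨_, _, _, _, Matrix.eta_fin_two _⟩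
  have hd := y.2
  rw [hy, Matrix.det_fin_two_of] at hd
  rw [hy, Matrix.trace_fin_two_of] at ht
  obtain ⟨u, v, w, h1, h2⟩ : ∃ u v w : F, -u ^ 2 - v * w = 1 ∧ u * a + v * c + w * b - u * d = 0 := by
    by_cases hb : b = 0
    · have : a - d ≠ 0 := fun e => ht (by rw [hb] at hd; linear_combination (a - d) * e + 4 * hd)
      exact ⟨-c / (a - d), 1, -1 - (-c / (a - d)) ^ 2, by ring, by rw [hb]; field_simp; ring⟩
    by_cases h2 : (2 : F) = 0
    · exact ⟨1, 0, (d - a) / b, by linear_combination -h2, by field_simp; ring⟩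
    have hc : ringChar F ≠ 2 := fun e => h2 (by
      have := (ringChar.spec F 2).2 (e ▸ dvd_rfl)
      exact_mod_cast this)
    obtain ⟨x, v, e⟩ := FiniteField.exists_root_sum_quadratic (f := X ^ 2 + C (4 * b ^ 2))
      (g := C (4 - (a + d) ^ 2) * X ^ 2) (degree_X_pow_add_C two_pos _)
      (degree_C_mul_X_pow 2 (sub_ne_zero.2 ht.symm)) (FiniteField.odd_card_of_char_ne_two hc)
    simp only [eval_add, eval_pow, eval_X, eval_C, eval_mul] at e
    refine ⟨(x + (a - d) * v) / (2 * b), v, -((x + (a - d) * v) / (2 * b) * (a - d) + v * c) / b,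
      ?_, by field_simp; ring⟩
    field_simp
    linear_combination -e - 4 * v ^ 2 * hd
  obtain ⟨g, hg⟩ : ∃ g : SL(2, F), g.1 = !![u, v; w, -u] :=
    ⟨⟨_, by rw [Matrix.det_fin_two_of]; linear_combination h1⟩, rfl⟩
  refine ⟨g, ?_⟩
  rw [mul_inv_eq_iff_eq_mul, eq_inv_mul_iff_mul_eq]
  refine Subtype.ext ?_
  show y.1 * (g.1 * y.1) = g.1
  rw [hg, hy, Matrix.mul_fin_two, Matrix.mul_fin_two]
  ext i j
  fin_cases i <;> fin_cases j <;> simp
  · linear_combination a * h2 + u * hd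
  · linear_combination b * h2 + v * hd
  · linear_combination c * h2 + w * hd
  · linear_combination d * h2 - u * hd

/-- the upper unitriangular matrices -/
def up (F : Type) [Field F] : Subgroup SL(2, F) where
  carrier := {y | ∃ b, y.1 = !![1, b; 0, 1]}
  mul_mem' := by
    rintro x y ⟨a, ha⟩ ⟨b, hb⟩
    exact ⟨b + a, by simp [ha, hb]⟩
  one_mem' := ⟨0, Matrix.one_fin_two⟩
  inv_mem' := by
    rintro x ⟨a, ha⟩
    exact ⟨-a, by simp [Matrix.SpecialLinearGroup.coe_inv, ha]⟩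

theorem up_pow {y : SL(2, F)} {b : F} (h : y.1 = !![1, b; 0, 1]) (n : ℕ) :
    (y ^ n).1 = !![1, n * b; 0, 1] := by
  induction n with
  | zero => simpa using Matrix.one_fin_two
  | succ n ih => rw [pow_succ, Matrix.SpecialLinearGroup.coe_mul, ih, h]; simp [add_mul, add_comm]

theorem diag_pow {y : SL(2, F)} {a b : F} (h : y.1 = !![a, 0; 0, b]) (n : ℕ) :
    (y ^ n).1 = !![a ^ n, 0; 0, b ^ n] := by
  induction n with
  | zero => simpa using Matrix.one_fin_two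
  | succ n ih => rw [pow_succ, Matrix.SpecialLinearGroup.coe_mul, ih, h]; simp [pow_succ]

end SL

variable {G : Type u} [Group G] [Finite G] {π : Set ℕ}

theorem real (h2 : 2 ∉ π) (h : PiCentralizes πᶜ G) {x g : G} (hx : (orderOf x).Prime)
    (e : g * x * g⁻¹ = x⁻¹) : orderOf x ∉ π := fun hp => by
  obtain ⟨k, m, hm, e1⟩ := Nat.exists_eq_two_pow_mul_odd (orderOf_pos g).ne'
  have h1 : g ^ m ∈ 𝐂(zpowers x) := h (zpowers x) (by
    rw [compl_compl, Nat.card_zpowers]; exact (isPiNum_prime hx).2 hp) _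
    (pow_mem (mem_norm_of_conj_le (by rw [conj_zpowers, e, zpowers_inv])) m)
    ((((isPiNum_prime Nat.prime_two).2 h2).pow k).of_dvd (orderOf_dvd_of_pow_eq_one (by
      rw [← pow_mul, mul_comm, ← e1, pow_orderOf_eq_one])))
  rw [cent_zpowers] at h1
  have h3 : g ^ 2 ∈ 𝐂[x] := mem_cent1_iff_conj.2 (by
    rw [sq, show g * g * x * (g * g)⁻¹ = g * (g * x * g⁻¹) * g⁻¹ by group, e, ← conj_inv, e, inv_inv])
  obtain ⟨j, rfl⟩ := hm
  rw [pow_succ, pow_mul, mul_mem_cancel_left (pow_mem h3 j), mem_cent1_iff_conj, e] at h1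
  refine h2 ((Nat.prime_dvd_prime_iff_eq hx Nat.prime_two).1 (orderOf_dvd_of_pow_eq_one ?_) ▸ hp)
  rw [sq, mul_eq_one_iff_eq_inv, h1]

theorem none (hs : IsSimpleGroup G) (hn : ¬ IsMulCommutative G) (h : PiCentralizes πᶜ G)
    (h2 : ∀ r : ℕ, r.Prime → r * r ∣ Nat.card G → r ∉ π) (r : ℕ) (hr : r.Prime)
    (hd : r ∣ Nat.card G) : r ∉ π := by
  induction r using Nat.strong_induction_on with
  | _ r ih =>
  intro hπ
  have := Fact.mk hr
  obtain ⟨P⟩ : Nonempty (Sylow r G) := inferInstance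
  have h1 : ♯(P : Subgroup G) = r := by
    obtain ⟨k, hk⟩ := P.2.exists_card_eq
    have e1 := P.dvd_card_of_dvd_card hd
    have e2 := card_subgroup_dvd_card (P : Subgroup G)
    erw [hk] at e1 e2 ⊢
    rcases k with _ | _ | k
    · exact (hr.one_lt.ne' (Nat.dvd_one.1 e1)).elim
    · simp
    · exact (h2 r hr (Dvd.dvd.trans ⟨r ^ k, by ring⟩ e2) hπ).elim
  have hc : IsCyclic (P : Subgroup G) := isCyclic_of_prime_card h1
  have h0 : (P : Subgroup G) ≠ ⊥ := fun e => hr.one_lt.ne (by rw [← h1, e, card_bot])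
  by_cases e : (𝐂((P : Subgroup G))).relIndex 𝐍((P : Subgroup G)) = 1
  · have h3 := MonoidHom.ker_transferSylow_isComplement' P (relIndex_eq_one.1 e)
    rcases hs.eq_bot_or_eq_top_of_normal _ (MonoidHom.normal_ker
      (MonoidHom.transferSylow P (relIndex_eq_one.1 e))) with e1 | e1 <;> rw [e1] at h3
    · rw [isComplement'_bot_left.1 h3] at hc
      exact hn (isCyclic_of_surjective _ topEquiv.surjective).isMulCommutative
    · exact h0 (isComplement'_top_left.1 h3)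
  obtain ⟨s, hs, h3⟩ := Nat.exists_prime_and_dvd e
  have h4 := h3.trans (Ord1092.relIndex_cent_dvd hc)
  rw [h1, Nat.totient_prime hr] at h4
  have := hr.two_le
  exact ih s (by have := Nat.le_of_dvd (by omega) h4; omega) hs
    (h3.trans ((relIndex_dvd_card _ _).trans (card_subgroup_dvd_card _)))
    (not_not.1 (piCentralizes_iff.1 h P h0 (fun q hq e e' => e'
      ((Nat.prime_dvd_prime_iff_eq hq hr).1 (h1 ▸ e) ▸ hπ)) s hs h3))

theorem psl (h2 : 2 ∉ π) (h : PiCentralizes πᶜ G) {F : Type} [Field F] [Fintype F]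
    (h4 : 4 ≤ Fintype.card F) (e : G ≃* PSL(2, F)) (r : ℕ) (hr : r.Prime) (hd : r ∣ Nat.card G) :
    r ∉ π := by
  obtain ⟨p, hp⟩ := CharP.exists F
  obtain ⟨n, pp, hq⟩ := FiniteField.card F p
  let f : SL(2, F) →* G := e.symm.toMonoidHom.comp (QuotientGroup.mk' _)
  have hf : Function.Surjective f := e.symm.surjective.comp (QuotientGroup.mk'_surjective _)
  have hk : ∀ y, f y = 1 → y ∈ center SL(2, F) := fun y hy =>
    (QuotientGroup.eq_one_iff y).1 (e.symm.map_eq_one_iff.1 hy)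
  have k : ∀ r : ℕ, r.Prime → r ∣ Nat.card G → r ≠ p → r ∉ π := fun r hr hd rp => by
    have := Fact.mk hr
    obtain ⟨x, rfl⟩ := exists_prime_orderOf_dvd_card' r hd
    obtain ⟨y, rfl⟩ := hf x
    by_cases ht : y.1.trace ^ 2 = 4
    · rcases (Nat.Prime.dvd_mul hr).1 (orderOf_dvd_of_pow_eq_one (show f y ^ (2 * p) = 1 by
        rw [← map_pow, Lin.SL2.pow_eq_one_of_trace p ht, map_one])) with e | e
      · rwa [(Nat.prime_dvd_prime_iff_eq hr Nat.prime_two).1 e]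
      · exact (rp ((Nat.prime_dvd_prime_iff_eq hr pp).1 e)).elim
    obtain ⟨g, hg⟩ := sl_real ht
    exact real h2 h hr (g := f g) (by rw [← map_inv, ← map_mul, ← map_mul, hg, map_inv])
  by_cases rp : r ≠ p
  · exact k r hr hd rp
  obtain rfl := not_not.1 rp
  intro hπ
  obtain ⟨a, a0, a1⟩ : ∃ a : F, a ≠ 0 ∧ a * a ≠ 1 := by
    classical
    by_contra! e
    have h1 : (Finset.univ : Finset F) ⊆ {0, 1, -1} := fun a _ => by
      simpa using or_iff_not_imp_left.2 fun h0 => mul_self_eq_one_iff.1 (e a h0)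
    have := (Finset.card_le_card h1).trans Finset.card_le_three
    rw [Finset.card_univ] at this
    omega
  obtain ⟨d, hd⟩ : ∃ d : SL(2, F), d.1 = !![a, 0; 0, a⁻¹] :=
    ⟨⟨_, by rw [Matrix.det_fin_two_of]; field_simp; ring⟩, rfl⟩
  obtain ⟨x, hx⟩ : ∃ x : SL(2, F), x.1 = !![1, 1; 0, 1] := ⟨⟨_, by simp⟩, rfl⟩
  have hc : ∀ (y : SL(2, F)) b, y.1 = !![1, b; 0, 1] → (d * y * d⁻¹).1 = !![1, a * a * b; 0, 1] :=
    fun y b hy => by
      simp [Matrix.SpecialLinearGroup.coe_inv, hd, hy, a0]; ring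
  have h1 : PiGrp π (up F) := piGrp_iff_forall.2 fun y ⟨b, hy⟩ =>
    ((isPiNum_prime hr).2 hπ).of_dvd (orderOf_dvd_of_pow_eq_one (Subtype.ext (by
      rw [up_pow hy, CharP.cast_eq_zero, zero_mul]; exact Matrix.one_fin_two.symm)))
  have h3 : d ∈ 𝐍(up F) := mem_norm_of_conj_le (by
    rintro _ ⟨y, ⟨b, hy⟩, rfl⟩
    exact ⟨_, hc y b hy⟩)
  have h5 : f d ^ (Fintype.card F - 1) = 1 := by
    rw [← map_pow, ← map_one f]
    refine congrArg f (Subtype.ext ?_)
    rw [diag_pow hd, inv_pow, FiniteField.pow_card_sub_one_eq_one a a0, inv_one]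
    exact Matrix.one_fin_two.symm
  have h6 := mem_cent_iff_conj.1 (h ((up F).map f) (h1.map f).compl_compl (f d)
    (map_norm_le f _ ⟨d, h3, rfl⟩) fun s hs e => k s hs (e.trans (orderOf_dvd_natCard _)) (by
      rintro rfl
      have h7 := e.trans (orderOf_dvd_of_pow_eq_one h5)
      rw [Nat.dvd_sub_iff_right (by omega) (hq ▸ dvd_pow_self s n.ne_zero)] at h7
      exact hs.one_lt.ne' (Nat.dvd_one.1 h7))) (f x) ⟨x, ⟨1, hx⟩, rfl⟩
  obtain ⟨z, h7⟩ := Lin.SL2.mem_center_iff_scalar.1 (hk (d * x * d⁻¹ * x⁻¹) (by simp [h6]))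
  have h8 := congrFun (congrFun h7 0) 1
  rw [Matrix.SpecialLinearGroup.coe_mul, hc x 1 hx] at h8
  simp [Matrix.SpecialLinearGroup.coe_inv, hx] at h8
  exact a1 (by linear_combination -h8)

theorem a7 (h2 : 2 ∉ π) (h : PiCentralizes πᶜ G) (hA : A7T (⊤ : Subgroup G)) : 3 ∉ π := by
  classical
  have := Fact.mk Nat.prime_three
  obtain ⟨a, -, a1, a2⟩ := SE.exists_inv (H := (⊤ : Subgroup G)) (by rw [hA.card]; norm_num)
  obtain ⟨h24, v, -, w, -, f4, -, o3, hw, hn, -⟩ := hA.loc a trivial a1 a2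
  rw [top_inf_eq] at h24 hn
  have hV : S4 a v ≤ 𝐂[a] := S4_le.2 ⟨mem_cent1_self a, mem_cent1.2 f4.comm.symm⟩
  have h4 : ♯(S4 a v) = 4 := ((isEp_zpowers (mem_top a) (orderOf_eq_two a2 a1)).sup_two
    (isEp_zpowers (mem_top v) (orderOf_eq_two f4.e2 f4.e1))
    (by rw [cent_zpowers, zpowers_le]; exact mem_cent1.2 f4.comm.symm) fun e =>
      ((mem_zp f4.e2).1 (e ▸ mem_zpowers a)).elim a1 f4.ne).card
  have hwa : zpowers w ≤ 𝐂[a] := zpowers_le.2 (cent_S4 a v ▸ hw :).1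
  have hc : ♯(zpowers w) = 3 := by rw [Nat.card_zpowers, o3]
  obtain ⟨n, e1, e2⟩ := Ord1092.exists_count
    (JR.Ind.syl_of_card (p := 3) 1 hwa hc (by rw [h24]; norm_num))
  obtain ⟨k, e3⟩ := card_dvd (le_inf (le_norm_of_le_cent (le_cent_comm.1 (zpowers_le.2 hw))) hV)
  obtain ⟨l, e4⟩ := card_dvd (le_inf (le_norm_self (zpowers w)) hwa)
  rw [h4] at e3
  rw [hc] at e4
  rw [h24] at e2
  have e5 : 𝐂[a] ≤ 𝐍(zpowers w) := inf_eq_right.1 (eq_of_le_of_card_le inf_le_right (by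
    have : ♯(𝐍(zpowers w) ⊓ 𝐂[a] : Subgroup G) ≤ 24 := Nat.le_of_dvd (by norm_num) ⟨n, by omega⟩
    have e6 : ♯(𝐍(zpowers w) ⊓ 𝐂[a] : Subgroup G) = 12 ∨ ♯(𝐍(zpowers w) ⊓ 𝐂[a] : Subgroup G) = 24 := by
      have := card_pos' (𝐍(zpowers w) ⊓ 𝐂[a] : Subgroup G)
      omega
    rcases e6 with e6 | e6 <;> rw [e6] at e2 <;> omega))
  obtain ⟨g, hg, gw⟩ := SetLike.not_le_iff_exists.1 hn
  refine o3 ▸ real h2 h (o3 ▸ Nat.prime_three) (g := g) ?_
  obtain ⟨i, hi, e⟩ := (mem_zpowers_iff_mem_range_orderOf.1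
    (conj_mem_of_norm (e5 hg) (mem_zpowers w)) |> Finset.mem_image.1)
  rw [o3, Finset.mem_range] at hi
  interval_cases i
  · exact (conj_ne_one.2 (fun e' : w = 1 => by simp [e'] at o3) ((pow_zero w).symm.trans e).symm).elim
  · exact (gw (mem_cent1_iff_conj.2 (by simpa using e.symm))).elim
  · rw [← e, eq_inv_iff_mul_eq_one, ← pow_succ]; exact orderOf_dvd_iff_pow_eq_one.1 o3.dvd

end Fi

open Fi in
theorem fin (gwd : GWD.{u}) (w1 : W1.{u}) (re : REAL.{u}) {G : Type u} [Group G] [Finite G]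
    (π : Set ℕ) (hodd : ∀ p ∈ π, p.Prime ∧ p ≠ 2) (h2 : ∀ S : Sylow 2 G,
      IsMulCommutative S ∨ ∃ n : ℕ, Nonempty ((S : Subgroup G) ≃* DihedralGroup n))
    (hhom : (∀ H : Subgroup G, H ≠ ⊥ → (∀ p : ℕ, p.Prime → p ∣ Nat.card ↥H → p ∈ π) →
        ∀ p : ℕ, p.Prime → p ∣ (Subgroup.centralizer (H : Set G)).relIndex
          (Subgroup.normalizer (H : Set G)) → p ∈ π)) :
    (∃ K : Subgroup G, ∀ x : G, x ∈ K ↔ ∀ p : ℕ, p.Prime → p ∣ orderOf x → p ∉ π) := by
  have t2 : 2 ∉ π := fun e => (hodd 2 e).2 rfl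
  have := Fact.mk Nat.prime_two
  refine R4.closed_of_simple (π := πᶜ) (fun G _ _ => Ab2 G ∨ DH G)
    (fun G _ _ N _ h => h.imp (SE.ab2_sub · N) (dh_inj · _ N.subtype_injective))
    (fun G _ _ N _ _ h => h.imp (SE.ab2_of_surjective · (QuotientGroup.mk'_surjective N))
      (dh_surj · _ (QuotientGroup.mk'_surjective N))) (fun G _ _ hs hn hQ h => .inl ?_)
    (or_iff_not_imp_left.2 fun e => dh_of fun S => (h2 S).resolve_left (mt (WF.ab2_of_sylow S) e))
    (piCentralizes_iff.2 fun U h0 hU p hp hd =>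
      not_not.2 (hhom U h0 (fun q hq hq' => not_not.1 (hU q hq hq')) p hp hd))
  rcases hQ with hQ | hQ
  · rcases SEA.walter JR.jr G hs hn hQ with ⟨n, hn, ⟨e⟩⟩ | ⟨F, _, _, h5, -, ⟨e⟩⟩ | ⟨t, H, L, F, _, _, j⟩
    · let _ : Fintype (GaloisField 2 n) := Fintype.ofFinite _
      exact psl t2 h (by
        rw [← Nat.card_eq_fintype_card, GaloisField.card 2 n (by omega)]
        exact Nat.pow_le_pow_right two_pos hn) e
    · exact psl t2 h (by omega) e
    obtain rfl := w1 G t H L F j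
    by_cases h5 : Fintype.card F = 5
    · rcases JR.jr G t H H F j with ⟨-, e⟩ | ⟨k, -, e, -⟩
      · refine none hs hn h fun r hr hd => ?_
        rw [e] at hd
        have : ∀ r < 420, r * r ∣ 175560 → r < 2 ∨ r = 2 := by decide +kernel
        rcases this r (by have := Nat.le_of_dvd (by norm_num) hd; nlinarith) hd with e | rfl
        exacts [absurd hr.two_le (by omega), t2]
      · have := dvd_pow_self 3 (n := 2 * k + 1) (by omega)
        omega
    · intro r hr hd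
      obtain ⟨y, g, rfl, e⟩ := re G t H F j h5 r hr hd
      exact real t2 h hr e
  rcases gwd G ⊤ hQ smp_top (fun e => hn ⟨⟨fun a b => ab_iff.1 e a trivial b trivial⟩⟩) with
    ⟨F, _, _, h5, -, ⟨e⟩⟩ | e
  · exact psl t2 h (by omega) (topEquiv.symm.trans e)
  · refine none hs hn h fun r hr hd => ?_
    rw [← card_top, e.card] at hd
    have : ∀ r < 60, r * r ∣ 2520 → r < 2 ∨ r = 2 ∨ r = 3 ∨ r = 6 := by decide +kernel
    rcases this r (by have := Nat.le_of_dvd (by norm_num) hd; nlinarith) hd with e' | rfl | rfl | rfl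
    exacts [absurd hr.two_le (by omega), t2, a7 t2 h e, absurd hr (by norm_num)]

end Cfsg.Agent.GW2
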