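import Cfsg.Agent.Lib.GW2.D0

/-!
# Consequences of the order formulas, and groups with a component
-/

set_option autoImplicit false
set_option linter.unusedSectionVars false

namespace Cfsg.Agent.GW2

open Subgroup Cfsg.Agent.OO Cfsg.Agent.Coprime GW
open scoped commutatorElement Pointwise

universe u

namespace Num

variable {n N₁ N₂ : ℕ} {A C D : ℤ} (h : Num n N₁ N₂ A C D)
include h

theorem bounds : 21 * (N₁ + N₂) ^ 2 ≤ 16 * n ∧ 16 * n ≤ 45 * (N₁ + N₂) ^ 2 := by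
  have h1 := h.ord
  have h2 : 9 ≤ A ∨ A ≤ -7 := by have := h.A8; have := h.A1; omega
  have h3 : 0 < (A - 1) ^ 2 := by rcases h2 with e | e <;> nlinarith
  have h4 : (0 : ℤ) ≤ ((N₁ : ℤ) + N₂) ^ 2 := by positivity
  have h5 : 21 * (A - 1) ^ 2 ≤ 32 * (A * (A + 1)) ∧ 32 * (A * (A + 1)) ≤ 45 * (A - 1) ^ 2 := by
    rcases h2 with e | e <;> constructor <;> nlinarith
  zify
  constructor <;> refine le_of_mul_le_mul_right ?_ h3 <;> nlinarith [mul_le_mul_of_nonneg_left h5.1 h4,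
    mul_le_mul_of_nonneg_left h5.2 h4]

theorem a15 (h0 : 0 < N₁) (h3 : N₂ = 3 * N₁) : A = -15 ∧ 4 * n = 105 * N₁ ^ 2 := by
  have h1 := h.ord
  have h2 := h.ord'
  have hA : 9 ≤ A ∨ A ≤ -7 := by have := h.A8; have := h.A1; omega
  have hs := h.sum
  subst h3
  push_cast at h1 h2
  have h4 : (N₁ : ℤ) ^ 2 * A ≠ 0 := mul_ne_zero (by positivity) (by omega)
  have h5 : C * D * (A ^ 2 + 14 * A + 1) = 4 * A * (A + 1) ^ 2 := by
    refine mul_left_cancel₀ (mul_ne_zero (show (8 : ℤ) ≠ 0 by decide) h4) ?_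
    have e : (C - 1) * (D - 1) = C * D - A := by linear_combination -hs
    rw [mul_assoc, e] at h2
    linear_combination (A - 1) ^ 2 * h2 - (A + 1) * (C * D - A) * h1
  have h6 : A ^ 2 + 14 * A + 1 ∣ 48 := by
    have : IsCoprime (A ^ 2 + 14 * A + 1) (A ^ 2) :=
      IsCoprime.pow_right ⟨1, -(A + 14), by ring⟩
    exact this.dvd_of_dvd_mul_right ⟨4 * A - C * D, by linear_combination h5⟩
  have h7 := Int.le_of_dvd (by decide) h6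
  have h8 : A = -15 ∨ A = -7 := by
    have := h.A8
    by_contra! e
    rcases hA with e' | e'
    · nlinarith
    · have : A ≤ -23 := by omega
      nlinarith
  rcases h8 with rfl | rfl
  · refine ⟨rfl, ?_⟩
    zify
    linarith
  · have : D = -6 - C := by omega
    subst this
    nlinarith [sq_nonneg (C + 3)]

end Num

variable {G : Type u} [Group G] [Finite G] {X Y J P Q R L N M K Γ : Subgroup G}
  {a c e f g s t u v w x y z ρ : G} {p : ℕ}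

theorem Cf.bounds (h : Cf X a s t) (co : CO.{u}) (o : OC X) :
    21 * (kI X t s + kI X t (a * s)) ^ 2 ≤ 16 * nI X t ∧
      16 * nI X t ≤ 45 * (kI X t s + kI X t (a * s)) ^ 2 := by
  obtain ⟨A, C, D, k, -⟩ := co G X a s t h o
  exact k.bounds

theorem Cf.oc (h : Cf X a s t) (hM : M ≤ X) (hS : S4 a s ≤ M) (o : OC M) : OC X := by
  have k := h.mono hS hM
  obtain ⟨g, hg, e⟩ := o t k.t_mem s k.s_mem h.t1 h.t2 h.s1 h.s2
  obtain ⟨g', hg', e'⟩ := o t k.t_mem _ k.as_mem h.t1 h.t2 h.f4'.e1 h.f4'.e2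
  exact h.oc_of_rot (hM hg) e (hM hg') e'

theorem Cf.count (h : Cf Γ a s t) (co : CO.{u}) (hN : N ≤ Γ) (hS : S4 a s ≤ N) (o : OC N)
    (h1 : Γ ⊓ 𝐂[t] ⊓ 𝐂[s] ≤ N) (h2 : Γ ⊓ 𝐂[t] ⊓ 𝐂[a * s] ≤ N)
    (hc : ∀ g ∈ Γ ⊓ 𝐂[t], g ∉ N → ∀ x ∈ N, g⁻¹ * (x * t * x⁻¹) * g ∈ N → x * t * x⁻¹ = t)
    (h3 : N.relIndex (Γ ⊓ 𝐂[t]) ≤ kI N t s) (h4 : N.relIndex (Γ ⊓ 𝐂[t]) ≤ kI N t (a * s)) :
    Γ ⊓ 𝐂[t] ≤ N := by
  by_contra h0
  have k := h.mono hS hN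
  have h5 := count_le hN k.t_mem hc
  have h6 := relIndex_mul_nI hN t
  have h7 := relIndex_pos N (Γ ⊓ 𝐂[t])
  have h8 := (h.bounds co (h.oc hN hS o)).2
  have h9 := (k.bounds co o).1
  rw [← relIndex_eq_one] at h0
  rw [kI_eq hN h1, kI_eq hN h2, ← mul_add] at h8
  have h10 := Nat.add_le_add h3 h4
  generalize N.relIndex (Γ ⊓ 𝐂[t]) = m at *
  generalize kI N t s + kI N t (a * s) = k at *
  generalize nI N t = n at *
  obtain ⟨m, rfl⟩ : ∃ j, m = j + 2 := ⟨m - 2, by omega⟩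
  have e1 : (m + 1) * n * n ≤ nI Γ t * (m + 2) := (Nat.mul_le_mul_right n h5.le).trans h6.le
  have e2 : (m + 1) * (21 * k ^ 2) ^ 2 ≤ (m + 1) * (16 * n) ^ 2 := by gcongr
  have e3 : (m + 2 + (m + 2)) ^ 2 ≤ k ^ 2 := by gcongr
  have e4 : 0 < k ^ 2 := pow_pos (by omega) 2
  rw [mul_pow (m + 2)] at h8
  generalize k ^ 2 = K at *
  have e5 : K * (441 * (m + 1) * K) ≤ K * (720 * (m + 2) ^ 3) := by nlinarith
  have e6 := Nat.le_of_mul_le_mul_left e5 e4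
  have e7 : 441 * (m + 1) * (m + 2 + (m + 2)) ^ 2 ≤ 441 * (m + 1) * K := by gcongr
  nlinarith

/-- O1 -/
theorem Cf.o1 (h : Cf X a s t) (co : CO.{u}) (hM : M ≤ X) (hc : X ⊓ 𝐂[t] ≤ M) (o : OC M) :
    X ≤ M := by
  have hS := h.cent.le.trans hc
  have k := h.mono hS hM
  have h1 := relIndex_mul_nI hM t
  have h2 := (h.bounds co (h.oc hM hS o)).2
  have h3 := (k.bounds co o).1
  have h4 : ¬ 2 ∣ M.relIndex X := fun e => h.syl.not_dvd (e.trans (relIndex_dvd_of_le_left _ hS))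
  rw [kI_eq hM (inf_le_left.trans hc), kI_eq hM (inf_le_left.trans hc), relIndex_eq_one.2 hc] at h2
  rw [relIndex_eq_one.2 hc] at h1
  have h5 : 0 < (kI M t s + kI M t (a * s)) ^ 2 := pow_pos (Nat.add_pos_left (relIndex_pos _ _) _) 2
  rw [← relIndex_eq_one]
  by_contra h6
  have h7 : 3 ≤ M.relIndex X := by omega
  rw [one_mul, one_mul] at h2
  nlinarith

/-- SE -/
theorem se (hD : DH G) (co : CO.{u}) (hJ : L ≤ J) (hN : L ⊴ N) (hp : der L = L) (o : OC L)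
    (p : F4 t e) (ht : t ∈ L) (he : e ∈ L) (hc : J ⊓ 𝐂[t] ≤ N)
    (hi : ∀ i ∈ N ⊓ J, i * i = 1 → i ∈ L) : J ≤ N := by
  obtain ⟨ρ, hρ, r⟩ := hD.exists_rot o p ht he
  obtain q | ⟨a, k⟩ := hD.pair_or_cf p (hJ ht) (hJ he)
  swap
  · exact (k.o1 co inf_le_right (le_inf hc inf_le_left) (o.mono_of (le_inf hN.le hJ) hi)).trans
      inf_le_left
  have v := r.v4 (hD.pair_of_conj q fun z hz z1 => (r.exists_conj p hz z1).imp
    fun _ e => ⟨zpowers_le.2 (hJ hρ) e.1, e.2⟩) (hJ hρ)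
  obtain ⟨J0, -, ⟨k1, k2⟩, k3⟩ := Core.exists_minimal_le (P := fun J0 => L ≤ J0 ∧ J0 ⊴ J)
    ⟨hJ, .refl J⟩
  have k4 : der J0 = J0 := k3 _ ⟨hp.ge.trans (der_mono k1), k2.der⟩ (der_le _)
  have v0 := v.mono (k1 ht) (k1 hρ) k2.le
  have vL := v.mono ht hρ hJ
  have hM : L ≤ N ⊓ J0 := le_inf hN.le k1
  have i0 := vL.isProd (hN.mono hM inf_le_left) (v0.mono (hM ht) (hM hρ) inf_le_right).not_dvd
  have h1 := relIndex_mul_nI (inf_le_right : N ⊓ J0 ≤ J0) t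
  have h2 : J0 ⊓ 𝐂[t] ≤ N ⊓ J0 := le_inf ((inf_le_inf_right _ k2.le).trans hc) inf_le_left
  have h3 := ((charO G J0 t e ρ v0).2 k4).2
  have h4 := ((charO G L t e ρ vL).2 hp).1
  have h5 : nI (N ⊓ J0) t = nI L t := relIndex_eq_of_isProd i0 (inf_le_left.trans inf_le_right)
  have h6 : kI (N ⊓ J0) t e = kI L t e :=
    relIndex_eq_of_isProd (i0.inf_of_right_le (inf_le_left.trans inf_le_right)) inf_le_right
  rw [kI_eq inf_le_right (inf_le_left.trans h2), relIndex_eq_one.2 h2, h6, one_mul] at h3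
  rw [relIndex_eq_one.2 h2, h5, mul_one] at h1
  have h7 : ¬ 2 ∣ (N ⊓ J0).relIndex J0 := fun e =>
    v0.pair.syl.not_dvd (e.trans (relIndex_dvd_of_le_left _ (vL.pair.le.trans hM)))
  have h8 : 0 < kI L t e ^ 2 := pow_pos (relIndex_pos _ _) 2
  have h9 : (N ⊓ J0).relIndex J0 = 1 := by
    by_contra h6
    have : 3 ≤ (N ⊓ J0).relIndex J0 := by omega
    nlinarith
  exact (v0.isProd k2 v.not_dvd).sup_eq.ge.trans (sup_le ((relIndex_eq_one.1 h9).trans inf_le_left)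
    (inf_le_left.trans hc))

theorem comm_zp (h : t * t = 1) (hn : t ∈ 𝐍(Q)) (ho : Odd ♯Q) :
    ⁅⁅Q, zpowers t⁆, zpowers t⁆ = ⁅Q, zpowers t⁆ :=
  coprime_commGid (zpowers_le.2 hn) (coprime_zp ho h) (.inl (sol_of_odd ho))

theorem sup_zp (h : t * t = 1) (hn : t ∈ 𝐍(Q)) (ho : Odd ♯Q) : ⁅Q, zpowers t⁆ ⊔ Q ⊓ 𝐂[t] = Q := by
  simpa [cent_zpowers] using
    coprime_cent_prod (zpowers_le.2 hn) (coprime_zp ho h) (.inl (sol_of_odd ho))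

omit [Finite G] in
theorem comm_eq_bot : ⁅Q, zpowers t⁆ = ⊥ ↔ Q ≤ 𝐂[t] := by
  rw [OO.commutator_eq_bot_iff, cent_zpowers]

theorem le_cent_of_comm (h : t * t = 1) (hn : t ∈ 𝐍(Q)) (ho : Odd ♯Q) (hc : ⁅Q, zpowers t⁆ ≤ 𝐂[t]) :
    Q ≤ 𝐂[t] := comm_eq_bot.1 (by rw [← comm_zp h hn ho]; exact comm_eq_bot.2 hc)

theorem eq_one_of_inv (ho : Odd (orderOf g)) (h : g * x * g⁻¹ = x⁻¹) (hx : Odd (orderOf x)) : x = 1 := by
  have h1 : g * g ∈ 𝐂[x] := mem_cent1_iff_conj.2 (by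
    rw [mul_cj, h, show g * x⁻¹ * g⁻¹ = (g * x * g⁻¹)⁻¹ by group, h, inv_inv])
  have h2 := zpowers_le.2 h1 (sq g ▸ ZG.mem_zp_pow (Nat.coprime_two_left.2 ho))
  exact ZG.eq_one_of_inv hx ((mem_cent1_iff_conj.1 h2).symm.trans h)

theorem A7.comm_le (h : A7 X t) (hw : w ∈ O (X ⊓ 𝐂[t])) (h1 : w ∉ O X) (he : e ∈ X) (hc : w ∈ 𝐂[e]) :
    ⁅O (X ⊓ 𝐂[t]), zpowers e⁆ ≤ O X := by
  have hU : O (X ⊓ 𝐂[t]) ≤ X := (Opi_le _ _).trans inf_le_left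
  have h2 : O (X ⊓ 𝐂[t]) ≤ O X ⊔ zpowers w := by
    have h3 := (covBy_of_relIndex_prime (inf_le_right : O X ⊓ O (X ⊓ 𝐂[t]) ≤ _)
      (by rw [inf_relIndex_right, h.idx]; exact Nat.prime_three)).eq_or_eq (le_inf (le_sup_of_le_left
        inf_le_left) inf_le_right) (inf_le_right : (O X ⊔ zpowers w) ⊓ _ ≤ _)
    exact inf_eq_right.1 (h3.resolve_left fun e => h1 (e.le ⟨mem_sup_right (mem_zpowers w), hw⟩).1)
  rw [← quo_le_cent_iff (hU.trans (O_norm X)) (zpowers_le.2 (O_norm X he)),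
    quo_zpowers (O_norm X he), cent_zpowers]
  refine (quo_mono _ h2).trans ?_
  rw [quo_sup (le_norm_self _) (zpowers_le.2 (O_norm X (hU hw))), quo_self, bot_sup_eq,
    quo_zpowers (O_norm X (hU hw)), zpowers_le]
  exact coset_mem_cent1 (O_norm X he) hc

theorem In.of_rot (p : F4 t e) (r : Rot t e ρ) (ht : t ∈ X) (hρ : ρ ∈ X) : In X t :=
  ⟨ht, p.t1, p.t2, .inr ⟨e, r.ρt ▸ mul_mem (mul_mem hρ ht) (inv_mem hρ), ρ, hρ, p, r⟩⟩

theorem In.mono (h : In X t) (hY : X ≤ Y) : In Y t := ⟨hY h.mem, h.t1, h.t2, h.or.imp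
  (fun ⟨c, hc, e⟩ => ⟨c, hY hc, e⟩) fun ⟨e, he, ρ, hρ, k⟩ => ⟨e, hY he, ρ, hY hρ, k⟩⟩

/-- L1 -/
theorem KF.le_Op [hp : Fact p.Prime] (h : KF G) (hX : X ≠ ⊤) (hu : u ∈ X) (u1 : u ≠ 1) (u2 : u * u = 1)
    (h2 : p ≠ 2) (hP : P ≤ X) (hPp : IsPGroup p P) (hc : X ⊓ 𝐂[u] ≤ 𝐍(P)) (hY : Y ≤ P)
    (ht : u ∈ 𝐍(Y)) (hYt : ⁅Y, zpowers u⁆ = Y) : Y ≤ Op p X := by
  have h1 : Y ≤ O X := hYt.ge.trans ((commutator_mono hY le_rfl).trans
    (h.k1 X hX u hu u1 u2 p hp.out h2 P hP hPp hc))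
  refine (Sig.le_Op_of_commutator (Q := P ⊓ O X) Nat.prime_two (by
    rw [Nat.card_zpowers, orderOf_eq_two u2 u1]) (sol_of_odd (odd_O X))
    (odd_O X).not_two_dvd_nat (zpowers_le.2 (O_norm X hu)) inf_le_right (hPp.to_le inf_le_left)
    (le_inf hY h1) (zpowers_le.2 ht) hYt (fun e _ => absurd e h2) ?_).trans
    (Op_le_of_normal p (Opi_normal _ X))
  rw [cent_zpowers]
  exact le_norm_inf ((inf_le_inf_right _ (Opi_le _ _)).trans hc) (le_norm_of_le inf_le_left)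

theorem KK_le (L : Subgroup G) (u : G) : KK L u ≤ O (L ⊓ 𝐂[u]) := commutator_le_left' (O_norm _)

theorem KK_le' (L : Subgroup G) (u : G) : KK L u ≤ L ⊓ 𝐂[u] := (KK_le L u).trans (Opi_le _ _)

theorem odd_KK (L : Subgroup G) (u : G) : Odd ♯(KK L u) := odd_of_le (odd_O _) (KK_le L u)

omit [Finite G] in
theorem KK_conj (g : G) (L : Subgroup G) (u : G) : KK (g •ᶜ L) (g * u * g⁻¹) = g •ᶜ KK L u := by
  rw [KK, KK, conj_commutator, cent1_conj, ← conj_inf, O, O, Op', Op', ← Opi, ← Opi, Opi_conj]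

omit [Finite G] in
theorem mem_norm_KK (hg : g ∈ 𝐍(L)) (hu : g ∈ 𝐂[u]) : g ∈ 𝐍(KK L u) := by
  rw [← conj_eq_self_iff, ← KK_conj, conj_eq_of_mem_norm hg, mem_cent1_iff_conj.1 hu]

namespace Cp

variable (h : Cp N L)
include h

theorem le : L ≤ N := h.normal.le

theorem O_le_cent (hx : x ∈ L) : O N ≤ 𝐂[x] := le_cent1_iff.2 (h.cent hx)

theorem isProd (ht : t ∈ L) (t1 : t ≠ 1) (t2 : t * t = 1) : IsProd L (N ⊓ 𝐂[t]) N :=
  h.oc.isProd h.normal ht t1 t2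

theorem isIn (ht : t ∈ L) (t1 : t ≠ 1) (t2 : t * t = 1) : In L t := by
  obtain ⟨e, he, p⟩ := h.ex t ht t1 t2
  obtain ⟨ρ, hρ, r⟩ := h.rot t ht e he p
  exact .of_rot p r ht hρ

theorem not_le_cent (ht : t ∈ L) (t1 : t ≠ 1) (t2 : t * t = 1) : ¬ L ≤ 𝐂[t] := fun e' => by
  obtain ⟨e, he, p⟩ := h.ex t ht t1 t2
  obtain ⟨ρ, hρ, r⟩ := h.rot t ht e he p
  exact r.not_mem p (e' hρ)

theorem norm_KK (u : G) : N ⊓ 𝐂[u] ≤ 𝐍(KK L u) := fun _ hg => mem_norm_KK (h.normal.norm hg.1) hg.2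

theorem KK_inf (hu : u ∈ N) (hv : v ∈ L) (p : F4 u v) : KK L u ⊓ O N = ⊥ :=
  eq_bot_iff.2 (h.inv u hu v (h.le hv) p ▸ inf_le_inf_left _ (h.O_le_cent hv))

theorem conj_inv (hu : u ∈ N) (hv : v ∈ N) (p : F4 u v) (hx : x ∈ KK L u) : v * x * v⁻¹ = x⁻¹ :=
  conj_eq_inv p.e2 (h.norm_KK u ⟨hv, p.e_mem⟩) (h.inv u hu v hv p) hx

theorem comm_KK (hu : u ∈ N) (hv : v ∈ N) (p : F4 u v) : ⁅KK L u, zpowers v⁆ = KK L u :=
  commutator_eq_of_inf_eq_bot p.e2 (h.norm_KK u ⟨hv, p.e_mem⟩) (odd_KK L u) (h.inv u hu v hv p)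

theorem le_KK (hD : DH G) (hu : u ∈ N) (hv : v ∈ L) (p : F4 u v) (hQ : Q ≤ N ⊓ 𝐂[u]) (ho : Odd ♯Q) :
    ⁅Q, zpowers v⁆ ≤ KK L u :=
  (commutator_mono (hD.le_O p.t1 p.t2 inf_le_right hQ ho) le_rfl).trans (h.comm' u hu v hv p)

/-- `p`-subgroups of `C_L(t)` for `p` dividing the order of the torus -/
theorem le_KK_of_dvd [hp : Fact p.Prime] (hD : DH G) (ht : t ∈ L) (t1 : t ≠ 1) (t2 : t * t = 1)
    (hd : p ∣ ♯(KK L t)) (hQ : Q ≤ L ⊓ 𝐂[t]) (hQp : IsPGroup p Q) : Q ≤ KK L t := by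
  have h1 : L ⊓ O N ≤ 𝐍(KK L t) := le_norm_of_le_cent (le_cent_symm (le_cent_mono h.cent
    ((KK_le' L t).trans inf_le_left) inf_le_right))
  refine (piGrp_singleton hQp).le_of_relIndex ((hD.le_O t1 t2 inf_le_right hQ (odd_of_isPGroup
    (fun e => (odd_KK L t).not_two_dvd_nat (e ▸ hd)) hQp)).trans (h.sup t (h.le ht) t1 t2))
    (sup_le (le_norm_self _) h1) ?_
  rw [relIndex_sup_eq' (.inr h1)]
  exact ((piGrp_compl_singleton hp.out).2 fun e => hp.out.one_lt.ne'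
    (Nat.eq_one_of_dvd_coprimes (h.copZ t ht t1 t2) hd e)).relIndex _

/-- a subgroup of order prime to the torus which is inverted by a reflection -/
theorem le_O (hD : DH G) (ht : t ∈ L) (hv : v ∈ N) (p : F4 t v) (hQ : Q ≤ N ⊓ 𝐂[t]) (ho : Odd ♯Q)
    (hc : ⁅Q, zpowers v⁆ = Q) (hcop : (♯(KK L t)).Coprime ♯Q) : Q ≤ O N := by
  have h1 := hc.ge.trans ((commutator_mono (hD.le_O p.t1 p.t2 inf_le_right hQ ho) le_rfl).trans
    (h.comm t (h.le ht) v hv p))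
  have h2 : KK L t ≤ 𝐍(O N) := (((KK_le' L t).trans inf_le_left).trans h.le).trans (O_norm N)
  refine (quo_eq_bot_iff ((hQ.trans inf_le_left).trans (O_norm N))).1 ?_
  have h3 := quo_mono (O N) h1
  rw [quo_sup h2 (le_norm_self _), quo_self, sup_bot_eq] at h3
  rw [← inf_eq_left.2 h3]
  exact inf_eq_bot_of_coprime_card ((hcop.symm.coprime_dvd_left (card_quo_dvd _ _)).coprime_dvd_right
    (card_quo_dvd _ _))

/-- the conjugate of the torus of an outer involution -/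
theorem conj_le_O (hD : DH G) (ht : t ∈ L) (hu : u ∈ N) (uL : u ∉ L) (p : F4 t u)
    (e1 : g * u * g⁻¹ = t) (hv : g * t * g⁻¹ ∈ N) (hN : g •ᶜ KK L u ≤ N) : g •ᶜ KK L u ≤ O N := by
  refine h.le_O hD ht hv (e1 ▸ p.symm.conj g) (le_inf hN ?_) (by rw [card_conj]; exact odd_KK L u) ?_
    (by rw [card_conj]; exact (h.cop t ht u hu uL p).1)
  · rw [← e1, cent1_conj]; exact conj_mono g ((KK_le' L u).trans inf_le_right)
  · rw [← conj_zpowers, ← conj_commutator, h.comm_KK hu (h.le ht) p.symm]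

theorem mem_of_cent (hv : v ∈ N) (v2 : v * v = 1) (vL : v ∉ L) (hx : x ∈ O N) (x1 : x ≠ 1)
    (e : v * x * v⁻¹ = x⁻¹) {i : G} (hi : i ∈ N ⊓ 𝐂[x]) (i2 : i * i = 1) : i ∈ L := by_contra fun iL => by
  obtain ⟨l, hl, o, ho, e'⟩ := (mem_sup_norm_right (le_norm_of_le_cent h.cent)).1
    (h.com i hi.1 v hv i2 v2 iL vL)
  refine x1 (eq_one_of_inv (odd_of_mem (odd_O N) ho) ?_ (odd_of_mem (odd_O N) hx))
  have h1 := mem_cent_iff_conj.1 (h.cent hl) _ (mul_mem (mul_mem ho hx) (inv_mem ho))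
  rw [← h1, ← mul_cj, e', mul_cj, e, mem_cent1_iff_conj.1 (mem_cent1_comm.1 (inv_mem
    (mem_cent1_comm.1 hi.2)))]

/-- SE for the centralizer of an element of `O(N)` inverted by an outer involution -/
theorem cent_le (hD : DH G) (co : CO.{u}) (ht : t ∈ L) (t1 : t ≠ 1) (t2 : t * t = 1) (hv : v ∈ N)
    (v2 : v * v = 1) (vL : v ∉ L) (hx : x ∈ O N) (x1 : x ≠ 1) (e : v * x * v⁻¹ = x⁻¹)
    (hc : 𝐂[x] ⊓ 𝐂[t] ≤ N) : 𝐂[x] ≤ N := by
  obtain ⟨e', he, p⟩ := h.ex t ht t1 t2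
  exact se hD co (h.cent.trans (cent_le_cent1 hx)) h.normal h.perfect h.oc p ht he hc
    fun i hi i2 => h.mem_of_cent hv v2 vL hx x1 e hi i2

/-- PGLkill -/
theorem kill (ht : t ∈ L) (hu : u ∈ N) (p : F4 t u) (hx : x ∈ KK L u) (x1 : x ≠ 1)
    (hy : y ∈ KK L (t * u)) (y1 : y ≠ 1) (h1 : x ∈ ρ •ᶜ O N) (h2 : y ∈ (ρ * ρ) •ᶜ O N)
    (h3 : 𝐂[x] ≤ ρ •ᶜ N) : False := by
  have tN := h.le ht
  have tu := N.mul_mem tN hu
  have xL := (KK_le' L u hx).1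
  have yL := (KK_le' L _ hy).1
  have h4 : ρ •ᶜ O N ≤ 𝐍((ρ * ρ) •ᶜ O N) := by
    rw [← conj_conj, conj_le_norm_conj]
    exact ((h.O_le_cent xL).trans h3).trans (conj_le_norm_conj.2 (O_norm N))
  have ho : Odd ♯(zpowers x ⊔ zpowers y) := odd_of_le (Odd.of_dvd_nat (by
    rw [card_conj, card_conj]; exact (odd_O N).mul (odd_O N)) (card_sup_dvd (.inl h4)))
    (sup_le_sup (zpowers_le.2 h1) (zpowers_le.2 h2))
  have a1 := h.conj_inv hu tN p.symm hx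
  have a2 := h.conj_inv hu tu p.rot hx
  have a3 := h.conj_inv tu tN p.mul.symm hy
  have a4 := h.conj_inv tu hu p.rot.symm hy
  have a5 := mem_cent1_iff_conj.1 (mem_cent1_comm.1 (KK_le' L u hx).2)
  have n : ∀ {g x : G}, g * x * g⁻¹ = x⁻¹ → g ∈ 𝐍(zpowers x) := fun e =>
    ZG.mem_norm_zp (e ▸ inv_mem (mem_zpowers _))
  obtain ⟨v, hv, v1, k⟩ := h.oddV t tN u hu p _ (sup_le (zpowers_le.2 xL) (zpowers_le.2 yL)) ho
    (S4_le.2 ⟨mem_norm_sup (n a1) (n a3), mem_norm_sup (ZG.mem_norm_zp (a5.symm ▸ mem_zpowers x))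
      (n a4)⟩)
  have key : ∀ {z w : G}, z ∈ KK L w → w ∈ N → F4 w t → z ∈ zpowers x ⊔ zpowers y →
      v * z * v⁻¹ = z⁻¹ → z = 1 := fun {z w} hz hw q hz' e => by
    have h5 := k (commutator_mem_commutator hz' (mem_zpowers v))
    rw [commutatorElement_def, mul_assoc, mul_assoc, ← mul_assoc v,
      show v * z⁻¹ * v⁻¹ = (v * z * v⁻¹)⁻¹ by group, e, inv_inv] at h5
    exact eq_one_of_odd_of_sq (odd_of_mem (odd_KK L w) hz)
      (mem_bot.1 (h.KK_inf hw ht q ▸ (⟨mul_mem hz hz, h5⟩ : _ ∈ KK L w ⊓ O N)))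
  rcases p.mem.1 hv with rfl | rfl | rfl | rfl
  exacts [v1 rfl, x1 (key hx hu p.symm (mem_sup_left (mem_zpowers x)) a1),
    y1 (key hy tu p.mul.symm (mem_sup_right (mem_zpowers y)) a4),
    x1 (key hx hu p.symm (mem_sup_left (mem_zpowers x)) a2)]

end Cp

namespace Mn

variable (h : Mn a s t)
include h

theorem smp : Smp (⊤ : Subgroup G) := @smp_top _ _ h.simple

theorem of_cf {a' s' t' : G} (k : Cf ⊤ a' s' t') : Mn a' s' t' := { h with cf := k }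

theorem swap : Mn a (a * s) t := h.of_cf h.cf.swap

theorem conj (g : G) : Mn (g * a * g⁻¹) (g * s * g⁻¹) (g * t * g⁻¹) :=
  h.of_cf (conj_top g ▸ h.cf.conj g)

theorem t1 : t ≠ 1 := h.cf.t1

theorem t2 : t * t = 1 := h.cf.t2

theorem exists_rot (p : F4 x y) : ∃ ρ, Rot x y ρ :=
  (h.dh.exists_rot h.oc p trivial trivial).imp fun _ e => e.2

theorem exists_conj (x1 : x ≠ 1) (x2 : x * x = 1) : ∃ g, g * t * g⁻¹ = x :=
  (h.oc t trivial x trivial h.t1 h.t2 x1 x2).imp fun _ e => e.2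

/-- a frame for an arbitrary four-group -/
theorem exists_mn (p : F4 x y) : ∃ b, Mn b y x :=
  ((h.dh.pair_or_cf' p (mem_top x) (mem_top y) h.oc).resolve_left fun q => q.not_dvd h.cf.eight).imp
    fun _ k => h.of_cf k

theorem cent_ne_top : 𝐂[t] ≠ ⊤ := fun e => by
  obtain ⟨ρ, r⟩ := h.exists_rot h.cf.f4
  exact r.not_mem h.cf.f4 (e.ge trivial)

theorem cent1_ne_top (hw : w ≠ 1) : 𝐂[w] ≠ ⊤ := fun e => h.smp.norm_ne_top (mt zpowers_eq_bot.1 hw)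
  (fun e' => h.cent_ne_top (top_le_iff.1 (e' ▸ zpowers_le.2 (mem_cent1_comm.1 (e.ge trivial)))))
  (top_le_iff.1 (e ▸ cent_zpowers w ▸ cent_le_norm _))

theorem cent_ne_top' (h0 : Q ≠ ⊥) : 𝐂(Q) ≠ ⊤ := fun e => by
  obtain ⟨x, hx, x1⟩ := exists_mem_ne_one h0
  exact h.cent1_ne_top x1 (top_le_iff.1 (e.ge.trans (cent_le_cent1 hx)))

theorem le_U (hQ : Q ≤ 𝐂[t]) (ho : Odd ♯Q) : Q ≤ O 𝐂[t] := h.dh.le_O h.t1 h.t2 le_rfl hQ ho

theorem mem_U : x ∈ O 𝐂[t] ↔ x ∈ 𝐂[t] ∧ Odd (orderOf x) := h.dh.mem_O h.t1 h.t2 le_rfl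

theorem sol : Sol 𝐂[t] := h.dh.sol h.t1 h.t2 le_rfl

theorem cfC : Cf 𝐂[t] a s t := h.cf.mono h.cf.le_cent le_top

theorem sdprod : IsSdprod (O 𝐂[t]) (S4 a s) 𝐂[t] := top_inf_eq 𝐂[t] ▸ h.dh.sdprod h.cf

theorem cls (p : F4 t e) : ∃ g ∈ 𝐂[t], g * e * g⁻¹ = s ∨ g * e * g⁻¹ = a * s :=
  (h.cf.cls trivial p).imp fun _ k => ⟨k.1.2, k.2⟩

theorem not_oc (hM : M ≠ ⊤) (hc : 𝐂[t] ≤ M) : ¬ OC M := fun o =>
  hM (top_le_iff.1 (h.cf.o1 h.co le_top (inf_le_right.trans hc) o))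

end Mn

end Cfsg.Agent.GW2
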