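import Cfsg.Agent.Lib.GW2.Kfp
import Cfsg.Agent.Lib.GW2.IV

/-!
# Simple groups with dihedral Sylow 2-subgroups (unconditional form)
-/

set_option autoImplicit false

namespace Cfsg.Agent.GW2

universe u

theorem gwd : GWD.{u} := gwd_of_iv iv

end Cfsg.Agent.GW2
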