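import Cfsg.Agent.Lib.GW.Main
import Cfsg.Agent.Lib.GW.Char3
import Cfsg.Agent.Lib.ZG.Out
import Cfsg.Agent.Lib.R1.Hyp3

/-!
# Interfaces for the theorem on groups with dihedral Sylow 2-subgroups (plan GW2)
-/

set_option autoImplicit false

namespace Cfsg.Agent.GW2

open Subgroup Cfsg.Agent.OO Cfsg.Agent.Coprime Cfsg.Agent.R1 Cfsg.Agent.Blk GW
open scoped commutatorElement Pointwise

universe u

/-- every 2-subgroup is cyclic or dihedral (four-groups included) -/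
def DH (G : Type u) [Group G] : Prop := ∀ P : Subgroup G, IsPGroup 2 P → ∃ a ∈ P,
  (∀ x ∈ P, x ∉ zpowers a → x * x = 1) ∧
    ∀ x ∈ P, ∀ y ∈ P, x ∉ zpowers a → y ∉ zpowers a → x * y ∈ zpowers a

section

variable {G : Type u} [Group G]

/-- `{1, t, e, t e}` is a four-group -/
structure F4 (t e : G) : Prop where
  t1 : t ≠ 1
  e1 : e ≠ 1
  ne : t ≠ e
  t2 : t * t = 1
  e2 : e * e = 1
  comm : Commute t e

/-- `ρ` permutes `t ↦ e ↦ t e ↦ t` -/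
structure Rot (t e ρ : G) : Prop where
  ρt : ρ * t * ρ⁻¹ = e
  ρe : ρ * e * ρ⁻¹ = t * e

/-- `⟨a, s⟩` is a dihedral Sylow 2-subgroup of `X` of order at least 8 with central involution `t` -/
structure Cf (X : Subgroup G) (a s t : G) : Prop where
  a_mem : a ∈ X
  s_mem : s ∈ X
  syl : Syl 2 (S4 a s) X
  s2 : s * s = 1
  sa : s ∉ zpowers a
  inv : s * a * s⁻¹ = a⁻¹
  ta : t ∈ zpowers a
  t1 : t ≠ 1
  t2 : t * t = 1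
  a2 : a * a ≠ 1

/-- one class of involutions -/
def OC (X : Subgroup G) : Prop := ∀ a ∈ X, ∀ b ∈ X, a ≠ 1 → a * a = 1 → b ≠ 1 → b * b = 1 →
  ∃ g ∈ X, g * a * g⁻¹ = b

/-- the numerical consequences of the principal 2-block; `n = |X : C(t)|`, and `N₁`, `N₂` are the
sizes of the two classes of involutions other than `t` in `C(t)` -/
structure Num (n N₁ N₂ : ℕ) (A C D : ℤ) : Prop where
  A8 : A % 8 = 1
  A1 : A ≠ 1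
  C4 : C % 4 = 1
  D4 : D % 4 = 1
  C1 : C ≠ 1
  D1 : D ≠ 1
  sum : C + D = A + 1
  ord : n * (A - 1) ^ 2 = 2 * (N₁ + N₂) ^ 2 * A * (A + 1)
  ord' : n * (A + 1) * (C - 1) * (D - 1) = 8 * N₁ * N₂ * A * C * D
  dif : n * (C - D) ^ 2 = 2 * (N₁ - N₂) ^ 2 * C * D * (C + D)

/-- `L = L₂(q)`, `q` odd -/
def L2 (L : Subgroup G) : Prop := ∃ (F : Type) (_ : Field F) (_ : Fintype F), 5 ≤ Fintype.card F ∧
  Odd (Fintype.card F) ∧ Nonempty (L ≃* Matrix.ProjectiveSpecialLinearGroup (Fin 2) F)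

/-- simple groups with the order and the local structure of `A₇` -/
structure A7T (L : Subgroup G) : Prop where
  smp : Smp L
  card : ♯L = 2520
  loc : ∀ a ∈ L, a ≠ 1 → a * a = 1 → ♯(L ⊓ 𝐂[a] : Subgroup G) = 24 ∧ ∃ v ∈ L, ∃ w ∈ L, F4 a v ∧
    L ⊓ 𝐂[a] ≤ 𝐍(S4 a v) ∧ orderOf w = 3 ∧ w ∈ 𝐂(S4 a v) ∧ ¬ L ⊓ 𝐂[a] ≤ 𝐂[w] ∧
    L ⊓ 𝐂[w] ≤ 𝐍(S4 a v)

/-- the properties of `L₂(q) ≤ X ≤ PΓL₂(q)` that are needed -/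
structure PG (X L : Subgroup G) : Prop where
  normal : L ⊴ X
  cent : X ⊓ 𝐂(L) = ⊥
  good : Good L
  yb : ∀ t ∈ L, ∀ s ∈ L, F4 t s → ∀ v ∈ L ⊓ 𝐂[t], ∀ p : ℕ, p.Prime → p ≠ 2 → orderOf v = p →
    {b | b ∈ L ∧ orderOf b = p ∧ Odd ♯(zpowers v ⊔ zpowers b)}.ncard ≤
      (p - 1) * (2 * ♯(L ⊓ 𝐂[t]) + 3)
  ui : ∀ x ∈ L, Odd (orderOf x) → x ≠ 1 → ∀ a ∈ X ⊓ 𝐂[x], ∀ b ∈ X ⊓ 𝐂[x], a ≠ 1 → a * a = 1 →
    b ≠ 1 → b * b = 1 → a = b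
  com : ∀ u ∈ X, ∀ v ∈ X, u * u = 1 → v * v = 1 → u ∉ L → v ∉ L → u * v ∈ L
  out : ∀ u ∈ X, u * u = 1 → u ∉ L → IsCyclic (O (L ⊓ 𝐂[u])) ∧ O (L ⊓ 𝐂[u]) ≠ ⊥ ∧
    ∀ t ∈ L, t ≠ 1 → t * t = 1 → ♯(L ⊓ 𝐂[t] : Subgroup G) ≤ 2 * ♯(O (L ⊓ 𝐂[u])) + 2

end

/-- package CO -/
def CO : Prop := ∀ (G : Type u) [Group G] [Finite G] (X : Subgroup G) (a s t : G), Cf X a s t →
  OC X → ∃ A C D : ℤ, Num (nI X t) (kI X t s) (kI X t (a * s)) A C D ∧ ∃ (χ : G → ℂ) (ε : ℤ),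
    IsIrr X χ ∧ (ε = 1 ∨ ε = -1) ∧ ε * χ 1 = A + 1 ∧ ∀ y ∈ O (X ⊓ 𝐂[t]), ε * χ (t * y) = -2

/-- package CA -/
def CA : Prop := ∀ (G : Type u) [Group G] [Finite G] (a s t ρ₁ ρ₂ : G) (N : Subgroup G),
  IsSimpleGroup G → Cf ⊤ a s t → Rot t s ρ₁ → Rot t (a * s) ρ₂ → N ⊴ O 𝐂[t] →
  ⁅O 𝐂[t], zpowers s⁆ ≤ N → ⁅O 𝐂[t], zpowers (a * s)⁆ ≤ N →
  (∀ b ∈ O 𝐂[t] ⊓ 𝐂[s], ⁅b, ρ₁⁆ ∈ N) → (∀ b ∈ O 𝐂[t] ⊓ 𝐂[a * s], ⁅b, ρ₂⁆ ∈ N) → N = O 𝐂[t]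

/-- package AUT -/
def AUT : Prop := ∀ (G : Type u) [Group G] [Finite G] (X L : Subgroup G), DH G → L ⊴ X →
  X ⊓ 𝐂(L) = ⊥ → L2 L → PG X L

/-- the theorem of Gorenstein and Walter -/
def GWD : Prop := ∀ (G : Type u) [Group G] [Finite G] (L : Subgroup G), DH G → Smp L → ¬ Ab L →
  L2 L ∨ A7T L

/-- package W1: no field automorphisms in the centralizer of an involution -/
def W1 : Prop := ∀ (G : Type u) [Group G] [Finite G] (t : G) (H L : Subgroup G) (F : Type)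
  [Field F] [Fintype F], JRs t H L F → H = L

/-- package REAL -/
def REAL : Prop := ∀ (G : Type u) [Group G] [Finite G] (t : G) (L : Subgroup G) (F : Type)
  [Field F] [Fintype F], JRs t L L F → Fintype.card F ≠ 5 → ∀ r : ℕ, r.Prime → r ∣ Nat.card G →
  ∃ y g : G, orderOf y = r ∧ g * y * g⁻¹ = y⁻¹

end Cfsg.Agent.GW2
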