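import Cfsg.Agent.Lib.GW2.Hyp
import Cfsg.Agent.Lib.R4.Stab

/-!
# Interfaces for the local analysis (plan GW2)
-/

set_option autoImplicit false

namespace Cfsg.Agent.GW2

open Subgroup Cfsg.Agent.OO Cfsg.Agent.Coprime Cfsg.Agent.R1 Cfsg.Agent.Blk GW
open scoped commutatorElement Pointwise

universe u

section

variable {G : Type u} [Group G]

/-- the involution `t` is a square in `X` or lies in a four-group whose involutions are permuted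
transitively in `X` -/
structure In (X : Subgroup G) (t : G) : Prop where
  mem : t ∈ X
  t1 : t ≠ 1
  t2 : t * t = 1
  or : (∃ c ∈ X, c * c = t) ∨ ∃ e ∈ X, ∃ ρ ∈ X, F4 t e ∧ Rot t e ρ

/-- what is used about `X` when `X / O(X)` is of type `A₇` -/
structure A7 (X : Subgroup G) (t : G) : Prop where
  oc : OC X
  n : 105 ∣ nI X t
  n' : O X ≤ 𝐂[t] → nI X t = 105
  idx : (O X).relIndex (O (X ⊓ 𝐂[t])) = 3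
  ex : ∃ v ∈ X, F4 t v ∧ ⁅O (X ⊓ 𝐂[t]), zpowers v⁆ ≤ O X

/-- the odd part of the torus of `L` that centralizes the involution `u` -/
def KK (L : Subgroup G) (u : G) : Subgroup G := ⁅O (L ⊓ 𝐂[u]), L ⊓ 𝐂[u]⁆

/-- what is used about a group `N` with a component `L`, `L / O(L) = L₂(q)` -/
structure Cp (N L : Subgroup G) : Prop where
  normal : L ⊴ N
  cent : L ≤ 𝐂(O N)
  perfect : der L = L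
  oc : OC L
  ex : ∀ t ∈ L, t ≠ 1 → t * t = 1 → ∃ e ∈ L, F4 t e
  rot : ∀ t ∈ L, ∀ e ∈ L, F4 t e → ∃ ρ ∈ L, Rot t e ρ
  com : ∀ u ∈ N, ∀ v ∈ N, u * u = 1 → v * v = 1 → u ∉ L → v ∉ L → u * v ∈ L ⊔ O N
  cyc : ∀ u ∈ N, u ≠ 1 → u * u = 1 → IsCyclic (KK L u)
  inv : ∀ u ∈ N, ∀ v ∈ N, F4 u v → KK L u ⊓ 𝐂[v] = ⊥
  sup : ∀ u ∈ N, u ≠ 1 → u * u = 1 → O (L ⊓ 𝐂[u]) ≤ KK L u ⊔ L ⊓ O N
  comm : ∀ u ∈ N, ∀ v ∈ N, F4 u v → ⁅O (N ⊓ 𝐂[u]), zpowers v⁆ ≤ KK L u ⊔ O N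
  comm' : ∀ u ∈ N, ∀ v ∈ L, F4 u v → ⁅O (N ⊓ 𝐂[u]), zpowers v⁆ ≤ KK L u
  copZ : ∀ t ∈ L, t ≠ 1 → t * t = 1 → (♯(KK L t)).Coprime ♯(L ⊓ O N : Subgroup G)
  cop : ∀ t ∈ L, ∀ u ∈ N, u ∉ L → F4 t u → (♯(KK L t)).Coprime ♯(KK L u) ∧ KK L u ≠ ⊥ ∧
    2 * ♯(KK L t) ≤ ♯(KK L u) + 1
  oddV : ∀ t ∈ N, ∀ u ∈ N, F4 t u → ∀ Q ≤ L, Odd ♯Q → S4 t u ≤ 𝐍(Q) →
    ∃ v ∈ S4 t u, v ≠ 1 ∧ ⁅Q, zpowers v⁆ ≤ O N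
  psl : ∀ t ∈ L, ∀ e ∈ N, F4 t e → ∀ p : ℕ, p.Prime → p ≠ 2 → Op p (N ⊓ 𝐂[t]) ⊓ 𝐂[e] ≤ O N
  memO : ∀ t ∈ L, ∀ e ∈ L, F4 t e → ∀ x ∈ L ⊓ 𝐂[t] ⊓ 𝐂[e], Odd (orderOf x) → x ∈ O N
  yb : ∀ t ∈ L, ∀ e ∈ L, F4 t e → ∀ p : ℕ, p.Prime → p ≠ 2 → ¬ p ∣ ♯(L ⊓ O N : Subgroup G) →
    ∀ v ∈ L ⊓ 𝐂[t], orderOf v = p →
    {b | b ∈ L ∧ orderOf b = p ∧ Odd ♯(zpowers v ⊔ zpowers b)}.ncard ≤ (p - 1) * (8 * kI L t e + 3)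

end

/-- the consequences of the induction hypothesis for proper subgroups -/
structure KF (G : Type u) [Group G] : Prop where
  k1 : ∀ X : Subgroup G, X ≠ ⊤ → ∀ u ∈ X, u ≠ 1 → u * u = 1 → ∀ p : ℕ, p.Prime → p ≠ 2 →
    ∀ P ≤ X, IsPGroup p P → X ⊓ 𝐂[u] ≤ 𝐍(P) → ⁅P, zpowers u⁆ ≤ O X
  k2 : ∀ X : Subgroup G, X ≠ ⊤ → ∀ t ∈ X, ∀ e ∈ X, F4 t e → ∀ Q ≤ X ⊓ 𝐂[t], Odd ♯Q →
    ⁅Q, zpowers e⁆ = Q → O X ⊓ Q = ⊥ → IsCyclic Q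
  k3 : ∀ X : Subgroup G, X ≠ ⊤ → ∀ t, In X t → ∀ e ∈ X, F4 t e → ∀ p : ℕ, p.Prime → p ≠ 2 →
    Op p (X ⊓ 𝐂[t]) ⊓ 𝐂[e] ≤ O X ∨ A7 X t
  k4 : ∀ X : Subgroup G, X ≠ ⊤ → ∀ t, In X t → O X ≤ 𝐂[t] → X ≤ 𝐂[t] ∨
    (∃ v ∈ X, F4 t v ∧ X ≤ 𝐍(S4 t v)) ∨ A7 X t ∨ ∃ L, Cp X L ∧ t ∈ L
  k5 : ∀ X : Subgroup G, X ≠ ⊤ → ∀ t, In X t → ∀ e ∈ X, F4 t e → O (X ⊓ 𝐂[t]) ≤ 𝐂[e] →
    O (X ⊓ 𝐂[t]) ≤ O X ∨ A7 X t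

/-- the induction hypothesis -/
def IH (n : ℕ) : Prop := ∀ (G : Type u) [Group G] [Finite G] (L : Subgroup G), DH G → ♯L < n →
  Smp L → ¬ Ab L → L2 L ∨ A7T L

section

variable {G : Type u} [Group G]

/-- a minimal counterexample -/
structure Mn (a s t : G) : Prop where
  simple : IsSimpleGroup G
  dh : DH G
  cf : Cf ⊤ a s t
  oc : OC (⊤ : Subgroup G)
  kf : KF G
  co : CO.{u}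
  ca : CA.{u}

/-- `N = N(C_P(e))` has a component that contains `t` and `e`, where `P = O_p(O(C(t)))` -/
structure Bad (a s t e : G) (p : ℕ) (N L : Subgroup G) : Prop where
  mn : Mn a s t
  max : IsCoatom 𝐂[t]
  coatom : IsCoatom N
  cp : Cp N L
  tL : t ∈ L
  eL : e ∈ L
  f4 : F4 t e
  prime : p.Prime
  ne_bot : Op p (O 𝐂[t]) ⊓ 𝐂[e] ≠ ⊥
  not_le : ¬ Op p (O 𝐂[t]) ≤ 𝐂[e]
  norm : 𝐍(Op p (O 𝐂[t]) ⊓ 𝐂[e]) = N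

end

/-- package KFP -/
def KFP : Prop := ∀ (G : Type u) [Group G] [Finite G], DH G → IH.{u} (Nat.card G) → KF G

/-- package IA -/
def IA : Prop := ∀ (G : Type u) [Group G] [Finite G] (a s t : G), Mn a s t →
  ∃ M, IsCoatom M ∧ 𝐂[t] ≤ M ∧ ¬ Odd ♯(M ⊓ 𝐂(O M) : Subgroup G)

/-- package IE -/
def IE : Prop := ∀ (G : Type u) [Group G] [Finite G] (a s t : G) (M L : Subgroup G), Mn a s t →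
  M ≠ ⊤ → 𝐂[t] ≤ M → Cp M L → t ∉ L

/-- package IV -/
def IV : Prop := ∀ (G : Type u) [Group G] [Finite G] (a s t : G), Mn a s t →
  𝐂[t] ≤ 𝐍(S4 t s) → IsCoatom 𝐍(S4 t s) → O 𝐂[t] ≠ ⊥ → A7T (⊤ : Subgroup G)

/-- package IIE -/
def IIE : Prop := ∀ (G : Type u) [Group G] [Finite G] (a s t u : G) (p : ℕ), Mn a s t →
  IsCoatom 𝐂[t] → F4 t u → p.Prime → Op p (O 𝐂[t]) ⊓ 𝐂[u] ≠ ⊥ → ¬ Op p (O 𝐂[t]) ≤ 𝐂[u] →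
  ∃ e N L, Bad a s t e p N L ∧ Op p (O 𝐂[t]) ⊓ 𝐂[u] ≤ 𝐂[e]

/-- package IIA -/
def IIA : Prop := ∀ (G : Type u) [Group G] [Finite G] (a s t e : G) (p : ℕ) (N L A : Subgroup G),
  Bad a s t e p N L → A ⊴ 𝐂[t] → A ≤ Op p (O 𝐂[t]) → Ab A → A ⊓ 𝐂[e] = ⊥

/-- package IIB -/
def IIB : Prop := ∀ (G : Type u) [Group G] [Finite G] (a s t e : G) (p : ℕ) (N L : Subgroup G),
  ¬ Bad a s t e p N L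

/-- package IIC -/
def IIC : Prop := ∀ (G : Type u) [Group G] [Finite G] (a s t : G), Mn a s t → IsCoatom 𝐂[t] →
  (∀ u, F4 t u → ∀ p : ℕ, p.Prime → Op p (O 𝐂[t]) ⊓ 𝐂[u] = ⊥ ∨ Op p (O 𝐂[t]) ≤ 𝐂[u]) →
  O 𝐂[t] ⊓ 𝐂[s] = ⊥

end Cfsg.Agent.GW2
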