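import Cfsg.Agent.Lib.GW2.G0
import Cfsg.Agent.Lib.W3.Main

/-!
# Package IA
-/

set_option autoImplicit false
set_option linter.unusedSectionVars false

namespace Cfsg.Agent.GW2

open Subgroup Cfsg.Agent.OO Cfsg.Agent.Coprime Cfsg.Agent.Sig GW W3
open scoped commutatorElement Pointwise

universe u

variable {G : Type u} [Group G] [Finite G] {M N P U X Y : Subgroup G} {p q : ℕ} {a s t e ρ g : G}

/-- the negation of IA -/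
def OddC (t : G) : Prop := ∀ M, IsCoatom M → 𝐂[t] ≤ M → Odd ♯(M ⊓ 𝐂(O M) : Subgroup G)

theorem OddC.conj (h : OddC t) (g : G) : OddC (g * t * g⁻¹) := fun M h1 h2 => by
  have := h (g⁻¹ •ᶜ M) (isCoatom_conj_iff.2 h1) (conj_le_iff_le_inv_conj.1 (cent1_conj g t ▸ h2))
  rwa [show O (g⁻¹ •ᶜ M) = g⁻¹ •ᶜ O M from Opi_conj _ _ _, cent_conj, ← conj_inf, card_conj] at this

theorem OddC.fs (hn : OddC t) (hM : IsCoatom M) (hc : 𝐂[t] ≤ M) : FS M :=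
  fs_of_sol_cent (sol_of_odd (hn M hM hc))

theorem OddC.Op_two (hn : OddC t) (hM : IsCoatom M) (hc : 𝐂[t] ≤ M) : Op 2 M = ⊥ :=
  (Op_piGrp 2 M).eq_bot ((odd_iff.1 (hn M hM hc)).of_le
    (le_inf (Op_le 2 M) (le_cent_symm (Op'_le_cent_Op 2 M))))

theorem OddC.ne_two (hn : OddC t) (hM : IsCoatom M) (hc : 𝐂[t] ≤ M) (h0 : Op p M ≠ ⊥) : p ≠ 2 :=
  fun e => h0 (e ▸ hn.Op_two hM hc)

theorem OddC.odd_Op [Fact p.Prime] (hn : OddC t) (hM : IsCoatom M) (hc : 𝐂[t] ≤ M) : Odd ♯(Op p M) := by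
  by_cases e : p = 2
  · rw [e, hn.Op_two hM hc, card_bot]; exact odd_one
  · exact odd_of_isPGroup e (Op_isPGroup p M)

namespace Mn

variable (h : Mn a s t)
include h

theorem le_Op' [Fact p.Prime] (h2 : p ≠ 2) (hM : 𝐂[t] ≤ M) (hX : X ≠ ⊤) (hS : t ∈ X)
    (hY : Y ≤ Op p M) (hYX : Y ≤ X) (ht : t ∈ 𝐍(Y)) (hc : ⁅Y, zpowers t⁆ = Y) : Y ≤ Op p X :=
  h.kf.le_Op hX hS h.t1 h.t2 h2 inf_le_right ((Op_isPGroup p M).to_le inf_le_left)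
    (le_norm_inf ((inf_le_right.trans hM).trans (Op_normal p M).norm) (le_norm_of_le inf_le_left))
    (le_inf hY hYX) ht hc

variable (hn : OddC t)
include hn

theorem eq_of_char [Fact p.Prime] (hM : IsCoatom M) (hc : 𝐂[t] ≤ M) (hp : Core.IsCharIn p M)
    (h0 : M ⊓ N ≠ ⊥) (ha : Arr M N) (hc' : ∀ N', IsCoatom N' → M ⊓ N ≤ N' → Core.IsCharIn p N')
    (hN : IsCoatom N) : N = M := by
  refine R4.eq_of_char_sq h.smp (hn.ne_two hM hc fun e => ?_) (h.dh.sq p ⊤) hM inf_le_left h0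
    (arr_mono ha le_rfl) hc' hN inf_le_right
  rw [Core.IsCharIn, show pCoreOf p M = ⊥ from e] at hp
  exact h.t1 (mem_bot.1 (hp ⟨hc (mem_cent1_self t), by simp⟩))

theorem opt_of_pi (hM : IsCoatom M) (hc : 𝐂[t] ≤ M) (hπ : ∀ N, IsCoatom N → 𝐂[t] ≤ N → Arr M N →
    ∀ q : ℕ, q.Prime → Op q N ≠ ⊥ → Op q M ≠ ⊥) : GW.Opt t M := by
  refine ⟨hM, hc, fun N hN hc' ha => ?_⟩
  obtain e | ⟨p, hp, h1, -⟩ := h.smp.eq_or_char hM hN (hn.fs hM hc) (hn.fs hN hc') ha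
    (hπ N hN hc' ha)
  · exact e.symm
  have := Fact.mk hp
  refine h.eq_of_char hn hM hc h1 (fun e => h.t1 (mem_bot.1 (e ▸ le_inf hc hc'
    (mem_cent1_self t)))) ha (fun N' h2 h3 => ?_) hN
  have h4 := (le_inf hc hc').trans h3
  exact isCharIn_of_pi (hn.fs h2 h4) (hπ N' h2 h4 (arr_mono ha h3)) h1

theorem exists_opt : ∃ M, GW.Opt t M := by
  by_cases h2 : ∃ (M : Subgroup G) (q : ℕ), IsCoatom M ∧ 𝐂[t] ≤ M ∧ q.Prime ∧ Op q M ≠ ⊥ ∧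
      Op q M ⊓ 𝐂[t] = ⊥
  · obtain ⟨M, q, hM, hc, hq, h3, h4⟩ := h2
    have := Fact.mk hq
    refine ⟨M, h.opt_of_pi hn hM hc fun N hN hc' ha r hr h5 h6 => h5 ?_⟩
    have := Fact.mk hr
    have h7 := (Op_normal q M).Zc.norm (hc (mem_cent1_self t))
    have h8 := h.le_Op' (hn.ne_two hM hc h3) hc hN.1 (hc' (mem_cent1_self t)) (Zc_le _)
      (ha.Zc_Op_le q) h7 (commutator_eq_of_inf_eq_bot h.t2 h7 (odd_of_le (hn.odd_Op hM hc) (Zc_le _))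
        (eq_bot_iff.2 (h4 ▸ inf_le_inf_right _ (Zc_le _))))
    rw [← Op_inf_eq_bot ha (hn.fs hM hc) h6, eq_comm, inf_eq_left]
    exact ((Op_le_cent_Op (fun e : r = q => h3 (e ▸ h6)) N).trans (cent_anti h8)).trans
      (h.smp.cent_Zc_le hM h3)
  · obtain ⟨M, hM, hc⟩ := (eq_top_or_exists_le_coatom _).resolve_left h.cent_ne_top
    refine ⟨M, h.opt_of_pi hn hM hc fun N hN hc' ha r hr h5 h6 => h2 ⟨N, r, hN, hc', hr, h5, ?_⟩⟩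
    have := Fact.mk hr
    exact eq_bot_iff.2 (Op_inf_eq_bot ha (hn.fs hM hc) h6 ▸ inf_le_inf_left _ hc)

theorem exists_minY (hM : IsCoatom M) (hc : 𝐂[t] ≤ M) : ∃ p Y, p.Prime ∧ GW.MinY t M p Y := by
  obtain ⟨p, hp, h0⟩ : ∃ p : ℕ, p.Prime ∧ ⁅Op p M, zpowers t⁆ ≠ ⊥ := by
    by_contra! h2
    have h3 := (le_inf (zpowers_le.2 (hc (mem_cent1_self t))) (le_cent_Fit_of_forall fun p hp =>
      commutator_eq_bot_iff'.1 (h2 p hp.out))).trans (hn.fs hM hc)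
    exact h.t1 (mem_bot.1 (hn.Op_two hM hc ▸ le_Op_of_le_Fit (abelem_isPGroup (abelem_zpowers
      (by rw [_root_.sq, h.t2]))) h3 (mem_zpowers t)))
  have := Fact.mk hp
  have hR : 𝐂[t] ≤ 𝐍(zpowers t) := le_norm_of_le_cent (cent_zpowers t).ge
  obtain ⟨Y, k1, ⟨k2, k4⟩, k5⟩ := Core.exists_minimal_le
    (P := fun Y => 𝐂[t] ≤ 𝐍(Y) ∧ ⁅Y, zpowers t⁆ ≠ ⊥) ⟨hc.trans (Op_normal p M).norm, h0⟩
  have hYp : IsPGroup p Y := (Op_isPGroup p M).to_le k1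
  have ho := odd_of_le (hn.odd_Op hM hc) k1
  have ht := zpowers_le.2 (k2 (mem_cent1_self t))
  have k7 : ⁅Y, zpowers t⁆ = Y := k5 _ ⟨le_norm_commutator k2 hR, by
    rwa [coprime_commGid ht (coprime_zp ho h.t2) (.inl (sol_of_odd ho))]⟩ (commutator_le_left' ht)
  have k8 : Y ≠ ⊥ := fun e => k4 (by rw [e, commutator_bot_left])
  refine ⟨p, Y, hp, k1, k2, k8, k7, le_of_forall_isPGroup fun q hq Q hQ hQq => ?_⟩
  refine (le_inf (le_Op_of_le_Fit hQq (hQ.trans inf_le_left)) (hQ.trans inf_le_right)).trans ?_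
  by_cases e : q = p
  · subst e
    have h1 := commutator_lt_of_isPGroup ((Op_isPGroup q M).to_le inf_le_left) hYp
      (inf_le_right.trans k2) k8
    rw [← commutator_eq_bot_iff', ← k7, commutator_comm Y]
    refine three_subgroup (by_contra fun e => h1.ne (k5 _ ⟨le_norm_commutator k2 (le_norm_inf
      (hc.trans (Op_normal q M).norm) (le_norm_self _)), e⟩ h1.le)) ?_
    rw [OO.commutator_eq_bot_iff (B := zpowers t).2 (cent_zpowers t ▸ inf_le_right), commutator_bot_left]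
  · exact inf_le_left.trans ((Op_le_cent_Op e M).trans (cent_anti k1))

variable [Fact p.Prime] (hM : GW.Opt t M) (hY : GW.MinY t M p Y)
include hM hY

omit hn in
theorem norm_Y_le : 𝐍(Y) ≤ M := by
  obtain ⟨N, hN, h1⟩ := h.smp.exists_coatom hY.ne_bot
    fun e => hM.coatom.1 (top_le_iff.1 (e ▸ hY.le.trans (Op_le p M)))
  rwa [hM.eq N hN (hY.norm.trans h1) (arr_of_le (hY.le.trans (Op_le_Fit p M))
    ((le_norm_self Y).trans h1) (inf_le_right.trans ((cent_le_norm Y).trans h1)))] at h1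

theorem ne_two' : p ≠ 2 := hn.ne_two hM.coatom hM.le fun e => hY.ne_bot (eq_bot_iff.2 (e ▸ hY.le))

theorem eq_of_arr (hN : IsCoatom N) (hS : t ∈ N) (hYN : Y ≤ N) (ha : Arr M N) : N = M := by
  have hs := hn.fs hM.coatom hM.le
  have k := fun N (hN : IsCoatom N) hS hYN ha => fs_of_le_Op' (h.le_Op' (h.ne_two' hn hM hY) hM.le
    hN.1 hS hY.le hYN (hY.norm (mem_cent1_self t)) hY.comm)
    ((cent_le_norm Y).trans (h.norm_Y_le hM hY)) hs ha fun e => hY.ne_bot (eq_bot_iff.2 (e ▸ hY.le))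
  obtain e | ⟨q, hq, h1, -⟩ := h.smp.eq_or_char hM.coatom hN hs (k N hN hS hYN ha).1 ha
    (k N hN hS hYN ha).2
  · exact e.symm
  have := Fact.mk hq
  have h2 := le_inf (hY.le.trans (Op_le p M)) hYN
  refine h.eq_of_char hn hM.coatom hM.le h1 (fun e => hY.ne_bot (eq_bot_iff.2 (e ▸ h2))) ha
    (fun N' h3 h4 => ?_) hN
  have h5 := k N' h3 (h4 ⟨hM.le (mem_cent1_self t), hS⟩) (h2.trans h4) (arr_mono ha h4)
  exact isCharIn_of_pi h5.1 h5.2 h1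

theorem norm_le_conj (hp : F4 t e) (hg : g ∈ 𝐍(S4 t e)) (hU : U = ⁅Y ⊓ 𝐂[g * t * g⁻¹], zpowers t⁆)
    (h0 : U ≠ ⊥) :
    U ≤ Y ⊓ 𝐂[g * t * g⁻¹] ∧ ⁅U, zpowers t⁆ = U ∧ S4 t e ≤ 𝐍(U) ∧ 𝐍(U) ≤ g •ᶜ M := by
  have h1 := hM.conj g
  have h2 := hY.conj g
  have h3 := conj_mem_of_norm hg (t_mem_S4 t e)
  have h4 : S4 t e ≤ 𝐂[g * t * g⁻¹] := hp.ab.le_cent.trans (cent_le_cent1 h3)
  have h5 : S4 t e ≤ 𝐍(Y ⊓ 𝐂[g * t * g⁻¹]) := le_norm_inf (hp.le_cent.trans hY.norm) (le_norm_of_le h4)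
  have h6 := zpowers_le.2 (h5 (t_mem_S4 t e))
  have h7 : U ≤ Y ⊓ 𝐂[g * t * g⁻¹] := hU ▸ commutator_le_left' h6
  have ho := odd_of_le (hn.odd_Op hM.coatom hM.le) (inf_le_left.trans hY.le : Y ⊓ 𝐂[g * t * g⁻¹] ≤ _)
  have h8 : ⁅U, zpowers t⁆ = U := hU ▸ comm_zp hp.t2 (h5 (t_mem_S4 t e)) ho
  have h9 : S4 t e ≤ 𝐍(U) := hU ▸ le_norm_commutator h5 (le_norm_of_ab hp.ab le_sup_left)
  have h10 := (h.le_Op' (h.ne_two' hn hM hY) hM.le h1.coatom.1 (h1.le (h4 (t_mem_S4 t e)))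
    (h7.trans (inf_le_left.trans hY.le)) (h7.trans (inf_le_right.trans h1.le)) (h9 (t_mem_S4 t e))
    h8).trans (Op_le_Fit p _)
  obtain ⟨N, hN, h11⟩ := h.smp.exists_coatom h0 fun e => h1.coatom.1 (top_le_iff.1
    (e ▸ h10.trans (Fit_le _)))
  refine ⟨h7, h8, h9, ?_⟩
  rwa [(h.conj g).eq_of_arr (hn.conj g) h1 h2 hN (h11 (h9 h3))
    ((le_norm_of_le_cent (le_cent_symm ((le_inf h10 (h7.trans inf_le_right)).trans h2.cent))).trans h11)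
    (arr_of_le h10 ((le_norm_self U).trans h11) (inf_le_right.trans ((cent_le_norm U).trans h11)))]
    at h11

end Mn

theorem ia : IA.{u} := fun G _ _ a s t h => by
  by_contra! hn
  replace hn : OddC t := hn
  obtain ⟨M, hM⟩ := h.exists_opt hn
  obtain ⟨p, Y, hp, hY⟩ := h.exists_minY hn hM.coatom hM.le
  have := Fact.mk hp
  obtain ⟨e, ρ, hp, r, hr⟩ : ∃ e ρ, F4 t e ∧ Rot t e ρ ∧ ρ ∉ M := by
    obtain ⟨ρ, r⟩ := h.exists_rot h.cf.f4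
    obtain ⟨ρ', r'⟩ := h.exists_rot h.cf.f4'
    by_contra! k
    exact h.not_oc hM.coatom.1 hM.le ((h.cf.mono (h.cf.le_cent.trans hM.le) le_top).oc_of_rot
      (k _ _ h.cf.f4 r) r.ρt (k _ _ h.cf.f4' r') r'.ρt)
  have hS := hp.le_cent.trans hM.le
  have hYF := hY.le.trans (Op_le_Fit p M)
  have hB : ρ •ᶜ M ≠ M := fun k => hr ((h.smp.norm_eq hM.coatom (.refl M)
    fun k => hp.t1 (mem_bot.1 (k ▸ hS (t_mem_S4 t e)))).le (conj_eq_self_iff.1 k))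
  have e1 := r.ρt
  have e2 := r.inv_t hp
  have k1 := fun g hg h0 => h.norm_le_conj hn hM hY hp (g := g) hg rfl h0
  have k2 : ∀ g ∈ 𝐍(S4 t e), ⁅Y ⊓ 𝐂[g * t * g⁻¹], zpowers t⁆ ≠ ⊥ → Arr M (g •ᶜ M) := fun g hg h0 =>
    arr_of_le ((k1 g hg h0).1.trans (inf_le_left.trans hYF)) ((le_norm_self _).trans (k1 g hg h0).2.2.2)
      (inf_le_right.trans ((cent_le_norm _).trans (k1 g hg h0).2.2.2))
  have k3 : ∀ a, ⁅Y ⊓ 𝐂[a], zpowers t⁆ = ⊥ → Y ⊓ 𝐂[a] ≤ Y ⊓ 𝐂[t] := fun a e =>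
    le_inf inf_le_left (comm_eq_bot.1 e)
  have k4 := fun X => hp.le_of_forall (Y := X) (hp.le_cent.trans hY.norm)
    (odd_of_le (hn.odd_Op hM.coatom hM.le) hY.le)
  have k5 : ∀ g ∈ 𝐍(S4 t e), ⁅Y ⊓ 𝐂[g * t * g⁻¹], zpowers t⁆ ≠ ⊥ → Y ⊓ 𝐂[t] ≤ g •ᶜ M ∧
      Y ⊓ 𝐂[g * t * g⁻¹] ≤ g •ᶜ M ∧ (Y ≤ g •ᶜ M → g •ᶜ M = M) := fun g hg h0 =>
    ⟨((inf_le_inf_right _ hYF).trans hY.cent).trans ((cent_anti ((k1 g hg h0).1.trans inf_le_left)).trans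
      ((cent_le_norm _).trans (k1 g hg h0).2.2.2)), inf_le_right.trans (hM.conj g).le, fun k =>
      h.eq_of_arr hn hM hY (hM.conj g).coatom ((k1 g hg h0).2.2.2 ((k1 g hg h0).2.2.1 (t_mem_S4 t e))) k
        (k2 g hg h0)⟩
  have hρ := r.mem_norm
  by_cases c1 : ⁅Y ⊓ 𝐂[ρ * t * ρ⁻¹], zpowers t⁆ = ⊥ <;>
    by_cases c2 : ⁅Y ⊓ 𝐂[ρ⁻¹ * t * ρ⁻¹⁻¹], zpowers t⁆ = ⊥
  · exact hY.ne_bot (hY.comm.symm.trans (comm_eq_bot.2 (k4 _ inf_le_right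
      ((e1 ▸ k3 _ c1).trans inf_le_right) ((e2 ▸ k3 _ c2).trans inf_le_right))))
  · obtain ⟨a1, a2, a3⟩ := k5 _ (inv_mem hρ) c2
    exact hB (conj_eq_iff_eq_inv_conj.2 (a3 (k4 _ a1 ((e1 ▸ k3 _ c1).trans a1) (e2 ▸ a2))).symm)
  · obtain ⟨a1, a2, a3⟩ := k5 _ hρ c1
    exact hB (a3 (k4 _ a1 (e1 ▸ a2) ((e2 ▸ k3 _ c2).trans a1)))
  have a1 := k2 _ hρ c1
  have a2 := arr_conj (k2 _ (inv_mem hρ) c2) ρ
  obtain ⟨a3, a4, a5, a6⟩ := k1 _ hρ c1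
  rw [conj_inv_conj] at a2
  have hM' := hM.conj ρ
  have hs := hn.fs hM.coatom hM.le
  have hs' := (hn.conj ρ).fs hM'.coatom hM'.le
  have hπ : ∀ q : ℕ, q.Prime → Op q (ρ •ᶜ M) ≠ ⊥ → Op q M ≠ ⊥ := fun q _ e e' =>
    e (by rw [Op_conj, e', conj_bot])
  obtain k | ⟨q, hq, h1, h2⟩ := h.smp.eq_or_char hM.coatom hM'.coatom hs hs' a1 hπ
  · exact hB k.symm
  have := Fact.mk hq
  have h3 := le_inf (a3.trans (inf_le_left.trans (hYF.trans (Fit_le M)))) ((le_norm_self _).trans a6)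
  refine hB (h.eq_of_char hn hM.coatom hM.le h1 (fun e => c1 (eq_bot_iff.2 (e ▸ h3))) a1
    (fun N h4 h5 => ?_) hM'.coatom)
  have h6 := fs_of_le_Op' (h.le_Op' (h.ne_two' hn hM hY) hM.le h4.1
    (h5 ((le_inf hS (a5.trans a6)) (t_mem_S4 t e)))
    (a3.trans (inf_le_left.trans hY.le)) (h3.trans h5) (a5 (t_mem_S4 t e)) a4)
    ((cent_le_norm _).trans a6) hs' (arr_mono a2 ((inf_comm _ _).le.trans h5))
    fun e => (hY.conj ρ).ne_bot (eq_bot_iff.2 (e ▸ (hY.conj ρ).le))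
  exact isCharIn_of_pi h6.1 h6.2 h2

end Cfsg.Agent.GW2
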