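import Cfsg.Agent.Lib.GW2.G0

/-!
# The bad case: elementary facts
-/

set_option autoImplicit false
set_option linter.unusedSectionVars false

namespace Cfsg.Agent.GW2

open Subgroup Cfsg.Agent.OO Cfsg.Agent.Coprime GW
open scoped commutatorElement Pointwise

universe u

variable {G : Type u} [Group G] [Finite G] {A D E J P Q R L N T X : Subgroup G}
  {a b c e f g s t u v w x y z ρ : G} {p r : ℕ}

/-- the bad case together with the two results that are used in it -/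
structure Ib (a s t e : G) (p : ℕ) (N L : Subgroup G) : Prop extends Bad a s t e p N L where
  iie : IIE.{u}
  iia : IIA.{u}

theorem ib_Op_normal (r : ℕ) (t : G) : Op r (O 𝐂[t]) ⊴ 𝐂[t] := (Opi_normal _ _ : O 𝐂[t] ⊴ _).Op r

theorem ib_odd (h : A ≤ Op r (O X)) : Odd ♯A := odd_of_le (odd_O _) (h.trans (Op_le _ _))

theorem ib_ne_two (h : Op r (O X) ≠ ⊥) : r ≠ 2 := fun e =>
  h (by rw [e, Op_eq_bot (odd_O _).not_two_dvd_nat])

theorem DH.ib_exists_f4 (h : DH G) (hP : IsPGroup 2 P) (hc : ¬ IsCyclic P) :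
    ∃ x ∈ P, ∃ y ∈ P, F4 x y := by
  obtain ⟨a, ha, H1, -⟩ := h P hP
  obtain ⟨z, hz, z1⟩ := exists_mem_ne_one (Zc_ne_bot (nil_of_isPGroup hP)
    fun e => hc (e ▸ inferInstance))
  obtain ⟨y, hy, y1, y2⟩ := ZG.exists_invol (ZG.not_odd hP hz.1 z1)
  have h2 := zpowers_le.2 hz hy
  by_contra! h3
  have k : ∀ x ∈ P, x ∉ zpowers a → x = y := fun x hx h1 => by_contra fun e' =>
    h3 y h2.1 x hx (f4_of_mem y1 y2 (fun e => h1 (e ▸ one_mem _)) (H1 x hx h1)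
      (le_cent1_iff.2 h2.2 hx) e')
  by_cases h4 : y ∈ zpowers a
  · exact hc (isCyclic_of_le' (B := zpowers a) inferInstance fun x hx => by_contra fun e =>
      e (k x hx e ▸ h4))
  have a1 : a = 1 := by
    simpa using k _ (mul_mem h2.1 ha) (by rwa [mul_mem_cancel_right (mem_zpowers a)])
  refine hc (isCyclic_of_le' (B := zpowers y) inferInstance fun x hx => ?_)
  by_cases e' : x ∈ zpowers a
  · rw [a1, zpowers_one_eq_bot, mem_bot] at e'; exact e' ▸ one_mem _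
  · exact k x hx e' ▸ mem_zpowers x

/-- a subgroup of even order generated by two elements of odd order contains a four-group -/
theorem DH.ib_f4_of_even (h : DH G) (h1 : Odd (orderOf x)) (h2 : Odd (orderOf y))
    (h3 : ¬ Odd ♯(zpowers x ⊔ zpowers y)) :
    ∃ c ∈ zpowers x ⊔ zpowers y, ∃ d ∈ zpowers x ⊔ zpowers y, F4 c d := by
  obtain ⟨P, hP⟩ := exists_syl 2 (zpowers x ⊔ zpowers y)
  by_cases h4 : IsCyclic P
  swap
  · obtain ⟨c, hc, d, hd, q⟩ := h.ib_exists_f4 hP.isPGroup h4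
    exact ⟨c, hP.le hc, d, hP.le hd, q⟩
  have h6 := cyclic_pdiv_normal_complement hP h4 fun q hq _ => hq.two_le
  have h7 := fun K hK e => (h6.hall_left (Op'_piGrp 2 _) hP.piGrp.compl_compl).le_of_normal_hall
    (K := K) h6.normal.norm hK (odd_iff.1 e)
  exact absurd (odd_of_le (odd_O _) (sup_le (h7 _ le_sup_left (by rwa [Nat.card_zpowers]))
    (h7 _ le_sup_right (by rwa [Nat.card_zpowers])))) h3

/-- a frame containing a given 2-subgroup of `C(t)` -/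
theorem Mn.ib_frame (h : Mn a s t) (q : F4 t e) (hT : IsPGroup 2 T) (hc : T ≤ 𝐂[t])
    (h1 : S4 t e ≤ T) : ∃ b, Mn b e t ∧ T ≤ S4 b e := by
  obtain ⟨S, hS, h2⟩ := exists_syl_ge hc hT
  obtain rfl | ⟨b, k, rfl⟩ := h.dh.dih hS.isPGroup hS.le (h2 (h1 (t_mem_S4 _ _)))
    (h2 (h1 (s_mem_S4 _ _))) q
  · have h8 := h.cfC.eight
    rw [← card_mul_relIndex hS.le, q.card] at h8
    exact absurd (Nat.dvd_of_mul_dvd_mul_left (k := 4) (by decide) h8) hS.not_dvd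
  · exact ⟨b, h.of_cf (Cf.of_cent (X := 𝐂[t]) { k with
      a_mem := hS.le k.a_mem, s_mem := hS.le k.s_mem, syl := hS } inf_le_right le_top), h2⟩

theorem ib_le_cent_of_even [Fact p.Prime] (hD : DH G) (q : F4 t e) (r : Rot t e ρ) (ht : t ∈ J)
    (hρ : ρ ∈ J) (he : ∀ R : Subgroup G, IsPGroup p R → ¬ Odd ♯(𝐂(R))) (hX : X ≤ O J)
    (hp : IsPGroup p X) (hn : S4 t e ≤ 𝐍(X)) : X ≤ 𝐂[e] := by
  have h0 := (r.le_of_mem (le_norm_self J hρ) ht).trans (O_norm J)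
  obtain ⟨R, hR, h1, h2⟩ := coprime_Hall_subset h0 (q.coprime (odd_O J)) (sol_of_odd (odd_O J)) hX
    (piGrp_singleton hp) hn
  obtain ⟨T, hT, h3⟩ := exists_syl_ge h1 q.two
  obtain ⟨z, hz, z1⟩ := exists_mem_ne_one (inf_cent_ne_bot_of_nil hT.nil
    ⟨inf_le_left, le_norm_inf (le_norm_self _) (hT.le.trans (norm_le_norm_cent R))⟩
    ((hT.inf_of_norm (cent_le_norm R) (hT.le.trans (norm_le_norm_cent R))).ne_bot
      (even_iff_two_dvd.1 (Nat.not_odd_iff_even.1 (he R hR.syl.isPGroup)))))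
  obtain ⟨g, hg, rfl⟩ := r.exists_conj q (hD.le_four q (ZG.two_zp hT.isPGroup hz.1.1) (zpowers_le.2
    (cent_S4 t e ▸ cent_anti h3 hz.2)) (mem_zpowers z)) z1
  have h4 : ρ * g⁻¹ ∈ zpowers ρ := mul_mem (mem_zpowers ρ) (inv_mem hg)
  obtain ⟨x, hx, e'⟩ := coprime_Hall_trans h0 (q.coprime (odd_O J)) (sol_of_odd (odd_O J)) hR h1
    (conj_eq_of_mem_norm (O_norm J (zpowers_le.2 hρ h4)) ▸ hR.conj (ρ * g⁻¹))
    (conj_eq_of_mem_norm (zpowers_le.2 r.mem_norm h4) ▸ conj_le_norm_conj.2 h1)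
  refine h2.trans (e'.le.trans (conj_le_of_mem_norm (le_norm_self _ (cent_S4 t e ▸ hx.2).2) ?_))
  refine (conj_mono _ (le_cent1_iff.2 hz.1.2)).trans ?_
  rw [← cent1_conj, ← r.ρt]
  simp [mul_assoc]

namespace Ib

variable (h : Ib a s t e p N L)
include h

theorem of_mn (k : Mn b c t) : Ib b c t e p N L := { h with mn := k }

theorem P_ne : Op p (O 𝐂[t]) ≠ ⊥ := fun e' => h.ne_bot (by rw [e', bot_inf_eq])

theorem ne_two : p ≠ 2 := ib_ne_two h.P_ne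

theorem tN : t ∈ N := h.cp.le h.tL

theorem eN : e ∈ N := h.cp.le h.eL

theorem cent_le : 𝐂[t] ⊓ 𝐂[e] ≤ N := (le_norm_inf (inf_le_left.trans (ib_Op_normal p t).norm)
  (le_norm_of_le inf_le_right)).trans h.norm.le

theorem not_L_le : ¬ L ≤ 𝐂[t] := h.cp.not_le_cent h.tL h.mn.t1 h.mn.t2

theorem norm_H (hA : A ⊴ 𝐂[t]) (h0 : A ≠ ⊥) : 𝐍(A) = 𝐂[t] := h.mn.smp.norm_eq h.max hA h0

theorem eq_bot_of_le (hA : A ⊴ 𝐂[t]) (h1 : A ≤ O N) : A = ⊥ := by_contra fun h0 =>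
  h.not_L_le (h.norm_H hA h0 ▸ le_norm_of_le_cent (h.cp.cent.trans (cent_anti h1)))

theorem le_O (hr : r.Prime) (hu : u ∈ N) (q : F4 t u) (h1 : A ≤ Op r (O 𝐂[t])) (h2 : A ≤ N) :
    A ⊓ 𝐂[u] ≤ O N := by
  by_cases h0 : Op r (O 𝐂[t]) = ⊥
  · exact (inf_le_left.trans (h1.trans h0.le)).trans bot_le
  refine le_trans (inf_le_inf_right _ ?_) (h.cp.psl t h.tL u hu q r hr (ib_ne_two h0))
  exact (le_inf (h1.trans (Op_le_of_normal r (Opi_normal _ _))) (le_inf h2 (h1.trans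
    (ib_Op_normal r t).le))).trans (Op_inf_le r inf_le_right)

theorem D_le_O (h1 : A ≤ Op p (O 𝐂[t])) : A ⊓ 𝐂[e] ≤ O N :=
  (le_inf le_rfl inf_le_right).trans (h.le_O h.prime h.eN h.f4 (inf_le_left.trans h1)
    ((inf_le_inf_right _ (h1.trans (ib_Op_normal p t).le)).trans h.cent_le))

theorem inf_eq (h1 : A ≤ Op p (O 𝐂[t])) : A ⊓ 𝐂[e] = A ⊓ O N :=
  le_antisymm (le_inf inf_le_left (h.D_le_O h1)) (inf_le_inf_left _ (h.cp.O_le_cent h.eL))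

theorem le_norm (hA : A ⊴ 𝐂[t]) : N ≤ 𝐍(A ⊓ O N) :=
  (h.cp.isProd h.tL h.mn.t1 h.mn.t2).sup_eq.ge.trans (sup_le (le_norm_of_le_cent
    (h.cp.cent.trans (cent_anti inf_le_right))) (le_norm_inf (inf_le_right.trans hA.norm)
      (inf_le_left.trans (O_norm N))))

theorem norm_eq (hA : A ⊴ 𝐂[t]) (h1 : A ≤ Op p (O 𝐂[t])) (h0 : A ⊓ 𝐂[e] ≠ ⊥) :
    𝐍(A ⊓ 𝐂[e]) = N := h.mn.smp.norm_eq h.coatom ⟨(h.D_le_O h1).trans (Opi_le _ _),
      h.inf_eq h1 ▸ h.le_norm hA⟩ h0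

theorem inf_inner (hf : f ∈ L) (q : F4 t f) : Op p (O 𝐂[t]) ⊓ 𝐂[e] = Op p (O 𝐂[t]) ⊓ 𝐂[f] := by
  have := Fact.mk h.prime
  refine eq_of_nil_of_inf_norm_le (nil_of_isPGroup ((Op_isPGroup p _).to_le inf_le_left))
    (le_inf inf_le_left ((h.D_le_O le_rfl).trans (h.cp.O_le_cent hf))) ?_
  rw [h.norm, h.inf_eq le_rfl, inf_right_comm]
  exact le_inf (inf_le_left.trans inf_le_left) (h.le_O h.prime (h.cp.le hf) q inf_le_left inf_le_right)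

theorem cent_le' (hf : f ∈ L) (q : F4 t f) : 𝐂[t] ⊓ 𝐂[f] ≤ N := by
  rw [← h.norm, h.inf_inner hf q]
  exact le_norm_inf (inf_le_left.trans (ib_Op_normal p t).norm) (le_norm_of_le inf_le_right)

theorem le_N_of_ne (hr : r.Prime) (hrp : r ≠ p) : Op r (O 𝐂[t]) ≤ N := by
  have := Fact.mk h.prime
  have := Fact.mk hr
  exact h.norm ▸ le_norm_of_le_cent ((Op_le_cent_Op hrp _).trans (cent_anti inf_le_left))

theorem Zc_le (hr : r.Prime) : Zc (Op r (O 𝐂[t])) ≤ N := by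
  by_cases e' : r = p
  · exact h.norm ▸ le_norm_of_le_cent (e' ▸ inf_le_right.trans (cent_anti inf_le_left))
  · exact (OO.Zc_le _).trans (h.le_N_of_ne hr e')

theorem not_cent (hr : r.Prime) (hu : u ∈ N) (q : F4 t u) (h0 : Op r (O 𝐂[t]) ≠ ⊥) :
    ¬ Zc (Op r (O 𝐂[t])) ≤ 𝐂[u] := fun e' => by
  have := Fact.mk hr
  exact Zc_ne_bot (Op_nil r _) h0 (h.eq_bot_of_le (ib_Op_normal r t).Zc ((le_inf le_rfl e').trans
    (h.le_O hr hu q (OO.Zc_le _) (h.Zc_le hr))))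

theorem dvd_K (hr : r.Prime) (h0 : Op r (O 𝐂[t]) ≠ ⊥) : r ∣ ♯(KK L t) := by
  have := Fact.mk hr
  by_contra h1
  have hn := (ib_Op_normal r t).Zc
  refine h.not_cent hr h.eN h.f4 h0 (comm_eq_bot.1 (eq_bot_iff.2 ?_))
  rw [← inf_eq_bot_of_coprime_card (coprime_of_isPGroup (Op_isPGroup r (O 𝐂[t]))
    ((piGrp_compl_singleton hr).2 h1))]
  exact le_inf ((commutator_le_left' (zpowers_le.2 (hn.norm h.f4.e_mem))).trans (OO.Zc_le _))
    (h.cp.le_KK h.mn.dh h.tN h.eL h.f4 (le_inf (h.Zc_le hr) hn.le) (ib_odd (OO.Zc_le _)))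

theorem not_dvd_Z : ¬ p ∣ ♯(L ⊓ O N : Subgroup G) := fun e' => h.prime.one_lt.ne'
  (Nat.eq_one_of_dvd_coprimes (h.cp.copZ t h.tL h.mn.t1 h.mn.t2) (h.dvd_K h.prime h.P_ne) e')

theorem ab_inf (hA : A ⊴ 𝐂[t]) (h1 : A ≤ Op p (O 𝐂[t])) (ha : Ab A) : A ⊓ 𝐂[e] = ⊥ :=
  h.iia G a s t e p N L A h.toBad hA h1 ha

/-- CAL -/
theorem cal (hr : r.Prime) (q : F4 t u) (hA : A ⊴ 𝐂[t]) (h1 : A ≤ Op r (O 𝐂[t])) (ha : Ab A)
    (h2 : ¬ Op r (O 𝐂[t]) ≤ 𝐂[u]) : A ⊓ 𝐂[u] = ⊥ := by_contra fun h0 => by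
  obtain ⟨e', N', L', k, h3⟩ := h.iie G a s t u r h.mn h.max q hr
    (fun e' => h0 (eq_bot_iff.2 (e' ▸ inf_le_inf_right _ h1))) h2
  exact h0 (eq_bot_iff.2 (h.iia G a s t e' r N' L' A k hA h1 ha ▸ le_inf inf_le_left
    ((inf_le_inf_right _ h1).trans h3)))

/-- PGL1 -/
theorem pgl1 (hr : r.Prime) (hu : u ∈ N) (uL : u ∉ L) (q : F4 t u) (h0 : Op r (O 𝐂[t]) ≠ ⊥)
    (hD : D ≤ 𝐂[t] ⊓ 𝐂[u]) (hp : IsPGroup r D) : ¬ 𝐂(D) ≤ N := fun h1 => by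
  have := Fact.mk hr
  obtain ⟨ρ, k⟩ := h.mn.exists_rot q
  have hn := ib_Op_normal r t
  have h2 : ρ⁻¹ •ᶜ D ≤ 𝐂[t] ⊓ 𝐂[t * u] := by
    rw [q.cent_mul, conj_le_iff_le_inv_conj, inv_inv, k.conj_cent]; exact hD
  refine h.not_cent hr (mul_mem h.tN hu) q.mul h0 ((OO.Zc_le _).trans (le_cent1_iff.2
    (zpowers_le.1 (thompson_AxB (isPGroup_conj.2 hp) ?_ (cent_zpowers (t * u) ▸ h2.trans inf_le_right)
      (Op_isPGroup r _) ((h2.trans inf_le_left).trans hn.norm)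
      (zpowers_le.2 (hn.norm q.mul.e_mem)) ?_))))
  · rw [Nat.card_zpowers, orderOf_eq_two q.mul_sq q.mul_ne_one, Nat.coprime_two_left]
    exact hr.odd_of_ne_two (ib_ne_two h0)
  obtain ⟨Q, hQ⟩ : ∃ Q, Q = Op r (O 𝐂[t]) ⊓ 𝐂(ρ⁻¹ •ᶜ D) := ⟨_, rfl⟩
  have h3 : ρ •ᶜ Q ≤ N ⊓ 𝐂[u] := by
    rw [hQ, conj_inf, cent_conj, conj_inv_conj, inf_comm, ← k.ρt, cent1_conj]
    exact inf_le_inf h1 (conj_mono _ hn.le)
  have h4 : t ∈ 𝐍(ρ •ᶜ Q) := by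
    rw [norm_conj, mem_conj, ← inv_inv ρ, inv_inv ρ⁻¹, k.inv_t q, hQ]
    exact mem_norm_inf (hn.norm q.mul.e_mem) (norm_le_norm_cent _ (cent_le_norm _
      (le_cent1_iff.1 (h2.trans inf_le_right))))
  have h5 : IsPGroup r (ρ •ᶜ Q : Subgroup G) := isPGroup_conj.2 ((Op_isPGroup r _).to_le (hQ.le.trans inf_le_left))
  have h6 : ρ •ᶜ Q ≤ 𝐂[t] := comm_eq_bot.1 (eq_bot_iff.2 (by
    rw [← inf_eq_bot_of_coprime_card (coprime_of_isPGroup h5 ((piGrp_compl_singleton hr).2 fun e' =>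
      hr.one_lt.ne' (Nat.eq_one_of_dvd_coprimes (h.cp.cop t h.tL u hu uL q).1 (h.dvd_K hr h0) e')))]
    exact le_inf (commutator_le_left' (zpowers_le.2 h4)) (h.cp.le_KK h.mn.dh hu h.tL q.symm h3
      (odd_of_isPGroup (ib_ne_two h0) h5))))
  rw [← hQ, cent_zpowers, ← k.inv_t q, cent1_conj]
  exact conj_le_iff_le_inv_conj.1 h6

end Ib

end Cfsg.Agent.GW2
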