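import Cfsg.Agent.Lib.GW2.IIB1

/-!
# The bad case: an extraspecial normal subgroup of `C(t)`
-/

set_option autoImplicit false
set_option linter.unusedSectionVars false

namespace Cfsg.Agent.GW2

open Subgroup Cfsg.Agent.OO Cfsg.Agent.Coprime GW
open scoped commutatorElement Pointwise

universe u

variable {G : Type u} [Group G] [Finite G] {A D E J P Q R L N T X : Subgroup G}
  {a b c d e f g s t u v w x y z ρ : G} {p r : ℕ}

/-- the bad case with a normal subgroup `E` of `C(t)` as in `GW.Ex` -/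
structure Ix (a s t e : G) (p : ℕ) (N L E : Subgroup G) : Prop extends Ib a s t e p N L where
  ex : Ex t e p E
  hr : ∀ f, F4 t f → ¬ Op p (O 𝐂[t]) ≤ 𝐂[f]

namespace Ix

variable [hp : Fact p.Prime] (h : Ix a s t e p N L E)
include h

theorem isP : IsPGroup p E := (Op_isPGroup p _).to_le h.ex.le

theorem e_norm : e ∈ 𝐍(E) := h.ex.normal.norm h.f4.e_mem

theorem der_inf (q : F4 t f) : der E ⊓ 𝐂[f] = ⊥ :=
  h.cal hp.out q h.ex.normal.der ((der_le E).trans h.ex.le)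
    (ab_iff_le_cent.2 ((der_le E).trans h.ex.cent)) (h.hr f q)

theorem ex_norm : 𝐍(E ⊓ 𝐂[e]) = N := h.norm_eq h.ex.normal h.ex.le h.ex.ne_bot

theorem ex_le_O : E ⊓ 𝐂[e] ≤ O N := h.D_le_O h.ex.le

theorem der_le_K : der E ≤ KK L t := (commutator_eq_of_inf_eq_bot h.f4.e2
  (h.ex.normal.der.norm h.f4.e_mem) (odd_of_le h.ex.odd (der_le E)) h.ex.inf_eq).ge.trans
  (h.cp.le_KK h.mn.dh h.tN h.eL h.f4 (le_inf ((le_norm_of_le_cent (le_cent_symm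
    (inf_le_left.trans h.ex.cent))).trans h.ex_norm.le) h.ex.normal.der.le)
    (odd_of_le h.ex.odd (der_le E)))

theorem cyc : IsCyclic (KK L t) := h.cp.cyc t h.tN h.mn.t1 h.mn.t2

theorem card_der : ♯(der E) = p := by
  have h1 := isCyclic_of_le' h.cyc h.der_le_K
  rw [← Ohm_eq_self (A := der E) ⟨ab_of_isCyclic h1, fun x hx => h.ex.pow x (der_le E hx)⟩]
  exact (isEp_Ohm_of_isCyclic h1 (dvd_card_of_isPGroup (h.isP.to_le (der_le E))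
    fun e' => h.ex.ne_bot (h.ab_inf h.ex.normal h.ex.le (ab_iff_der.2 e')))).card_one

theorem der_ne : der E ≠ ⊥ := ne_bot_of_prime_dvd hp.out h.card_der.symm.dvd

theorem cent_le_H (hv : v ∈ der E) (hv1 : v ≠ 1) : 𝐂[v] ≤ 𝐂[t] := by
  rw [← h.norm_H h.ex.normal.der h.der_ne, ← eq_zpowers_of_prime (h.card_der ▸ hp.out) hv hv1,
    ← cent_zpowers]
  exact cent_le_norm _

theorem eq_of_cent (hv : v ∈ der E) (hv1 : v ≠ 1) (hc : c ∈ 𝐂[v]) (c1 : c ≠ 1) (c2 : c * c = 1) :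
    c = t := by_contra fun e' => hv1 (mem_bot.1 ((h.der_inf (f4_of_mem h.mn.t1 h.mn.t2 c1 c2
      (h.cent_le_H hv hv1 hc) e')).le ⟨hv, mem_cent1_comm.1 hc⟩))

theorem not_odd_cent (hR : IsPGroup p R) : ¬ Odd ♯(𝐂(R)) := by
  obtain ⟨P, hP⟩ := exists_syl p 𝐂[t]
  obtain ⟨v, hv, hv1⟩ := exists_mem_ne_one h.der_ne
  have h3 := hP.le_of_normal h.ex.normal.der (h.isP.to_le (der_le E)) hv
  have h4 : Syl p P ⊤ := IsSylowIn.of_syl_norm le_top (hP.mono (le_inf le_top (le_norm_self P))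
    fun g hg => mem_cent1_iff_conj.2 (h.eq_of_cent hv hv1 (mem_cent1_comm.1 (by
      rw [cent1_conj, mem_conj]; exact hP.le (conj_mem_of_norm' hg.2 h3)))
      (conj_ne_one.2 h.mn.t1) (conj_sq h.mn.t2 g)))
  obtain ⟨g, -, e'⟩ := h4.exists_conj_le le_top hR
  refine fun e'' => not_mem_of_odd e'' (conj_ne_one.2 h.mn.t1) (conj_sq h.mn.t2 g⁻¹)
    (le_cent1_iff.1 ?_)
  rw [cent1_conj]
  exact conj_le_iff_le_inv_conj.1 (e'.trans hP.le)

theorem comm_inf : ⁅E, zpowers e⁆ ⊓ 𝐂[e] = ⊥ := eq_bot_iff.2 (h.ex.inf_eq ▸ le_inf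
  (commutator_inf_le_der h.f4.e2 h.e_norm h.ex.odd) inf_le_right)

theorem comm_le : ⁅E, zpowers e⁆ ≤ E := commutator_le_left' (zpowers_le.2 h.e_norm)

theorem L_le (hw : w ∈ E ⊓ 𝐂[e]) : L ≤ 𝐂[w] := h.cp.cent.trans (cent_le_cent1 (h.ex_le_O hw))

theorem comm_inf_le (hw : w ∈ E ⊓ 𝐂[e]) (h1 : w ≠ 1) : ⁅E, zpowers e⁆ ⊓ 𝐂[w] = der E := by
  have hL := h.L_le hw
  have hV : S4 t e ≤ 𝐂[w] := S4_le.2 ⟨hL h.tL, hL h.eL⟩
  obtain ⟨ρ, hρ, k⟩ := h.cp.rot t h.tL e h.eL h.f4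
  obtain ⟨Q, hQ⟩ : ∃ Q, Q = ⁅E, zpowers e⁆ ⊓ 𝐂[w] := ⟨_, rfl⟩
  have h2 : Q ≤ E := hQ.le.trans (inf_le_left.trans h.comm_le)
  have h3 : Q ⊓ 𝐂[e] = ⊥ := eq_bot_iff.2 (h.comm_inf ▸ inf_le_inf_right _ (hQ.le.trans inf_le_left))
  have h4 : S4 t e ≤ 𝐍(Q) := hQ ▸ le_norm_inf (le_norm_commutator (h.f4.le_cent.trans h.ex.normal.norm)
    (le_norm_of_ab h.f4.ab le_sup_right)) (le_norm_of_le hV)
  have h5 := h.mn.kf.k2 _ (h.mn.cent1_ne_top h1) t (hL h.tL) e (hL h.eL) h.f4 Q (le_inf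
    (hQ.le.trans inf_le_right) (h2.trans h.ex.normal.le)) (odd_of_le h.ex.odd h2)
    (commutator_eq_of_inf_eq_bot h.f4.e2 (h4 (s_mem_S4 t e)) (odd_of_le h.ex.odd h2) h3)
    (eq_bot_iff.2 (h3 ▸ le_inf inf_le_right (ib_le_cent_of_even h.mn.dh h.f4 k (hL h.tL) (hL hρ)
      (fun R => h.not_odd_cent) inf_le_left (h.isP.to_le (inf_le_right.trans h2))
      (le_norm_inf (hV.trans (O_norm _)) h4))))
  rw [← hQ, ← Ohm_eq_self (A := Q) ⟨ab_of_isCyclic h5, fun x hx => h.ex.pow x (h2 hx)⟩]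
  refine (IsEp.eq_Ohm_of_isCyclic (isEp_one_iff.2 ⟨hQ ▸ le_inf ?_ (le_cent1_iff.2 (h.ex.cent hw.1)),
    h.card_der⟩) h5).symm
  exact (commutator_eq_of_inf_eq_bot h.f4.e2 (h.ex.normal.der.norm h.f4.e_mem)
    (odd_of_le h.ex.odd (der_le E)) h.ex.inf_eq).ge.trans (commutator_mono (der_le E) le_rfl)

theorem ex_sup : ⁅E, zpowers e⁆ ⊔ E ⊓ 𝐂[e] = E := sup_zp h.f4.e2 h.e_norm h.ex.odd

theorem exists_not_mem : ∃ x ∈ ⁅E, zpowers e⁆, x ∉ der E := SetLike.not_le_iff_exists.1 fun h1 => by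
  have h2 : Ab (E ⊓ 𝐂[e]) := ab_iff_der.2 (eq_bot_iff.2 (h.ex.inf_eq ▸ le_inf (der_mono inf_le_left)
    ((der_le _).trans inf_le_right)))
  have h3 := h1.trans (le_cent_symm h.ex.cent)
  exact h.ex.ne_bot (h.ab_inf h.ex.normal h.ex.le (h.ex_sup ▸ ab_sup
    (ab_iff_le_cent.2 (h3.trans (cent_anti h.comm_le))) h2 (h3.trans (cent_anti inf_le_left))))

theorem card_inf : ♯(E ⊓ 𝐂[e]) = p := by
  obtain ⟨x, hx, h1⟩ := h.exists_not_mem
  have h2 := card_inf_mul_relIndex 𝐂[x] (E ⊓ 𝐂[e])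
  have h3 := (relIndex_cent_le (w := x) fun g (hg : g ∈ E ⊓ 𝐂[e]) => commutator_mem_commutator hg.1
    (h.comm_le hx)).trans h.card_der.le
  rw [show 𝐂[x] ⊓ (E ⊓ 𝐂[e]) = ⊥ from eq_bot_iff.2 fun w hw => by_contra fun w1 =>
    h1 ((h.comm_inf_le hw.2 w1).le ⟨hx, mem_cent1_comm.1 hw.1⟩), card_bot, one_mul] at h2
  exact le_antisymm (h2 ▸ h3) (Nat.le_of_dvd (card_pos' _) (dvd_card_of_isPGroup
    (h.isP.to_le inf_le_left) h.ex.ne_bot))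

theorem ncard_classSupp : (classSupp (sharp (E ⊓ 𝐂[e])) 𝐂[t]).ncard = (p - 1) * N.relIndex 𝐂[t] := by
  rw [(normedTI_sharp_of_inf_conj (L := N ⊓ 𝐂[t]) h.ex.ne_bot inf_le_right
    (inf_le_left.trans h.ex_norm.ge) fun g hg e' => ⟨h.ex_norm.le (conj_eq_self_iff.1
      (eq_of_le_of_card_le (le_of_prime_of_inf_ne_bot (h.card_inf ▸ hp.out) e')
        (card_conj g _).le).symm), hg⟩).ncard_classSupp, ncard_sharp, h.card_inf, inf_relIndex_right]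

theorem relIndex_le : N.relIndex 𝐂[t] ≤ p * (p + 1) := by
  obtain ⟨w, hw, w1⟩ := exists_mem_ne_one h.ex.ne_bot
  have h2 := card_inf_mul_relIndex 𝐂[w] ⁅E, zpowers e⁆
  have h3 := (relIndex_cent_le (w := w) fun g (hg : g ∈ ⁅E, zpowers e⁆) =>
    commutator_mem_commutator (h.comm_le hg) hw.1).trans h.card_der.le
  have h4 := Nat.le_of_dvd (Nat.mul_pos (card_pos' _) (card_pos' _)) (card_sup_dvd (A := ⁅E, zpowers e⁆)
    (B := E ⊓ 𝐂[e]) (.inr (inf_le_left.trans (le_norm_commutator_left _ _))))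
  rw [inf_comm, h.comm_inf_le hw w1, h.card_der] at h2
  rw [h.ex_sup, h.card_inf, ← h2] at h4
  have h5 := Set.ncard_le_ncard (s := classSupp (sharp (E ⊓ 𝐂[e])) 𝐂[t]) (t := E \ der E)
    (classSupp_subset_of_conj (fun x hx => ⟨hx.1.1, fun e' => hx.2 (mem_bot.1
      (h.ex.inf_eq.le ⟨e', hx.1.2⟩))⟩) fun g hg b hb => ⟨h.ex.normal.conj_mem hg hb.1, fun e' =>
        hb.2 ((mem_norm_iff.1 (h.ex.normal.der.norm hg) b).2 e')⟩)
  rw [h.ncard_classSupp, Set.ncard_sdiff (der_le E)] at h5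
  refine Nat.le_of_mul_le_mul_left (h5.trans ?_) (Nat.sub_pos_of_lt hp.out.one_lt)
  change ♯E - ♯(der E) ≤ _
  rw [h.card_der, ← mul_assoc, mul_comm _ p, mul_assoc, mul_comm (p - 1), ← mul_self_tsub_one,
    Nat.mul_sub_one]
  exact Nat.sub_le_sub_right (h4.trans (by rw [mul_assoc]; gcongr)) _

theorem exists_conj (hw : w ∈ E ⊓ 𝐂[e]) (h1 : w ≠ 1) (hv : v ∈ der E) :
    ∃ g ∈ E, g * w * g⁻¹ = w * v := by
  obtain ⟨x, hx, h2⟩ := h.exists_not_mem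
  have h3 := h.comm_le hx
  have h4 : ⁅w⁻¹, x⁆ ∈ der E := commutator_mem_commutator (inv_mem hw.1) h3
  rw [← eq_zpowers_of_prime (h.card_der ▸ hp.out) h4 fun e' => h2 ((h.comm_inf_le hw h1).le
    ⟨hx, mem_cent1.2 (Commute.inv_left_iff.1 (commutatorElement_eq_one_iff_commute.1 e')).symm⟩),
    ← mem_powers_iff_mem_zpowers] at hv
  obtain ⟨n, rfl⟩ := hv
  induction n with
  | zero => exact ⟨1, one_mem _, by simp⟩
  | succ n ih =>
    obtain ⟨g, hg, h5⟩ := ih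
    refine ⟨g * x, mul_mem hg h3, ?_⟩
    have h6 := mem_cent_iff_conj.1 (h.ex.cent hg) _ h4
    dsimp only at h5 ⊢
    rw [pow_succ, ← mul_assoc, ← h5, ← h6, commutatorElement_def]
    group

theorem not_E_le : ¬ E ≤ N := fun h0 => by
  obtain ⟨w, hw, w1⟩ := exists_mem_ne_one h.ex.ne_bot
  obtain ⟨v, hv, v1⟩ := exists_mem_ne_one h.der_ne
  obtain ⟨g, hg, e'⟩ := h.exists_conj hw w1 hv
  have h1 := conj_mem_of_norm (h.ex_norm.ge (h0 hg)) hw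
  rw [e', mul_mem_cancel_left hw] at h1
  exact v1 (mem_bot.1 (h.ex.inf_eq.le ⟨hv, h1.2⟩))

/-- a subgroup that centralizes `E'` and `C_E(e)` -/
theorem comm_le_W (h1 : Q ≤ 𝐍(E)) (h2 : Q ≤ 𝐂(E ⊓ 𝐂[e] ⊔ der E)) : ⁅Q, E⁆ ≤ E ⊓ 𝐂[e] ⊔ der E := by
  obtain ⟨w, hw, w1⟩ := exists_mem_ne_one h.ex.ne_bot
  have h3 : ⁅⁅Q, E⁆, E ⊓ 𝐂[e]⁆ = ⊥ := by
    refine three_subgroup (eq_bot_iff.2 ((commutator_mono (commutator_mono le_rfl inf_le_left)
      le_rfl).trans (OO.commutator_eq_bot_iff.2 (le_cent_symm (h2.trans (cent_anti le_sup_right)))).le)) ?_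
    rw [OO.commutator_eq_bot_iff.2 (le_cent_symm (h2.trans (cent_anti le_sup_left))),
      commutator_bot_left]
  have h4 : IsProd ⁅E, zpowers e⁆ (E ⊓ 𝐂[e]) E := by
    nth_rewrite 3 [← h.ex_sup]
    exact IsProd.of_norm (.inr (inf_le_left.trans (le_norm_commutator_left _ _)))
  have h5 := (h4.inf_of_right_le (H := 𝐂[w]) (by
    rw [← eq_zpowers_of_prime (h.card_inf ▸ hp.out) hw w1]
    exact zpowers_le.2 (mem_cent1_self w))).sup_eq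
  rw [h.comm_inf_le hw w1, sup_comm] at h5
  exact h5.ge.trans' (le_inf (commutator_le_right' h1)
    ((OO.commutator_eq_bot_iff.1 h3).trans (cent_le_cent1 hw)))

end Ix

end Cfsg.Agent.GW2
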