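import Cfsg.Agent.Lib.GW2.IIB2

/-!
# The bad case: no outer reflections
-/

set_option autoImplicit false
set_option linter.unusedSectionVars false

namespace Cfsg.Agent.GW2

open Subgroup Cfsg.Agent.OO Cfsg.Agent.Coprime GW
open scoped commutatorElement Pointwise

universe u

variable {G : Type u} [Group G] [Finite G] {A D E J K P Q R L N T X : Subgroup G}
  {a b c d e f g s t u v w x y z ρ : G} {p r : ℕ}

theorem ib_le_relIndex [hp : Fact p.Prime] (hE : IsPGroup p E) (h : ¬ E ≤ X) : p ≤ X.relIndex E := by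
  obtain ⟨n, hn⟩ := hE.index (X.subgroupOf E)
  rw [← relIndex_eq_one] at h
  rw [relIndex, hn] at h ⊢
  exact Nat.le_self_pow (fun e => h (by rw [e, pow_zero])) p

namespace Ib

variable (h : Ib a s t e p N L)
include h

theorem exists_out (hu : u ∈ N) (uL : u ∉ L) (q : F4 t u) :
    ∃ u b, u ∈ N ∧ u ∉ L ∧ F4 t u ∧ Mn b e t ∧ u ∈ S4 b e := by
  obtain ⟨T, hT, h1⟩ := exists_syl_ge (le_inf (S4_le.2 ⟨h.tN, h.eN⟩) h.f4.le_cent) h.f4.two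
  obtain ⟨g, hg, h2⟩ := hT.exists_conj_le (zpowers_le.2 ⟨hu, q.e_mem⟩) (ZG.two_elt q.e2)
  obtain ⟨b, k, h3⟩ := h.mn.ib_frame h.f4 hT.isPGroup (hT.le.trans inf_le_right) h1
  have h4 := h2 (conj_mem_conj (mem_zpowers u))
  exact ⟨_, b, (hT.le h4).1, fun e' => uL ((mem_norm_iff.1 (h.cp.normal.norm hg.1) u).2 e'),
    q.conj_cent hg.2, k, h3 h4⟩

theorem mem_cent_of_refl (k : Mn b e t) (q : F4 t f) (h1 : Op p (O 𝐂[t]) ≤ 𝐂[f]) :
    Op p (O 𝐂[t]) ≤ 𝐂[b * e] := by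
  obtain ⟨g, hg, h2⟩ := k.cls q
  have h3 : Op p (O 𝐂[t]) ≤ 𝐂[g * f * g⁻¹] := by
    rw [cent1_conj, ← conj_eq_of_mem_norm ((ib_Op_normal p t).norm hg)]
    exact conj_mono g h1
  exact (h2.resolve_left fun e' => h.not_le (e' ▸ h3)) ▸ h3

theorem hr_out (k : Mn b e t) (hu : u ∈ N) (uL : u ∉ L) (q : F4 t u) (uS : u ∈ S4 b e) :
    ∀ f, F4 t f → ¬ Op p (O 𝐂[t]) ≤ 𝐂[f] := fun f q' h1 => by
  have := Fact.mk h.prime
  have h2 := le_cent1_iff.1 (h.mem_cent_of_refl k q' h1)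
  have h3 : S4 b e ≤ zpowers e ⊔ 𝐂(Op p (O 𝐂[t])) := S4_le.2 ⟨(mul_mem_cancel_right
    (mem_sup_left (mem_zpowers e))).1 (mem_sup_right h2), mem_sup_left (mem_zpowers e)⟩
  obtain ⟨y, hy, c, hc, rfl⟩ := (mem_sup_norm_right (zpowers_le.2 (norm_le_norm_cent _
    ((ib_Op_normal p t).norm h.f4.e_mem)))).1 (h3 uS)
  rcases (mem_zp h.f4.e2).1 hy with rfl | rfl
  · exact h.not_cent h.prime hu q h.P_ne ((OO.Zc_le _).trans (le_cent1_iff.2 (by rwa [one_mul])))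
  refine h.pgl1 h.prime hu uL q h.P_ne (le_inf (inf_le_left.trans (ib_Op_normal p t).le)
    (le_cent1_iff.2 (mul_mem (le_cent1_iff.1 inf_le_right) (cent_anti inf_le_left hc))))
    ((Op_isPGroup p _).to_le inf_le_left) ((cent_le_norm _).trans h.norm.le)

theorem inf_bot (hr : r.Prime) (hrp : r ≠ p) (hu : u ∈ N) (q : F4 t u) :
    Op r (O 𝐂[t]) ⊓ 𝐂[u] = ⊥ := by
  have := Fact.mk hr
  by_cases h0 : Op r (O 𝐂[t]) = ⊥
  · rw [h0, bot_inf_eq]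
  have hn := ib_Op_normal r t
  have h1 := h.cal hr h.f4 hn.Zc (OO.Zc_le _) (Zc_ab _) fun e' =>
    h.not_cent hr h.eN h.f4 h0 ((OO.Zc_le _).trans e')
  have h2 : Op r (O 𝐂[t]) ⊓ O N = ⊥ := by_contra fun e' => inf_Zc_ne_bot (Op_nil r _)
    ⟨inf_le_left, (h.le_N_of_ne hr hrp).trans (h.le_norm hn)⟩ e' (eq_bot_iff.2 (h1 ▸ le_inf inf_le_right
      (inf_le_left.trans (inf_le_right.trans (h.cp.O_le_cent h.eL)))))
  exact eq_bot_iff.2 (h2 ▸ le_inf inf_le_left (h.le_O hr hu q le_rfl (h.le_N_of_ne hr hrp)))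

/-- there are no outer reflections in `N` -/
theorem mem_L (hu : u ∈ N) (q : F4 t u) : u ∈ L := by
  by_contra uL
  obtain ⟨u, b, hu, uL, q, k, uS⟩ := h.exists_out hu uL q
  have hr := h.hr_out k hu uL q uS
  have hp := Fact.mk h.prime
  obtain ⟨ρ, r⟩ := h.mn.exists_rot q
  obtain ⟨c1, c2, c3⟩ := h.cp.cop t h.tL u hu uL q
  have tu := mul_mem h.tN hu
  obtain ⟨K, hK⟩ : ∃ K, K = ρ⁻¹ •ᶜ KK L u := ⟨_, rfl⟩
  have k0 : ♯K = ♯(KK L u) := hK ▸ card_conj _ _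
  have ko : Odd ♯K := k0 ▸ odd_KK L u
  have k1 : K ≤ O 𝐂[t] := h.mn.le_U (by
    rw [hK, ← r.inv_e, cent1_conj]; exact conj_mono _ ((KK_le' L u).trans inf_le_right)) ko
  have k2 : u ∈ 𝐍(K) := by
    rw [hK, norm_conj]
    nth_rewrite 2 [← r.inv_te]
    exact conj_mem_conj (h.cp.norm_KK u ⟨tu, q.rot.e_mem⟩)
  have k3 : K ⊓ 𝐂[u] = ⊥ := by
    rw [hK]
    nth_rewrite 2 [← r.inv_te]
    rw [cent1_conj, ← conj_inf, h.cp.inv u hu _ tu q.rot, conj_bot]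
  have k4 : ∀ A Q, Q ≤ K → u ∈ 𝐍(Q) → Q ≤ 𝐍(A) → u ∈ 𝐍(A) → A ⊓ 𝐂[u] = ⊥ → Q ≤ 𝐂(A) :=
    fun A Q h1 h2 h3 h4 h5 => (commutator_eq_of_inf_eq_bot q.e2 h2 (odd_of_le ko h1)
      (eq_bot_iff.2 (k3 ▸ inf_le_inf_right _ h1))).ge.trans (commutator_le_cent q.e2 h3 h4 h5)
  have k5 : ∀ r : ℕ, r.Prime → Op r (O 𝐂[t]) ≠ ⊥ → ¬ r ∣ ♯K := fun r hr h0 e' =>
    hr.one_lt.ne' (Nat.eq_one_of_dvd_coprimes c1 (h.dvd_K hr h0) (k0 ▸ e'))
  have kH := k1.trans (Opi_le _ _)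
  have k6 : K ⊓ 𝐂(Op p (O 𝐂[t])) = ⊥ := by_contra fun e' => by
    obtain ⟨r, hr, e''⟩ := exists_prime_dvd e'
    have := Fact.mk hr
    obtain ⟨x, hx, e3⟩ := cauchy hr e''
    have h1 : K ⊓ 𝐂(Op p (O 𝐂[t])) ≤ Fit (O 𝐂[t]) := (le_inf (inf_le_left.trans k1)
      (le_cent_Fit_of_forall fun r hr => by
        by_cases e4 : r = p
        · exact e4 ▸ inf_le_right
        · exact inf_le_left.trans (k4 _ _ le_rfl k2 (kH.trans (ib_Op_normal r t).norm)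
            ((ib_Op_normal r t).norm q.e_mem) (h.inf_bot hr.out e4 hu q)))).trans
      (cent_sub_Fitting (sol_of_odd (odd_O _)))
    refine k5 r hr (fun e4 => ?_) (e''.trans (card_dvd inf_le_left))
    have h2 := le_Op_of_le_Fit (isEp_zpowers hx e3).isPGroup (zpowers_le.2 (h1 hx)) (mem_zpowers x)
    rw [e4, mem_bot] at h2
    rw [h2, orderOf_one] at e3
    exact hr.one_lt.ne e3
  obtain ⟨E, e1, -, e2, -, e3, e4, e5⟩ := critical_odd (Op_isPGroup p (O 𝐂[t])) (ib_odd le_rfl) h.P_ne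
  have eH : E ⊴ 𝐂[t] := ⟨e1.trans (ib_Op_normal p t).le, (ib_Op_normal p t).norm.trans e2⟩
  have k7 : ∀ Q ≤ K, Q ≤ 𝐂(E) → Q = ⊥ := fun Q h1 h2 => eq_bot_iff.2 (k6 ▸ le_inf h1 fun x hx =>
    e5 x ((ib_Op_normal p t).norm (kH (h1 hx))) (((Nat.Prime.coprime_iff_not_dvd h.prime).2
      fun e' => k5 p h.prime h.P_ne (e'.trans (OO.orderOf_dvd_card (h1 hx)))).symm) (h2 hx))
  have e6 : E ≤ 𝐂(der E) := le_cent_symm (e3.trans inf_le_right)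
  have x : Ix a s t e p N L E := { h with
    hr := hr
    ex := ⟨eH, e1, fun e' => c2 (conj_eq_bot_iff.1 (hK ▸ k7 K le_rfl (k4 _ _ le_rfl k2
        (kH.trans eH.norm) (eH.norm q.e_mem) (h.cal h.prime q eH e1 (ab_of_inf_eq_bot h.f4.e2
          (eH.norm h.f4.e_mem) e') (hr u q))))),
      h.ab_inf eH.der ((der_le E).trans e1) (ab_iff_le_cent.2 ((der_le E).trans e6)), e6,
      fun x hx => e4 ▸ congrArg Subtype.val (Monoid.pow_exponent_eq_one (⟨x, hx⟩ : E))⟩ }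
  obtain ⟨W, hW⟩ : ∃ W, W = E ⊓ 𝐂[e] ⊔ der E := ⟨_, rfl⟩
  have w1 : N ⊓ 𝐂[t] ≤ 𝐍(W) := hW ▸ le_norm_sup (inf_le_left.trans x.ex_norm.ge)
    (inf_le_right.trans eH.der.norm)
  have w2 : W ≤ E := hW ▸ sup_le inf_le_left (der_le E)
  have w3 : E ≤ 𝐍(W) := le_norm_of_der_le (hW ▸ le_sup_right) w2
  have w4 : E ⊓ 𝐂[e] ⊓ 𝐂[u] = ⊥ := inf_eq_bot_of_prime (x.card_inf ▸ h.prime) fun e' =>
    h.pgl1 h.prime hu uL q h.P_ne (le_inf (inf_le_left.trans eH.le) e') (x.isP.to_le inf_le_left)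
      ((cent_le_norm _).trans x.ex_norm.le)
  have w5 : W ⊓ 𝐂[u] = ⊥ := eq_bot_iff.2 fun y hy => by
    obtain ⟨c, hc, d, hd, rfl⟩ := (mem_sup_norm_right (inf_le_left.trans (der_normal E).norm)).1
      (hW.le hy.1)
    have h1 := mem_cent1_iff_conj.1 (mem_cent1_comm.1 hy.2)
    rw [cj_mul, conj_eq_inv q.e2 (x.ex_norm.ge hu) w4 hc, conj_eq_inv q.e2 (eH.der.norm q.e_mem)
      (x.der_inf q) hd, ← mul_inv_rev, (mem_cent_iff.1 (e6 hc.1) d hd), inv_eq_iff_mul_eq_one] at h1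
    exact mem_bot.2 (eq_one_of_odd_of_sq (odd_of_mem x.ex.odd (w2 hy.1)) h1)
  have w6 : K ⊓ 𝐍(W) = ⊥ := by
    have uW := w1 ⟨hu, q.e_mem⟩
    have h1 := k4 W (K ⊓ 𝐍(W)) inf_le_left (mem_norm_inf k2 (le_norm_self _ uW)) inf_le_right uW w5
    have h2 := (inf_le_left.trans kH : K ⊓ 𝐍(W) ≤ _).trans eH.norm
    have h3 := coprime_commGid h2 (coprime_of_isPGroup x.isP ((piGrp_compl_singleton h.prime).2
      fun e' => k5 p h.prime h.P_ne (e'.trans (card_dvd inf_le_left)))) (.inl (sol_of_odd x.ex.odd))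
    refine k7 _ inf_le_left (commutator_eq_bot_iff'.1 (h3.symm.trans (OO.commutator_eq_bot_iff.2 ?_)))
    rw [commutator_comm]
    exact (x.comm_le_W h2 (hW ▸ h1)).trans (hW ▸ le_cent_symm h1)
  have n1 := relIndex_mul_relIndex (N ⊓ 𝐂[t]) (𝐍(W) ⊓ 𝐂[t]) 𝐂[t] (le_inf w1 inf_le_right) inf_le_right
  have n2 := (ib_le_relIndex x.isP (X := N ⊓ 𝐂[t]) fun e' => x.not_E_le (e'.trans inf_le_left)).trans
    (relIndex_le_of_le_right (le_inf w3 eH.le) (relIndex_pos _ _).ne')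
  have n3 := relIndex_le_of_le_right (H := 𝐍(W)) kH (relIndex_pos _ _).ne'
  have n4 := card_inf_mul_relIndex 𝐍(W) K
  have n5 := x.relIndex_le
  have n6 := Nat.le_of_dvd (card_pos' _) (h.dvd_K h.prime h.P_ne)
  rw [inf_comm, w6, card_bot, one_mul, k0] at n4
  rw [inf_relIndex_right, inf_relIndex_right] at n1
  have n7 := Nat.le_of_mul_le_mul_left ((Nat.mul_le_mul n2 (n4.ge.trans n3)).trans (n1.le.trans n5))
    h.prime.pos
  have := h.prime.two_le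
  have := h.ne_two
  omega

end Ib

end Cfsg.Agent.GW2
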