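import Cfsg.Agent.Lib.GW2.G0
import Cfsg.Agent.Lib.GW2.CfB

/-!
# The centralizer of an involution normalizes a four-group: basic facts
-/

set_option autoImplicit false
set_option linter.unusedSectionVars false

namespace Cfsg.Agent.GW2

open Subgroup Cfsg.Agent.OO Cfsg.Agent.Coprime Cfsg.Agent.R1 Cfsg.Agent.Blk GW
open scoped commutatorElement Pointwise

universe u

namespace Iv

variable {G : Type u} [Group G] [Finite G] {X Y Q : Subgroup G} {a b e f g k s t v x y z ρ : G}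

theorem comm_zp_le (f2 : f * f = 1) (h : ∀ b ∈ X, ⁅b, f⁆ ∈ Y) : ⁅X, zpowers f⁆ ≤ Y :=
  commutator_le.2 fun b hb c hc => by
    rcases (mem_zp f2).1 hc with rfl | rfl
    · simp
    · exact h b hb

theorem card_cent (hD : DH G) (p : F4 t e) :
    ♯(𝐂[t] ⊓ 𝐂[e] : Subgroup G) = ♯(O 𝐂[t] ⊓ 𝐂[e] : Subgroup G) * 4 := by
  rw [← ((hD.pair_cent p).sdprod_of_cent inf_le_left).card, p.card, hD.O_inf p.t1 p.t2 le_rfl]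

theorem O_cent_conj (g t : G) : O 𝐂[g * t * g⁻¹] = g •ᶜ O 𝐂[t] := by
  rw [cent1_conj]; exact Opi_conj _ g _

structure St (a s t : G) : Prop where
  mn : Mn a s t
  le : 𝐂[t] ≤ 𝐍(S4 t s)
  max : IsCoatom 𝐍(S4 t s)
  ne : O 𝐂[t] ≠ ⊥

namespace St

variable (h : St a s t)
include h

theorem p1 : F4 t s := h.mn.cf.f4

theorem p2 : F4 t (a * s) := h.mn.cf.f4'

theorem aH : a ∈ 𝐂[t] := h.mn.cf.a_cent

theorem aM : a ∈ 𝐍(S4 t s) := h.le h.aH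

theorem fM : a * s ∈ 𝐍(S4 t s) := h.le h.p2.e_mem

theorem a2 : a * a = t := by
  have h1 := conj_mem_of_norm h.aM (s_mem_S4 t s)
  rw [show a * s * a⁻¹ = a * (s * a⁻¹ * s⁻¹) * s by group, h.mn.cf.inv' (inv_mem (mem_zpowers a)),
    inv_inv, mul_mem_cancel_right (s_mem_S4 t s)] at h1
  exact h.mn.cf.eq_t (mul_mem (mem_zpowers a) (mem_zpowers a)) h.mn.cf.a2 (h.p1.sq h1)

theorem as : a * s * a⁻¹ = t * s :=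
  h.mn.cf.conj_of_sq (mem_zpowers a) h.a2 (s_mem_S4 _ _) h.mn.cf.sa

theorem af : a * (a * s) * a⁻¹ = t * (a * s) :=
  h.mn.cf.conj_of_sq (mem_zpowers a) h.a2 (mul_mem (t_mem_S4 _ _) (s_mem_S4 _ _)) h.mn.cf.as_not

theorem WH : O 𝐂[t] ≤ 𝐂[t] := Opi_le _ _

theorem Ws : O 𝐂[t] ≤ 𝐂[s] := fun _ hx =>
  h.p1.mem_cent_of_odd (h.le (h.WH hx)) (h.WH hx) (odd_of_mem (odd_O _) hx)

theorem WV : O 𝐂[t] ≤ 𝐂(S4 t s) := cent_S4 t s ▸ le_inf h.WH h.Ws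

theorem Wn : O 𝐂[t] ⊴ 𝐍(S4 t s) :=
  ⟨h.WH.trans h.le, fun _ hg => inf_eq_left.2 h.Ws ▸ h.mn.dh.mem_norm_B h.p1 hg⟩

theorem fW : a * s ∈ 𝐍(O 𝐂[t]) := h.Wn.norm h.fM

theorem norm_eq (hY : Y ⊴ 𝐍(S4 t s)) (h0 : Y ≠ ⊥) : 𝐍(Y) = 𝐍(S4 t s) := h.mn.smp.norm_eq h.max hY h0

theorem cardS : ♯(S4 a s) = 8 := by
  rw [h.mn.cf.chCard, orderOf_eq_prime_pow (p := 2) (n := 1) (by rw [pow_one, sq]; exact h.mn.cf.a2)
    (by rw [show 2 ^ (1 + 1) = 2 * 2 by rfl, pow_mul, sq, sq, h.a2, h.mn.t2])]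
  rfl

theorem cardH : ♯𝐂[t] = ♯(O 𝐂[t]) * 8 := by rw [← h.mn.sdprod.card, h.cardS]

theorem k1 : kI ⊤ t s = 2 := by
  have h1 := card_inf_mul_relIndex 𝐂[s] 𝐂[t]
  rw [inf_comm, card_cent h.mn.dh h.p1, inf_eq_left.2 h.Ws, h.cardH] at h1
  have := card_pos' (O 𝐂[t])
  rw [kI, top_inf_eq]
  nlinarith

theorem k2 : kI ⊤ t (a * s) = 2 * (𝐂[a * s]).relIndex (O 𝐂[t]) := by
  have h1 := card_inf_mul_relIndex 𝐂[a * s] 𝐂[t]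
  rw [inf_comm, card_cent h.mn.dh h.p2, h.cardH, ← card_inf_mul_relIndex 𝐂[a * s] (O 𝐂[t]),
    inf_comm] at h1
  have := card_pos' (𝐂[a * s] ⊓ O 𝐂[t])
  rw [kI, top_inf_eq]
  nlinarith

theorem bound : 4 * (𝐂[t]).index ≤ 45 * (1 + (𝐂[a * s]).relIndex (O 𝐂[t])) ^ 2 := by
  have := (h.mn.cf.bounds h.mn.co h.mn.oc).2
  rw [h.k1, h.k2, nI, relIndex_top_right] at this
  nlinarith

theorem idx : (𝐂[t]).relIndex 𝐍(S4 t s) = 3 := by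
  obtain ⟨ρ, r⟩ := h.mn.exists_rot h.p1
  have p := h.p1
  rw [← ncard_conj, Set.ncard_eq_three]
  refine ⟨t, s, t * s, p.ne, p.mul.ne, p.rot.ne, Set.ext fun x => ⟨?_, fun hx => ?_⟩⟩
  · rintro ⟨g, hg, rfl⟩
    exact (p.mem.1 (conj_mem_of_norm hg (t_mem_S4 t s))).resolve_left (conj_ne_one.2 p.t1)
  · have h1 : x ∈ S4 t s := p.mem.2 (.inr hx)
    obtain ⟨g, hg, e⟩ := r.exists_conj p h1 (by
      rcases hx with rfl | rfl | rfl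
      exacts [p.t1, p.e1, p.mul_ne_one])
    exact ⟨g, zpowers_le.2 r.mem_norm hg, e⟩

theorem cardM : ♯𝐍(S4 t s) = ♯(O 𝐂[t]) * 24 := by
  rw [← card_mul_relIndex h.le, h.idx, h.cardH, mul_assoc]; rfl

theorem O_eq (hv : v ∈ S4 t s) (v1 : v ≠ 1) : O 𝐂[v] = O 𝐂[t] := by
  obtain ⟨ρ, r⟩ := h.mn.exists_rot h.p1
  obtain ⟨g, hg, rfl⟩ := r.exists_conj h.p1 hv v1
  rw [O_cent_conj, h.Wn.conj_eq (zpowers_le.2 r.mem_norm hg)]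

theorem aB : a ∈ 𝐂(O 𝐂[t] ⊓ 𝐂[a * s]) := by
  simpa using mul_mem (le_cent1_iff.1 (inf_le_right : O 𝐂[t] ⊓ 𝐂[a * s] ≤ _))
    (inv_mem (le_cent1_iff.1 (inf_le_left.trans h.Ws)))

theorem rot2 : ∃ ρ ∈ 𝐂(O 𝐂[t] ⊓ 𝐂[a * s]), Rot t (a * s) ρ := by
  obtain ⟨ρ, r⟩ := h.mn.exists_rot h.p2
  exact r.exists_mem h.p2 (norm_le_norm_cent _ (h.mn.dh.mem_norm_B h.p2 r.mem_norm)) h.aB h.aH h.af

theorem wd (hY : Y ≤ O 𝐂[t]) (hn : 𝐍(S4 t s) ≤ 𝐍(Y)) (hc : ⁅O 𝐂[t], zpowers (a * s)⁆ ≤ Y) :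
    Y = O 𝐂[t] := by
  obtain ⟨ρ, r⟩ := h.mn.exists_rot h.p1
  obtain ⟨ρ', hρ, r'⟩ := h.rot2
  have h1 : ∀ b ∈ O 𝐂[t], ⁅b, a⁆ ∈ Y := fun b hb => by
    have := hc (commutator_mem_commutator hb (mem_zpowers _))
    rwa [commutatorElement_def, show b * (a * s) * b⁻¹ * (a * s)⁻¹ = b * a * (s * b⁻¹ * s⁻¹) * a⁻¹ by
      group, mem_cent1_iff_conj.1 (mem_cent1_comm.1 (h.Ws (inv_mem hb)))] at this
  refine h.mn.ca G a s t _ ρ' Y h.mn.simple h.mn.cf (r.of_swap h.p1 h.aH h.as) r'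
    ⟨hY, h.Wn.le.trans hn⟩ ((comm_eq_bot.2 h.Ws).le.trans bot_le) hc (fun b hb => ?_) fun b hb => ?_
  · have := mul_mem (h1 b hb.1) (conj_mem_of_norm (hn h.aM) (conj_mem_of_norm (hn r.mem_norm)
      (h1 _ (conj_mem_of_norm' (h.Wn.norm r.mem_norm) hb.1))))
    convert this using 1
    simp only [commutatorElement_def]
    group
  · rw [commutatorElement_eq_one_iff_mul_comm.2 (mem_cent_iff.1 hρ b hb)]
    exact one_mem _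

theorem not_le : ¬ O 𝐂[t] ≤ 𝐂[a * s] := fun e =>
  h.ne (h.wd bot_le (norm_bot (G := G) ▸ le_top) (comm_eq_bot.2 e).le).symm

/-- a normal subgroup of `M` on which `[W, f]` acts trivially -/
theorem le_cent (hn : 𝐍(S4 t s) ≤ 𝐍(Y)) (hc : ⁅O 𝐂[t], zpowers (a * s)⁆ ≤ 𝐂(Y)) : O 𝐂[t] ≤ 𝐂(Y) :=
  inf_eq_left.1 (h.wd inf_le_left (le_norm_inf h.Wn.norm (le_norm_cent hn))
    (le_inf (commutator_le_left' (zpowers_le.2 h.fW)) hc))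

theorem le_cent' (hn : 𝐍(S4 t s) ≤ 𝐍(Y)) (hc : Y ⊓ 𝐂[a * s] = ⊥) : O 𝐂[t] ≤ 𝐂(Y) :=
  h.le_cent hn (commutator_le_cent h.p2.e2 (h.Wn.le.trans hn) (hn h.fM) hc)

theorem not_Fit_le : ¬ Fit (O 𝐂[t]) ≤ 𝐂[a * s] :=
  fun k => h.not_le (le_cent1_iff.2 (coprime_cent_Fitting (zpowers_le.2 h.fW)
    (coprime_zp (odd_O _) h.p2.e2) (sol_of_odd (odd_O _)) ⟨mem_zpowers _, le_cent1_iff.1 k⟩))

theorem S_le (hb : b ∈ O 𝐂[t] ⊓ 𝐂[a * s]) : S4 a s ≤ 𝐂[b] :=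
  S4_le.2 ⟨cent_le_cent1 hb h.aB, mem_cent1_comm.1 (h.Ws hb.1)⟩

theorem OJ_t (hb : b ∈ O 𝐂[t] ⊓ 𝐂[a * s]) : O 𝐂[b] ≤ 𝐂[t] := by
  have p := h.p1
  have k : ∀ v ∈ S4 t s, v ≠ 1 → O 𝐂[b] ⊓ 𝐂[v] ≤ 𝐂[t] := fun v hv e =>
    (h.mn.dh.le_O e (p.sq hv) le_rfl inf_le_right (odd_of_le (odd_O _) inf_le_left)).trans
      ((h.O_eq hv e).le.trans h.WH)
  exact p.le_of_forall ((h.mn.cf.four_le.trans (h.S_le hb)).trans (O_norm _))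
    (odd_O _) inf_le_right (k _ (s_mem_S4 _ _) p.e1)
    (k _ (mul_mem (t_mem_S4 _ _) (s_mem_S4 _ _)) p.mul_ne_one)

theorem OJ_le (hb : b ∈ O 𝐂[t] ⊓ 𝐂[a * s]) : O 𝐂[b] ≤ 𝐂[a * s] := by
  obtain ⟨ρ, hρ, r⟩ := h.rot2
  exact le_cent1_iff.2 (r.le_of_mem (norm_le_norm_cent _ (O_norm _ (cent_le_cent1 hb hρ)))
    (le_cent1_iff.1 (h.OJ_t hb)) (s_mem_S4 _ _))

theorem a7 (hb : b ∈ Fit (O 𝐂[t]) ⊓ 𝐂[a * s]) (b1 : b ≠ 1) :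
    A7 𝐂[b] t ∧ (O 𝐂[b]).relIndex (O 𝐂[t] ⊓ 𝐂[b]) = 3 := by
  have hb' : b ∈ O 𝐂[t] ⊓ 𝐂[a * s] := ⟨Fit_le _ hb.1, hb.2⟩
  have k := h.mn.cf.mono (h.S_le hb') le_top
  have e : O (𝐂[b] ⊓ 𝐂[t]) = O 𝐂[t] ⊓ 𝐂[b] := by rw [inf_comm, h.mn.dh.O_inf h.mn.t1 h.mn.t2 le_rfl]
  have h1 := (h.mn.kf.k5 _ (h.mn.cent1_ne_top b1) t k.isIn s k.s_mem h.p1
    (e ▸ inf_le_left.trans h.Ws)).resolve_left fun e' => h.not_Fit_le (by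
      rw [e] at e'
      refine le_cent1_iff.2 (zpowers_le.1 (coprime_nil_faithful_cent_stab
        (zpowers_le.2 (h.Wn.Fit.norm h.fM)) (coprime_zp (odd_of_le (odd_O _) (Fit_le _)) h.p2.e2)
        (Fit_nil _) ?_))
      rw [cent_zpowers]
      exact le_inf inf_le_left (((inf_le_inf (Fit_le _) (cent_le_cent1 hb)).trans e').trans
        (h.OJ_le hb')))
  exact ⟨h1, e ▸ h1.idx⟩

end St

end Iv

end Cfsg.Agent.GW2
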