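import Cfsg.Agent.Lib.GW2.IV1

/-!
# The centralizer of an involution normalizes a four-group: the odd part is inverted
-/

set_option autoImplicit false
set_option linter.unusedSectionVars false

namespace Cfsg.Agent.GW2

open Subgroup Cfsg.Agent.OO Cfsg.Agent.Coprime Cfsg.Agent.R1 Cfsg.Agent.Blk GW
open scoped commutatorElement Pointwise

universe u

namespace Iv

variable {G : Type u} [Group G] [Finite G] {D P W X Y Z Q : Subgroup G}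
  {a b e f g k s t v x y z ρ : G}

theorem conj_of_inv (e : f * x * f⁻¹ = x⁻¹) : x * f * x⁻¹ = x * x * f := by
  rw [show x * f * x⁻¹ = x * (f * x * f⁻¹)⁻¹ * f by group, e, inv_inv]

/-- two reflections generate a group that fixes a subgroup of index at most 9 -/
theorem refl_cent (hP : IsPGroup 3 P) (hi : D.relIndex P ≤ 3) (hc : ∀ d ∈ D, ⁅f, d⁆ ∈ Z)
    (hZ : ∀ z ∈ Z, z ^ 3 = 1) (hx : x ∈ 𝐍(P)) (hxZ : x ∈ 𝐂(Z)) (e : f * x * f⁻¹ = x⁻¹)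
    (hr : (orderOf x).Prime) (h5 : 5 ≤ orderOf x) : x ∈ 𝐂(P) := by
  have := Fact.mk hr
  have := Fact.mk Nat.prime_three
  have c := mem_cent_iff_conj.1 (mul_mem hxZ hxZ)
  have h1 : D ⊓ x •ᶜ D ≤ 𝐂[x] := fun d hd => by
    have h2 := hc d hd.1
    have h3 := hc _ (mem_conj.1 hd.2)
    have h4 : x * x * d * (x * x)⁻¹ = ⁅f, d⁆⁻¹ * ⁅f, x⁻¹ * d * x⁆ * d := by
      rw [← mem_cent_iff_conj.1 hxZ _ h3, ← c _ (inv_mem h2)]
      simp only [commutatorElement_def]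
      rw [show x * (f * (x⁻¹ * d * x) * f⁻¹ * (x⁻¹ * d * x)⁻¹) * x⁻¹ =
        x * f * x⁻¹ * d * (x * f * x⁻¹)⁻¹ * d⁻¹ by group, conj_of_inv e]
      group
    have h6 := mul_mem (inv_mem h2) h3
    generalize ⁅f, d⁆⁻¹ * ⁅f, x⁻¹ * d * x⁆ = z at h4 h6
    have h7 : x ^ 6 ∈ 𝐂[d] := mem_cent1_iff_conj.2 (by
      rw [show x ^ 6 = x * x * (x * x * (x * x)) by simp only [pow_succ, pow_zero, one_mul, mul_assoc],
        mul_cj (x * x), mul_cj (x * x), h4, cj_mul _ z, c z h6, h4,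
        cj_mul _ z, cj_mul _ z, c z h6, h4, ← mul_assoc, ← mul_assoc, ← pow_three', hZ z h6, one_mul])
    refine mem_cent1_comm.1 (zpowers_le.2 h7 (ZG.mem_zp_pow ?_))
    refine ((Nat.Prime.coprime_iff_not_dvd hr).2 fun e => ?_).symm
    have := Nat.le_of_dvd (by decide) e
    generalize orderOf x = r at *
    interval_cases r
    · omega
    · exact absurd hr (by decide)
  have h2 : (𝐂[x]).relIndex P ≤ 9 := by
    refine (relIndex_le_of_le_left h1 (relIndex_pos _ _).ne').trans (relIndex_inf_le.trans ?_)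
    have := relIndex_conj x D P
    rw [conj_eq_of_mem_norm hx] at this
    rw [this]
    exact Nat.mul_le_mul hi hi
  obtain ⟨n, hn⟩ := IsPGroup.iff_card.1 hP
  obtain ⟨j, -, hj⟩ := (Nat.dvd_prime_pow Nat.prime_three).1 (hn ▸ relIndex_dvd_card 𝐂[x] P)
  have h3 := Coprime.relIndex_centralizer_modEq_one (Core.isPGroup_zpowers_of_orderOf
    (pow_one _).symm) (zpowers_le.2 hx) fun e => by
      have := (Nat.prime_dvd_prime_iff_eq hr Nat.prime_three).1 (hr.dvd_of_dvd_pow (hn ▸ e))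
      omega
  rw [cent_zpowers, hj] at h3
  rw [← le_cent1_iff, ← relIndex_eq_one, hj]
  rw [hj] at h2
  have h4 : j < 3 := (Nat.pow_lt_pow_iff_right (by decide : 1 < 3)).1 (by omega)
  have h6 := (Nat.modEq_iff_dvd' (Nat.one_le_pow _ _ (by decide))).1 h3.symm
  interval_cases j
  · rfl
  · have := Nat.le_of_dvd (by decide) h6
    omega
  · have := (Nat.prime_dvd_prime_iff_eq hr Nat.prime_two).1 (hr.dvd_of_dvd_pow (n := 3) h6)
    omega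

theorem comm_le_O3 (ho : Odd ♯W) (f2 : f * f = 1) (hn : f ∈ 𝐍(W))
    (h : ∀ x ∈ W, f * x * f⁻¹ = x⁻¹ → (orderOf x).Prime → orderOf x = 3) :
    ⁅W, zpowers f⁆ ≤ Op 3 W := by
  have := Fact.mk Nat.prime_three
  have k := fun (q : ℕ) [Fact q.Prime] => Coprime.exists_invariant_sylow q (zpowers_le.2 hn)
    (coprime_zp ho f2).symm (.inr (sol_of_odd ho))
  obtain ⟨P, hP, hf⟩ := k 3
  have h1 : IsProd P (W ⊓ 𝐂[f]) W := IsProd.of_coprime_relIndex hP.le inf_le_left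
    (Nat.coprime_of_dvd fun q hq h1 h2 => by
      have := Fact.mk hq
      obtain ⟨Q, hQ, hf'⟩ := k q
      refine hQ.not_dvd (h2.trans (relIndex_dvd_of_le_left _ (le_inf hQ.le fun y hy => ?_)))
      by_contra h3
      have h4 : ⁅y, f⁆ ∈ Q := commutator_le_left' hf' (commutator_mem_commutator hy (mem_zpowers f))
      obtain ⟨x, hx, h5⟩ := exists_prime_order_mem (mt zpowers_eq_bot.1 fun e : ⁅y, f⁆ = 1 =>
        h3 (mem_cent1.2 (commutatorElement_eq_one_iff_mul_comm.1 e)))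
      have h6 := zpowers_le.2 h4 hx
      have h7 := h x (hQ.le h6) (ZG.inv_of_mem (by
        rw [commutatorElement_def, inv_eq f2, show f * (y * f * y⁻¹ * f) * f = f * y * f * y⁻¹ * (f * f)
          by group, f2, mul_inv_rev, mul_inv_rev, mul_inv_rev, inv_eq f2]
        group) hx) h5
      obtain ⟨n, hn⟩ := IsPGroup.iff_card.1 hQ.isPGroup
      have h8 := orderOf_dvd_card h6
      rw [hn, h7] at h8
      obtain rfl := (Nat.prime_dvd_prime_iff_eq Nat.prime_three hq).1 (Nat.prime_three.dvd_of_dvd_pow h8)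
      exact hP.not_dvd h1)
  refine OO.le_Op ⟨commutator_le_left' (zpowers_le.2 hn), le_norm_commutator_left _ _⟩
    (hP.isPGroup.to_le (comm_zp_le f2 fun w hw => ?_))
  obtain ⟨p, hp, c, hc, rfl⟩ := h1.mem_iff.1 hw
  rw [commutatorElement_def, mul_cj, mem_cent1_iff_conj.1 hc.2]
  exact commutator_le_left' hf (commutator_mem_commutator hp (mem_zpowers f))

theorem le_Zc_of_Zn (h : Nil P) (h2 : Zn 2 P ≤ Zc P) : P ≤ Zc P := by
  obtain ⟨n, hn⟩ := nil_iff_exists_Zn.1 h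
  suffices ∀ n, Zn n P ≤ Zc P from hn.ge.trans (this n)
  intro n
  induction n with
  | zero => simp [Zn_zero]
  | succ n ih =>
    exact ((le_Zn_succ_iff (Zn_le _ _)).2 ((commutator_Zn_succ_le n P).trans
      (ih.trans (Zn_one P).ge))).trans h2

theorem cop3 (X : Subgroup G) : (♯(Op' 3 X)).Coprime 3 := ((Nat.Prime.coprime_iff_not_dvd
  Nat.prime_three).2 ((piGrp_compl_singleton Nat.prime_three).1 (Op'_piGrp 3 _))).symm

namespace St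

variable (h : St a s t)
include h

theorem eq_O3 (hi : D.relIndex (Op 3 (O 𝐂[t])) ≤ 3) (hc : ∀ d ∈ D, ⁅a * s, d⁆ ∈ Z)
    (hZ : ∀ z ∈ Z, z ^ 3 = 1) (hW : O 𝐂[t] ≤ 𝐂(Z)) (hQ : Op' 3 (Fit (O 𝐂[t])) ≤ 𝐂[a * s]) :
    Fit (O 𝐂[t]) = O 𝐂[t] := by
  have := Fact.mk Nat.prime_three
  refine le_antisymm (Fit_le _) ((h.wd (Op_le _ _) (h.Wn.Op 3).norm
    (comm_le_O3 (odd_O _) h.p2.e2 h.fW fun x hx e hr => by_contra fun h3 => ?_)).ge.trans
      (Op_le_Fit 3 _))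
  have ho := odd_of_mem (odd_O _) hx
  have h1 := refl_cent (Op_isPGroup 3 _) hi hc hZ ((Op_normal 3 _).norm hx) (hW hx) e hr (by
    have := hr.two_le
    obtain ⟨m, hm⟩ := ho
    omega)
  have h2 := le_cent1_iff.1 hQ
  have h4 := conj_mem_of_norm (norm_le_norm_cent _ (((Fit_normal _).Opi _).norm hx)) h2
  rw [conj_of_inv e, mul_mem_cancel_right h2] at h4
  have h5 := zpowers_le.2 h4 (sq x ▸ ZG.mem_zp_pow (Nat.coprime_two_left.2 ho))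
  have h6 : x ∈ Fit (O 𝐂[t]) := cent_sub_Fitting (sol_of_odd (odd_O _)) ⟨hx, by
    rw [← (dprod_Fit 3 _).sup_eq, cent_sup]; exact ⟨h1, h5⟩⟩
  have h7 := hQ (le_Opi_of_nil (Fit_nil _) (zpowers_le.2 h6) ((piGrp_compl_singleton
    Nat.prime_three).2 fun e => h3 ((Nat.prime_dvd_prime_iff_eq Nat.prime_three hr).1
      (Nat.card_zpowers x ▸ e)).symm) (mem_zpowers x))
  rw [mem_cent1_iff_conj.1 (mem_cent1_comm.1 h7)] at e
  exact hr.one_lt.ne' (orderOf_eq_one_iff.2 (ZG.eq_one_of_inv ho e))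

theorem Zc_inf : Zc (Fit (O 𝐂[t])) ⊓ 𝐂[a * s] = ⊥ := by_contra fun h0 => by
  obtain ⟨b, hb, b1⟩ := exists_mem_ne_one h0
  have hb' : b ∈ Fit (O 𝐂[t]) ⊓ 𝐂[a * s] := ⟨Zc_le _ hb.1, hb.2⟩
  have hb'' : b ∈ O 𝐂[t] ⊓ 𝐂[a * s] := ⟨Fit_le _ hb'.1, hb.2⟩
  obtain ⟨h1, h2⟩ := h.a7 hb' b1
  have h3 : Fit (O 𝐂[t]) ≤ O 𝐂[t] ⊓ 𝐂[b] := le_inf (Fit_le _) (le_cent1_iff.2 (Zc_le_cent _ hb.1))
  have h4 : O 𝐂[t] ⊓ 𝐂[b] ≤ 𝐍(O 𝐂[b]) := inf_le_right.trans (O_norm _)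
  have := Fact.mk Nat.prime_three
  have h5 := h.eq_O3 (D := O 𝐂[b]) (Z := ⊥) ((relIndex_le_of_le_right ((Op_le_Fit 3 _).trans h3)
    (relIndex_pos _ _).ne').trans_eq h2) (fun d hd => mem_bot.2 (commutatorElement_eq_one_iff_mul_comm.2
      (mem_cent1.1 (h.OJ_le hb'' hd)).symm)) (by simp) (cent_bot (G := G) ▸ le_top)
    ((le_of_coprime_relIndex ((Opi_le _ _).trans h3) h4 (by rw [h2]; exact cop3 _)).trans
      (h.OJ_le hb''))
  exact h.mn.not_oc (h.mn.cent1_ne_top b1) (h.mn.sdprod.isProd.sup_eq.ge.trans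
    (sup_le (h5.ge.trans (h3.trans inf_le_right)) (h.S_le hb''))) h1.oc

theorem card_Zc (hb : b ∈ Fit (O 𝐂[t]) ⊓ 𝐂[a * s]) (b1 : b ≠ 1) :
    (O 𝐂[b]).relIndex (Zc (Fit (O 𝐂[t]))) = 3 ∧ ♯(Zc (Fit (O 𝐂[t]))) = 3 := by
  have h1 : (O 𝐂[b]).relIndex (Zc (Fit (O 𝐂[t]))) = ♯(Zc (Fit (O 𝐂[t]))) := by
    rw [← inf_relIndex_right, inf_comm, eq_bot_iff.2 ((inf_le_inf_left _
      (h.OJ_le ⟨Fit_le _ hb.1, hb.2⟩)).trans h.Zc_inf.le), relIndex_bot_left]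
  have h2 := relIndex_dvd_of_le_norm (le_inf ((Zc_le _).trans (Fit_le _)) ((Zc_le_cent _).trans
    (cent_le_cent1 hb.1))) (inf_le_right.trans (O_norm 𝐂[b]))
  rw [(h.a7 hb b1).2, h1, Nat.dvd_prime Nat.prime_three, card_eq_one_iff] at h2
  rw [h1, and_self]
  exact h2.resolve_left (Zc_ne_bot (Fit_nil _) (Fit_ne_bot (sol_of_odd (odd_O _)) h.ne))

theorem Fit_inf : Fit (O 𝐂[t]) ⊓ 𝐂[a * s] = ⊥ := by_contra fun h0 => by
  have := Fact.mk Nat.prime_three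
  obtain ⟨b0, hb0, b01⟩ := exists_mem_ne_one h0
  have hZ := (h.card_Zc hb0 b01).2
  have Zn' := h.Wn.Fit.Zc
  have hQ : Op' 3 (Fit (O 𝐂[t])) = ⊥ := by_contra fun e => inf_Zc_ne_bot (Fit_nil _) (Opi_normal _ _) e
    (inf_eq_bot_of_coprime_card (by rw [hZ]; exact cop3 _))
  have hW := h.le_cent' Zn'.norm h.Zc_inf
  obtain ⟨b, hb, b1⟩ := exists_mem_ne_one (H := Zn 2 (Fit (O 𝐂[t])) ⊓ 𝐂[a * s]) fun e => h0
    (eq_bot_iff.2 ((inf_le_inf_right _ (le_Zc_of_Zn (Fit_nil _) (le_inf (Zn_le _ _) (le_cent_symm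
      ((Fit_le _).trans (h.le_cent' (h.Wn.Fit.Zn 2).norm e)))))).trans h.Zc_inf.le))
  have hb' : b ∈ Fit (O 𝐂[t]) ⊓ 𝐂[a * s] := ⟨Zn_le _ _ hb.1, hb.2⟩
  have hb'' : b ∈ O 𝐂[t] ⊓ 𝐂[a * s] := ⟨Fit_le _ hb'.1, hb.2⟩
  obtain ⟨h1, h2⟩ := h.a7 hb' b1
  have h3 : ∀ g ∈ Fit (O 𝐂[t]), ⁅g, b⁆ ∈ Zc (Fit (O 𝐂[t])) := fun g hg => by
    rw [← commutatorElement_inv]
    exact inv_mem (commutator_Zn_two_le _ (commutator_mem_commutator hb.1 hg))
  have h4 := (relIndex_cent_le h3).trans hZ.le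
  have h5 : Zc (Fit (O 𝐂[t])) ≤ O 𝐂[t] ⊓ 𝐂[b] := le_inf ((Zc_le _).trans (Fit_le _))
    ((Zc_le_cent _).trans (cent_le_cent1 hb'.1))
  have h6 := h.eq_O3 (D := O 𝐂[t] ⊓ 𝐂[b]) (Z := Zc (Fit (O 𝐂[t]))) (by
      rw [← inf_relIndex_right, inf_right_comm, inf_eq_right.2 (Op_le _ _), inf_relIndex_left]
      exact (relIndex_le_of_le_right (Op_le_Fit 3 _) (relIndex_pos _ _).ne').trans h4)
    (fun d hd => by
      obtain ⟨z, hz, o, ho, rfl⟩ := exists_mul_of_relIndex_le h5 (h2.trans (h.card_Zc hb' b1).1.symm).le hd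
      rw [commutatorElement_def, cj_mul, mem_cent1_iff_conj.1 (mem_cent1_comm.1 (h.OJ_le hb'' ho)),
        mul_inv_rev z, ← mul_assoc, mul_inv_cancel_right]
      exact mul_mem (Zn'.conj_mem h.fM hz) (inv_mem hz))
    (fun z hz => orderOf_dvd_iff_pow_eq_one.1 ((orderOf_dvd_card hz).trans hZ.dvd)) hW
    (hQ.le.trans bot_le)
  obtain ⟨g, hg, e⟩ : ∃ g ∈ Fit (O 𝐂[t]), ⁅g, b⁆ ≠ 1 := by
    by_contra! e
    exact b1 (mem_bot.1 (h.Zc_inf ▸ (⟨mem_Zc.2 ⟨hb'.1, fun y hy =>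
      commutatorElement_eq_one_iff_mul_comm.1 (e y hy)⟩, hb.2⟩ : b ∈ Zc _ ⊓ 𝐂[a * s])))
  have h7 : 𝐂[g * b * g⁻¹] ⊓ 𝐂[b] ≤ 𝐍(S4 t s) := by
    rw [← h.norm_eq Zn' (mt card_eq_one_iff.2 (by omega)), ← eq_zpowers_of_prime
      (by rw [hZ]; exact Nat.prime_three) (h3 g hg) e]
    exact fun y hy => cent_le_norm _ ((cent_zpowers _).ge (mem_cent1_comm.1 (mul_mem
      (mem_cent1_comm.1 hy.1) (inv_mem (mem_cent1_comm.1 hy.2)))))
  have h8 : 𝐍(S4 t s).relIndex 𝐂[b] ≤ (𝐂[b]).index := by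
    refine (relIndex_le_of_le_left h7 (relIndex_pos _ _).ne').trans ?_
    rw [inf_relIndex_right, ← index_conj g, ← cent1_conj, ← relIndex_top_right]
    exact relIndex_le_of_le_right le_top (relIndex_pos _ _).ne'
  have h9 := relIndex_mul_relIndex _ _ 𝐂[b] (inf_le_inf_right _ h.le) inf_le_right
  have h10 := relIndex_le_of_le_right (H := 𝐂[t]) (inf_le_left : 𝐍(S4 t s) ⊓ 𝐂[b] ≤ _)
    (relIndex_pos _ _).ne'
  rw [inf_relIndex_right, inf_relIndex_right, ← nI, h1.n' (h.OJ_t hb''), ← inf_relIndex_right, inf_right_comm,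
    inf_assoc, inf_assoc, inf_idem, inf_relIndex_right] at h9
  have h11 := relIndex_mul_nI (le_top : 𝐂[b] ≤ ⊤) t
  rw [h1.n' (h.OJ_t hb''), top_inf_eq, relIndex_eq_of_isProd h.mn.sdprod.isProd (h.S_le hb''), nI,
    relIndex_top_right, relIndex_top_right] at h11
  have h12 := relIndex_mul_relIndex _ _ (O 𝐂[t]) (inf_le_right : O 𝐂[b] ⊓ (O 𝐂[t] ⊓ 𝐂[b]) ≤ _)
    inf_le_left
  have h13 := relIndex_le_of_le_left (L := O 𝐂[t]) (inf_le_left.trans (h.OJ_le hb'') :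
    O 𝐂[b] ⊓ (O 𝐂[t] ⊓ 𝐂[b]) ≤ _) (relIndex_pos _ _).ne'
  rw [inf_relIndex_right, inf_relIndex_left, h2] at h12
  rw [h6] at h4
  rw [h.idx] at h10
  have h14 := h.bound
  have h15 : (1 + (𝐂[a * s]).relIndex (O 𝐂[t])) ^ 2 ≤ 10 ^ 2 := Nat.pow_le_pow_left (by omega) 2
  have h16 := Nat.mul_le_mul h10 h8
  have h17 := Nat.mul_le_mul_left (𝐂[t]).index h4
  omega

theorem W_inf : O 𝐂[t] ⊓ 𝐂[a * s] = ⊥ := by
  exact eq_bot_iff.2 ((inf_le_inf_right _ ((le_inf le_rfl (h.le_cent' h.Wn.Fit.norm h.Fit_inf)).trans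
    (cent_sub_Fitting (sol_of_odd (odd_O _))))).trans h.Fit_inf.le)

end St

end Iv

end Cfsg.Agent.GW2
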