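import Cfsg.Agent.Lib.GW2.G0
import Cfsg.Agent.Lib.GW2.ChD

/-!
# Package KFP: groups of type `A₇` and the structure of `X / O(X)`
-/

set_option autoImplicit false
set_option linter.unusedSectionVars false

namespace Cfsg.Agent.GW2

open Subgroup Cfsg.Agent.OO Cfsg.Agent.Coprime GW
open scoped commutatorElement Pointwise

universe u

namespace Kf

variable {G : Type u} [Group G] [Finite G] {X Y K L M N P Q : Subgroup G} {a b e g s t u v w x y ρ : G}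

theorem thompson (k : Cf X a s t) (hx : x ∈ X) (x1 : x ≠ 1) (x2 : x * x = 1) :
    (∃ g ∈ X, g * x * g⁻¹ = t) ∨ ∃ N ≤ X, N.relIndex X = 2 := by
  refine or_iff_not_imp_left.2 fun h => ?_
  obtain ⟨N, -, h2, -⟩ := Transfer.thompson_transfer (M := (zpowers a).subgroupOf X) (t := ⟨x, hx⟩) (by
      change Odd (relIndex _ _ / 2)
      rw [← relIndex_mul_relIndex _ _ _ (zpowers_le.2 (t_mem_S4 a s)) k.le, k.chSdS.relIndex_left,
        Nat.card_zpowers, orderOf_eq_two k.s2 k.s1, Nat.mul_div_cancel_left _ two_pos]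
      exact Nat.odd_iff.2 (Nat.two_dvd_ne_zero.1 k.syl.not_dvd))
    (Subtype.ext (by simpa [sq] using x2)) fun g e => h ⟨g⁻¹, inv_mem g.2,
      k.eq_t (by simpa [mem_subgroupOf] using e) (conj_ne_one.2 x1) (conj_sq x2 _)⟩
  exact ⟨N.map X.subtype, map_subtype_le N, (relIndex_map_subtype N).trans h2⟩

theorem oc_or (k : Cf X a s t) : OC X ∨ ∃ N ≤ X, N.relIndex X = 2 :=
  or_iff_not_imp_right.2 fun h x hx y hy x1 x2 y1 y2 => by
    obtain ⟨g, hg, e⟩ := (thompson k hx x1 x2).resolve_right h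
    obtain ⟨g', hg', e'⟩ := (thompson k hy y1 y2).resolve_right h
    exact ⟨g'⁻¹ * g, mul_mem (inv_mem hg') hg, by rw [mul_cj, e, ← e']; group⟩

theorem sq_mem (h : N.relIndex X = 2) (hx : x ∈ X) : x * x ∈ N :=
  mul_self_mem_of_index_two (H := N.subgroupOf X) h ⟨x, hx⟩

theorem cent_three (h3 : orderOf w = 3) (ho : Odd (orderOf y)) (hn : y ∈ 𝐍(zpowers w)) : y ∈ 𝐂[w] := by
  classical
  have h := conj_mem_of_norm hn (mem_zpowers w)
  have w1 : w ≠ 1 := fun e => by simp [e] at h3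
  rw [mem_zpowers_iff_mem_range_orderOf, h3] at h
  obtain ⟨i, hi, e⟩ := Finset.mem_image.1 h
  have w3 : w ^ 2 = w⁻¹ := eq_inv_of_mul_eq_one_left (by rw [← pow_succ, ← pow_orderOf_eq_one w, h3])
  have := Finset.mem_range.1 hi
  interval_cases i
  · exact absurd (e.symm.trans (pow_zero w)) (conj_ne_one.2 w1)
  · exact mem_cent1_iff_conj.2 (e.symm.trans (pow_one w))
  · exact absurd (eq_one_of_inv ho (e.symm.trans w3) (h3 ▸ by decide)) w1

section A7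

variable (hD : DH G) (h : A7T L)
include h

theorem a7_index (hM : M ≤ L) (hi : M.relIndex L ≤ 5) : L ≤ M := by_contra fun e => by
  have := card_dvd_of_relIndex (fun D h1 h2 => (h.smp D h1).resolve_right fun e' => e (e' ▸ h2)) hi
  rw [h.card] at this
  exact absurd this (by decide)

theorem a7_nI (ht : t ∈ L) (t1 : t ≠ 1) (t2 : t * t = 1) : nI L t = 105 := by
  have := card_inf_mul_relIndex 𝐂[t] L
  rw [inf_comm, (h.loc t ht t1 t2).1, h.card] at this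
  rw [nI]; omega

include hD

theorem a7_O (ht : t ∈ L) (t1 : t ≠ 1) (t2 : t * t = 1) (hw : w ∈ L ⊓ 𝐂[t]) (h3 : orderOf w = 3) :
    O (L ⊓ 𝐂[t]) = zpowers w := by
  refine (eq_of_le_of_card_le (zpowers_le.2 ((hD.mem_O t1 t2 inf_le_right).2 ⟨hw, h3 ▸ by decide⟩)) ?_).symm
  rw [Nat.card_zpowers, h3]
  exact Nat.le_of_dvd three_pos (((Nat.coprime_two_right.2 (odd_O _)).pow_right 3).dvd_of_dvd_mul_left
    ((card_dvd (Opi_le _ _)).trans (h.loc t ht t1 t2).1.dvd))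

theorem a7_cf (hL : L ≤ Y) (ht : t ∈ L) (hv : v ∈ L) (p : F4 t v) : ∃ a, Cf Y a v t :=
  (hD.pair_or_cf p (hL ht) (hL hv)).resolve_left fun q => q.not_dvd
    (((h.loc t ht p.t1 p.t2).1.symm ▸ by decide : 8 ∣ _).trans (card_dvd (inf_le_inf_right _ hL)))

theorem a7_exists : ∃ t ∈ L, t ≠ 1 ∧ t * t = 1 := by
  obtain ⟨t, ht, e⟩ := cauchy (H := L) Nat.prime_two (h.card ▸ by decide)
  exact ⟨t, ht, fun e' => by simp [e'] at e, by rw [← sq, ← e, pow_orderOf_eq_one]⟩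

theorem a7_oc : OC L := by
  obtain ⟨t, ht, t1, t2⟩ := a7_exists hD h
  obtain ⟨-, v, hv, -, -, p, -⟩ := h.loc t ht t1 t2
  obtain ⟨a, k⟩ := a7_cf hD h le_rfl ht hv p
  refine (oc_or k).resolve_right fun ⟨N, h1, h2⟩ => ?_
  have := relIndex_eq_one.2 (a7_index h h1 (by omega))
  omega

theorem a7_le (hL : L ⊴ Y) (hc : Y ⊓ 𝐂(L) = ⊥) : Y ≤ L := by
  obtain ⟨t, ht, t1, t2⟩ := a7_exists hD h
  obtain ⟨c24, v, hv, w, hw, p, hV, w3, wV, h1, -⟩ := h.loc t ht t1 t2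
  rw [cent_S4] at wV
  have hO := a7_O hD h ht t1 t2 ⟨hw, wV.1⟩ w3
  have nw : Y ⊓ 𝐂[t] ≤ 𝐍(zpowers w) := hO ▸ le_norm_Opi _ (le_norm_inf (inf_le_left.trans hL.norm)
    (le_norm_of_le inf_le_right))
  have cw : ♯(zpowers w) = 3 := (Nat.card_zpowers w).trans w3
  have pD : Pair (L ⊓ 𝐂[t] ⊓ 𝐂[w]) t v := p.mk_pair ⟨⟨ht, mem_cent1_self t⟩, mem_cent1_comm.1 wV.1⟩
    ⟨⟨hv, p.e_mem⟩, mem_cent1_comm.1 wV.2⟩ fun e => h1 (inf_eq_left.1 (eq_of_le_of_card_le inf_le_left (by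
      rw [c24]
      exact Nat.le_of_dvd (card_pos' _) (Nat.Coprime.mul_dvd_of_dvd_of_dvd (by decide) e
        (w3 ▸ OO.orderOf_dvd_card (mem_inf.2 ⟨mem_inf.2 ⟨hw, wV.1⟩, mem_cent1_self w⟩))))))
  have nV : Y ⊓ 𝐂[t] ≤ 𝐍(S4 t v) := (le_norm_inf (le_norm_inf (inf_le_left.trans hL.norm)
    (le_norm_of_le inf_le_right)) (cent_zpowers w ▸ le_norm_cent nw)).trans
    (pD.syl.norm_le_norm_of_normal (inf_le_left.trans hV))
  obtain ⟨a, k⟩ := a7_cf hD h hL.le ht hv p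
  obtain ⟨b, k'⟩ := a7_cf hD h le_rfl ht hv p
  have a2 : a * a ∈ S4 t v := by
    have := mul_mem (conj_mem_of_norm (nV k.cent.a_mem) (s_mem_S4 t v)) (inv_mem (s_mem_S4 t v))
    rwa [show a * v * a⁻¹ * v⁻¹ = a * (v * a * v⁻¹)⁻¹ by group, k.inv, inv_inv] at this
  have hS : S4 a v ≤ L := by
    have e1 := Nat.le_of_dvd (card_pos' _) ((k'.mono (Y := S4 b v) le_rfl k'.le).eight.trans
      (k'.syl.card_eq_card (k.syl.inf_normal hL)).dvd)
    have e2 : orderOf a ≤ 4 := orderOf_le_of_pow_eq_one four_pos (by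
      rw [show 4 = 2 * 2 from rfl, pow_mul, sq, sq, p.sq a2])
    exact inf_eq_left.1 (eq_of_le_of_card_le inf_le_left (by rw [k.chCard]; omega))
  have kL := k.mono hS hL.le
  have q := k.f4'
  have sdL := hD.sdprod kL
  rw [hO] at sdL
  have hf : zpowers w ⊓ 𝐂[a * v] = ⊥ := by_contra fun e => by
    have e1 := mem_cent1_comm.1 (le_of_prime_of_inf_ne_bot (cw ▸ Nat.prime_three) e (mem_zpowers w))
    have e2 := mem_cent1_comm.1 wV.2
    exact h1 (sdL.sup_eq.ge.trans (sup_le (zpowers_le.2 (mem_cent1_self w))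
      (S4_le.2 ⟨(mul_mem_cancel_right e2).1 e1, e2⟩)))
  refine ((a7_oc hD h).isProd hL ht t1 t2).sup_eq.ge.trans (sup_le le_rfl
    ((hD.sdprod k).sup_eq.ge.trans (sup_le ?_ hS)))
  refine (sup_zp q.e2 (O_norm _ k.cent.as_mem) (odd_O _)).ge.trans (sup_le ((commutator_mono le_rfl
    (zpowers_le.2 kL.as_mem)).trans (commutator_le_right' (((Opi_le _ _).trans inf_le_left).trans
      hL.norm))) fun y hy => ?_)
  have hy' := Opi_le _ _ hy.1
  have yo := odd_of_mem (odd_O _) hy.1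
  have yv := mem_cent1_comm.1 (p.mem_cent_of_odd (nV hy') hy'.2 yo)
  have h2 : L ⊓ 𝐂[t] ≤ L ⊓ 𝐂[y] := le_inf inf_le_left (sdL.sup_eq.ge.trans (sup_le (zpowers_le.2
    (mem_cent1_comm.1 (cent_three w3 yo (nw hy')))) (S4_le.2 ⟨(mul_mem_cancel_right yv).1
      (mem_cent1_comm.1 hy.2), yv⟩)))
  obtain ⟨ρ, hρ, r⟩ := hD.exists_rot (a7_oc hD h) q ht kL.as_mem
  have hc' : zpowers y ≤ 𝐂(S4 t (a * v)) := cent_S4 t _ ▸ zpowers_le.2 ⟨hy'.2, hy.2⟩
  obtain ⟨n, hn, hn'⟩ := coprime_cent_lift (le_norm_of_le_cent hc') (q.coprime (by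
    rwa [Nat.card_zpowers])).symm (.inl (sol_of_ab q.ab)) r.mem_norm fun z hz => by
      have e1 := commutator_le_right' (le_norm_cent (zpowers_le.2 r.mem_norm))
        (commutator_mem_commutator (mem_zpowers ρ) (hc' hz))
      have e2 := commutator_le_left' ((zpowers_le.2 hy'.1).trans hL.norm)
        (commutator_mem_commutator hρ hz)
      rw [cent_S4] at e1
      have e3 := ((hD.pair_cent q).mono' (le_inf (le_inf (S4_le.2 ⟨ht, kL.as_mem⟩) q.le_cent) q.le_cent')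
        (inf_le_inf_right _ inf_le_right)).sdprod_of_cent (inf_le_left.trans inf_le_right)
      rw [hD.O_inf t1 t2 inf_le_right, hO, hf] at e3
      exact (e3.sup_eq.ge.trans (bot_sup_eq _).le) ⟨⟨e2, e1.1⟩, e1.2⟩
  rw [cent_zpowers] at hn'
  have r' := r.mul_left ⟨q.le_cent hn, q.le_cent' hn⟩
  have hρ' : n * ρ ∈ L ⊓ 𝐂[y] := ⟨mul_mem (S4_le.2 ⟨ht, kL.as_mem⟩ hn) hρ, hn'⟩
  generalize n * ρ = ρ' at r' hρ'
  have kM := kL.mono (kL.cent.le.trans h2) inf_le_left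
  refine (mem_bot.1 (hc.le ⟨hy'.1, le_cent1_iff.1 (le_trans ?_ (inf_le_right (a := L)))⟩)) ▸ one_mem L
  rcases oc_or kM with o | ⟨N, h3, h4⟩
  · exact kL.o1 co inf_le_left h2 o
  obtain ⟨c, hc, c2⟩ := kM.exists_sq
  have tN : t ∈ N := c2 ▸ sq_mem h4 (zpowers_le.2 kM.a_mem hc)
  have ρN := sq_mem h4 hρ'
  have h5 := (charO G N t _ _ (Rot.v4 (e := t * (a * v)) ⟨r'.sq_t, by rw [mul_cj, r'.ρte q, r'.ρt, q.tte]⟩
    (q.mul.mk_pair tN (r'.sq_t ▸ mul_mem (mul_mem ρN tN) (inv_mem ρN)) fun e => by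
      have := card_dvd (inf_le_left : L ⊓ 𝐂[y] ≤ L)
      rw [← card_mul_relIndex h3, h4, h.card] at this
      exact absurd ((Nat.mul_dvd_mul_right e 2).trans this) (by decide)) ρN)).1
  have wM := h2 ⟨hw, wV.1⟩
  have h6 := card_le_kI (s := t * (a * v)) (zpowers_le.2 (show w ∈ N ⊓ 𝐂[t] from ⟨by
    have := sq_mem h4 (mul_mem wM wM)
    rwa [show w * w * (w * w) = w ^ 3 * w by simp only [pow_succ, pow_zero, one_mul, mul_assoc], ← w3, pow_orderOf_eq_one, one_mul] at this, wV.1⟩))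
    ((q.inf_cent_mul (zpowers_le.2 wV.1)).trans hf)
  have h7 := relIndex_mul_nI (inf_le_left : L ⊓ 𝐂[y] ≤ L) t
  have h8 : nI N t ≤ nI (L ⊓ 𝐂[y]) t := relIndex_le_of_le_right h3 (relIndex_pos _ _).ne'
  rw [relIndex_eq_one.2 h2, a7_nI h ht t1 t2] at h7
  rw [cw] at h6
  exact a7_index h inf_le_left (by nlinarith)

end A7

end Kf

end Cfsg.Agent.GW2
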