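import Cfsg.Agent.Lib.GW2.KfA
import Cfsg.Agent.Lib.GW2.Aut

/-!
# Package KFP: the structure of `X / O(X)`
-/

set_option autoImplicit false
set_option linter.unusedSectionVars false

namespace Cfsg.Agent.GW2

open Subgroup Cfsg.Agent.OO Cfsg.Agent.Coprime GW
open scoped commutatorElement Pointwise

universe u

namespace Kf

variable {G : Type u} [Group G] [Finite G] {D X Y K L N P Q R : Subgroup G}
  {a b e g i s t u v w x y z ρ : G} {n p : ℕ}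

theorem exists_cent (hR : IsPGroup 2 R) (hn : R ≤ 𝐍(K)) (he : ¬ Odd ♯K) :
    ∃ z ∈ K ⊓ 𝐂(R), z ≠ 1 ∧ z * z = 1 := by
  obtain ⟨T, hT, h1⟩ := exists_syl_ge (le_sup_right : R ≤ K ⊔ R) hR
  obtain ⟨z, hz, z1⟩ := exists_mem_ne_one (inf_cent_ne_bot_of_isPGroup hR (hT.isPGroup.to_le inf_le_left)
    (le_norm_inf (le_norm_of_le h1) hn) ((hT.inf_normal (normalIn_sup_left hn)).ne_bot
      (even_iff_two_dvd.1 (Nat.not_odd_iff_even.1 he))))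
  obtain ⟨y, hy, h2⟩ := ZG.exists_invol (ZG.not_odd hT.isPGroup hz.1.1 z1)
  exact ⟨y, ⟨(zpowers_le.2 hz hy).1.2, (zpowers_le.2 hz hy).2⟩, h2⟩

theorem even_of_ne_bot (h0 : O Y = ⊥) (hK : K ⊴ Y) (h : K ≠ ⊥) : ¬ Odd ♯K := fun e =>
  h (eq_bot_iff.2 (h0 ▸ le_O hK e))

theorem comm_le (h : PG Y L) (hu : u ∈ Y) (u2 : u * u = 1) (hQ : Q ≤ Y) : ⁅Q, zpowers u⁆ ≤ L := by
  by_cases e : u ∈ L
  · exact (commutator_mono le_rfl (zpowers_le.2 e)).trans (commutator_le_right' (hQ.trans h.normal.norm))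
  refine commutator_le.2 fun x hx y hy => ?_
  rcases (mem_zp u2).1 hy with rfl | rfl
  · simp
  rw [commutatorElement_def, inv_eq u2]
  exact h.com _ (mul_mem (mul_mem (hQ hx) hu) (inv_mem (hQ hx))) _ hu (conj_sq u2 x) u2
    (fun e' => e (by simpa [mul_assoc] using conj_mem_of_norm' (h.normal.norm (hQ hx)) e')) e

/-- the solvable cases -/
def Sm (Y : Subgroup G) : Prop :=
  IsPGroup 2 Y ∨ ∃ v e, F4 v e ∧ S4 v e ⊴ Y ∧ Y ⊓ 𝐂(S4 v e) ≤ S4 v e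

variable (hD : DH G)
include hD

theorem mem_normal (h : In X t) (hK : K ⊴ X) (he : ¬ Odd ♯K) : t ∈ K := by
  rcases h.or with ⟨c, hc, e⟩ | ⟨e, he', ρ, hρ, p, r⟩
  · obtain ⟨z, hz, z1, z2⟩ := exists_cent (ZG.two_elt h.t2) (zpowers_le.2 (hK.norm h.mem)) he
    by_cases e' : z = t
    · exact e' ▸ hz.1
    obtain ⟨a, k⟩ := hD.cf_of_sq (f4_of_mem h.t1 h.t2 z1 z2 (cent_zpowers t ▸ hz.2) e') (hK.le hz.1) hc e
    exact k.mem_of_norm (k.le.trans hK.norm) hK.le he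
  · obtain ⟨z, hz, z1, z2⟩ := exists_cent p.two ((S4_le.2 ⟨h.mem, he'⟩).trans hK.norm) he
    rw [cent_S4] at hz
    obtain ⟨g, hg, rfl⟩ := r.exists_conj p (hD.mem_four p z2 hz.2.1 hz.2.2) z1
    simpa [mul_assoc] using conj_mem_of_norm' (hK.norm (zpowers_le.2 hρ hg)) hz.1

theorem two_of_cent (z1 : z ≠ 1) (z2 : z * z = 1) (h0 : O D = ⊥) (h : D ≤ 𝐂[z]) : IsPGroup 2 D := by
  obtain ⟨P, hP⟩ := exists_syl 2 D
  exact ((hD.pnil z1 z2 h).sdprod hP).right_eq_iff.2 h0 ▸ hP.isPGroup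

theorem mem_of_cent (h0 : O D = ⊥) (h2 : ¬ IsPGroup 2 D) (hi : i ∈ 𝐂(D)) (i2 : i * i = 1) : i ∈ D := by
  by_cases h : ∃ t ∈ D, ∃ e ∈ D, F4 t e
  · obtain ⟨t, ht, e, he, p⟩ := h
    exact S4_le.2 ⟨ht, he⟩ (hD.mem_four p i2 (cent_le_cent1 ht hi) (cent_le_cent1 he hi))
  obtain ⟨P, hP⟩ := exists_syl 2 D
  refine absurd ((cyclic_pdiv_normal_complement hP ?_ fun q hq _ => hq.two_le).right_eq_iff.2 h0 ▸
    hP.isPGroup) h2
  obtain ⟨a, ha, H1, -⟩ := hD P hP.isPGroup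
  by_cases e : P ≤ zpowers a
  · exact isCyclic_of_le' inferInstance e
  obtain ⟨x, hx, x1⟩ := SetLike.not_le_iff_exists.1 e
  obtain ⟨z, hz, z1, z2⟩ := exists_cent hP.isPGroup (le_norm_self P) fun e =>
    ZG.not_odd hP.isPGroup hx (fun e => x1 (e ▸ one_mem _)) (odd_of_mem e hx)
  have k : ∀ y ∈ P, y ∉ zpowers a → y = z := fun y hy y1 => by_contra fun e' => h ⟨z, hP.le hz.1, y,
    hP.le hy, f4_of_mem z1 z2 (fun e => y1 (e ▸ one_mem _)) (H1 y hy y1) (le_cent1_iff.2 hz.2 hy) e'⟩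
  have a1 : a = 1 := left_eq_mul.1 ((k x hx x1).trans (k _ (mul_mem hx ha)
    (by rwa [mul_mem_cancel_right (mem_zpowers a)])).symm)
  refine isCyclic_of_le' (B := zpowers z) inferInstance fun y hy => ?_
  by_cases e' : y ∈ zpowers a
  · rw [a1, zpowers_one_eq_bot, mem_bot] at e'; exact e' ▸ one_mem _
  · exact k y hy e' ▸ mem_zpowers z

theorem red (ih : IH.{u} n) (hn : ♯Y < n) (h0 : O Y = ⊥) : Sm Y ∨ A7T Y ∨ ∃ L, PG Y L := by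
  by_cases h2 : IsPGroup 2 Y
  · exact .inl (.inl h2)
  have k0 : ∀ {D E : Subgroup G}, O E = ⊥ → D ⊴ E → O D = ⊥ := fun e hD =>
    eq_bot_iff.2 ((Opi_le_of_normal _ hD).trans e.le)
  obtain ⟨E, hE, hEY⟩ := exists_minNormalBy (fun e : Y = ⊥ => h2 (e ▸ IsPGroup.of_bot)) (le_norm_self Y)
  have hn' : E ⊴ Y := ⟨hEY, hE.norm⟩
  have hO := k0 h0 hn'
  obtain ⟨z, hz, z1, z2⟩ := ZG.exists_invol_mem h0 hn' hE.ne_bot
  by_cases h3 : IsPGroup 2 E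
  · have ha := abelem_le_cent (hE.abelem_of_isPGroup h3)
    by_cases h4 : ∃ e ∈ E, F4 z e
    · obtain ⟨e, he, p⟩ := h4
      obtain rfl : E = S4 z e := le_antisymm (hD.le_four p h3 (le_inf (ha.trans (cent_le_cent1 hz))
        (ha.trans (cent_le_cent1 he)))) (S4_le.2 ⟨hz, he⟩)
      exact .inl (.inr ⟨z, e, p, hn', hD.le_four p (two_of_cent hD z1 z2 (k0 h0 hn'.cent)
        (inf_le_right.trans (cent_le_cent1 hz))) (inf_le_right.trans (cent_S4 z e).le)⟩)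
    refine absurd (two_of_cent hD z1 z2 h0 fun g hg => mem_cent1_iff_conj.2 (by_contra fun e => ?_)) h2
    have := conj_mem_of_norm (hE.norm hg) hz
    exact h4 ⟨_, this, f4_of_mem z1 z2 (conj_ne_one.2 z1) (conj_sq z2 g) (cent_le_cent1 hz (ha this)) e⟩
  have hab : ¬ Ab E := fun e => h3 (two_of_cent hD z1 z2 hO (e.le_cent.trans (cent_le_cent1 hz)))
  have hc : Y ⊓ 𝐂(E) = ⊥ := by_contra fun e => by
    obtain ⟨i, hi, i1, i2⟩ := ZG.exists_invol_mem h0 hn'.cent e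
    exact h3 (two_of_cent hD i1 i2 hO (le_cent1_iff.2 hi.2))
  have hs : Smp E := fun D hD' => or_iff_not_imp_left.2 fun h4 => by
    obtain ⟨E1, h5, h6⟩ := exists_minNormalBy h4 hD'.norm
    have h7 : E1 ⊴ E := ⟨h6.trans hD'.le, h5.norm⟩
    have h8 : ¬ IsPGroup 2 E1 := fun e => h3 (hE.eq_of_ne_bot (Op_le 2 E) (hn'.Op 2).norm
      (fun e' => h5.ne_bot (eq_bot_iff.2 (e' ▸ OO.le_Op h7 e))) ▸ Op_isPGroup 2 E)
    refine le_antisymm hD'.le ((hE.eq_of_ne_bot h7.le (fun g hg => ?_) h5.ne_bot).ge.trans h6)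
    have h1 : (g⁻¹ •ᶜ E1) ⊴ E := hn'.conj_eq (inv_mem hg) ▸ h7.conj g⁻¹
    refine mem_norm_of_conj_le (conj_le_iff_le_inv_conj.2 (h5.le_of_inf_ne_bot h1.norm fun e => ?_))
    obtain ⟨i, hi, i1, i2⟩ := ZG.exists_invol_mem hO h1 (mt conj_eq_bot_iff.1 h5.ne_bot)
    exact i1 (mem_bot.1 (e.le ⟨mem_of_cent hD (k0 hO h7) h8 (le_cent_of_inf_eq_bot (h1.le.trans h7.norm)
      (h7.le.trans h1.norm) (inf_comm E1 _ ▸ e) hi) i2, hi⟩))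
  exact .inr ((ih G E hD ((card_le hEY).trans_lt hn) hs hab).symm.imp
    (fun e => le_antisymm hEY (a7_le hD e hn' hc) ▸ e) fun e => ⟨E, aut G Y E hD hn' hc e⟩)

theorem Sm.eq_bot (h : Sm Y) (hu : u ∈ Y) (u2 : u * u = 1) (hQ : Q ≤ Y) (ho : Odd ♯Q)
    (hn : Y ⊓ 𝐂[u] ≤ 𝐍(Q)) : Q = ⊥ := by
  have k : ∀ {R : Subgroup G}, IsPGroup 2 R → Q ⊓ R = ⊥ := fun hR =>
    inf_eq_bot_of_coprime_card (coprime_of_isPGroup hR (odd_iff.1 ho)).symm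
  rcases h with h | ⟨v, e, p, h1, h2⟩
  · exact inf_eq_left.2 hQ ▸ k h
  obtain ⟨z, hz, z1, z2⟩ := exists_cent (ZG.two_elt u2) (zpowers_le.2 (h1.norm hu))
    (by rw [p.card]; decide)
  rw [cent_zpowers] at hz
  have h3 : Q ≤ 𝐂[z] := comm_eq_bot.1 (eq_bot_iff.2 (k p.two ▸ le_inf (commutator_le_left'
    (zpowers_le.2 (hn ⟨h1.le hz.1, hz.2⟩))) ((commutator_mono le_rfl (zpowers_le.2 hz.1)).trans
      (commutator_le_right' (hQ.trans h1.norm)))))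
  exact (inf_eq_left (b := S4 v e).2 fun x hx => h2 ⟨hQ hx, hD.odd_cent p.two (p.ab.le_cent.trans
    (cent_le_cent1 hz.1)) hz.1 z1 z2 (h1.norm (hQ hx)) (h3 hx) (odd_of_mem ho hx)⟩).symm.trans (k p.two)

theorem Sm.O_eq (h : Sm Y) (hu : u ∈ Y) (u2 : u * u = 1) : O (Y ⊓ 𝐂[u]) = ⊥ :=
  h.eq_bot hD hu u2 ((Opi_le _ _).trans inf_le_left) (odd_O _) (O_norm _)

theorem a7_k1 (h : A7T Y) (hu : u ∈ Y) (u1 : u ≠ 1) (u2 : u * u = 1) (hQ : Q ≤ Y) (ho : Odd ♯Q)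
    (hn : Y ⊓ 𝐂[u] ≤ 𝐍(Q)) : Q ≤ 𝐂[u] := by
  obtain ⟨-, v, hv, w, hw, p, -, w3, wV, -⟩ := h.loc u hu u1 u2
  have hV := S4_le.2 ⟨hu, hv⟩
  have k : ∀ z ∈ S4 u v, F4 u z → Q ⊓ 𝐂[z] ≤ 𝐂[u] := fun z hz q =>
    (hD.le_O q.e1 q.e2 inf_le_right (inf_le_inf_right _ hQ) (odd_of_le ho inf_le_left)).trans
      ((a7_O hD h (hV hz) q.e1 q.e2 ⟨hw, cent_le_cent1 hz wV⟩ w3).le.trans
        (zpowers_le.2 (cent_le_cent1 (t_mem_S4 u v) wV)))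
  exact p.le_of_forall ((le_inf hV p.le_cent).trans hn) ho inf_le_right (k v (s_mem_S4 _ _) p)
    (k _ (mul_mem (t_mem_S4 _ _) (s_mem_S4 _ _)) p.mul)

theorem pg_k1 (h : PG Y L) (c : Cp Y L) (h0 : O Y = ⊥) (hu : u ∈ Y) (u1 : u ≠ 1) (u2 : u * u = 1)
    (hQ : Q ≤ Y) (ho : Odd ♯Q) (hn : Y ⊓ 𝐂[u] ≤ 𝐍(Q)) : Q ≤ 𝐂[u] := by
  have h1 := hn ⟨hu, mem_cent1_self u⟩
  refine le_cent_of_comm u2 h1 ho ((le_inf (commutator_le_left' (zpowers_le.2 h1))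
    (comm_le h hu u2 hQ)).trans ?_)
  by_cases h2 : Q ⊓ L = ⊥
  · exact h2.le.trans bot_le
  have h3 := le_norm_inf hn (inf_le_left.trans h.normal.norm)
  have ho' := odd_of_le ho (inf_le_left : Q ⊓ L ≤ Q)
  obtain ⟨e, he, p⟩ : ∃ e ∈ L, F4 u e := by
    by_cases uL : u ∈ L
    · exact c.ex u uL u1 u2
    obtain ⟨z, hz, z1, z2⟩ := exists_cent (ZG.two_elt u2) (zpowers_le.2 (h.normal.norm hu))
      (even_of_ne_bot h0 h.normal fun e => h2 (by rw [e, inf_bot_eq]))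
    exact ⟨z, hz.1, f4_of_mem u1 u2 z1 z2 (cent_zpowers u ▸ hz.2) fun e => uL (e ▸ hz.1)⟩
  have hV := S4_le.2 ⟨hu, c.le he⟩
  obtain ⟨v, hv, v1, h4⟩ := c.oddV u hu e (c.le he) p _ inf_le_right ho' ((le_inf hV p.le_cent).trans h3)
  replace h4 := comm_eq_bot.1 (eq_bot_iff.2 (h0 ▸ h4))
  have v2 := p.sq hv
  obtain ⟨x, hx, x1⟩ := exists_mem_ne_one h2
  have h5 : Y ⊓ 𝐂[u] ≤ 𝐂[v] := fun g hg => mem_cent1_iff_conj.2 (h.ui x hx.2 (odd_of_mem ho' hx) x1 _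
    ⟨Y.mul_mem (Y.mul_mem hg.1 (hV hv)) (Y.inv_mem hg.1), mem_cent1_comm.1 (by
      rw [cent1_conj, mem_conj]; exact h4 (conj_mem_of_norm' (h3 hg) hx))⟩ v
    ⟨hV hv, mem_cent1_comm.1 (h4 hx)⟩ (conj_ne_one.2 v1) (conj_sq v2 g) v1 v2)
  by_cases uL : u ∈ L
  · obtain ⟨g, hg, rfl⟩ := c.oc u uL v (S4_le.2 ⟨uL, he⟩ hv) u1 u2 v1 v2
    exact ((le_inf inf_le_right h4).trans (eq_of_le_of_card_le (le_inf inf_le_left
      ((inf_le_inf_right _ c.le).trans h5)) (card_inf_cent_conj hg u).le).ge).trans inf_le_right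
  obtain ⟨y, hy, y1⟩ := exists_mem_ne_one (h.out u hu u2 uL).2.1
  have y2 := Opi_le _ _ hy
  exact h.ui y y2.1 (odd_of_mem (odd_O _) hy) y1 v ⟨hV hv, mem_cent1_comm.1 (h5 ⟨c.le y2.1, y2.2⟩)⟩ u
    ⟨hu, mem_cent1_comm.1 y2.2⟩ v1 v2 u1 u2 ▸ h4

end Kf

end Cfsg.Agent.GW2
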