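import Cfsg.Agent.Lib.GW2.KfB
import Cfsg.Agent.Lib.GW2.CpB

/-!
# Package KFP: lifting from `X / O(X)`
-/

set_option autoImplicit false
set_option linter.unusedSectionVars false

namespace Cfsg.Agent.GW2

open Subgroup Cfsg.Agent.OO Cfsg.Agent.Coprime GW
open scoped commutatorElement Pointwise

universe u

namespace Kf

variable {G : Type u} [Group G] [Finite G] {X Q : Subgroup G} {e t u v x : G} {n p : ℕ}

theorem f4_quo (p : F4 t e) (ht : t ∈ X) (he : e ∈ X) : F4 (coset (O X) t) (coset (O X) e) :=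
  Cq.f4_quo p (O_norm X ht) (O_norm X he) (odd_O X)

theorem in_quo (h : In X t) : In (X ⁒ O X) (coset (O X) t) :=
  ⟨coset_mem_quo _ h.mem, coset_ne_one (odd_O X) (O_norm X h.mem) h.t1 h.t2,
    coset_sq (O_norm X h.mem) h.t2, h.or.imp (fun ⟨c, hc, e⟩ => ⟨_, coset_mem_quo _ hc, by
      rw [← coset_mul (O_norm X hc) (O_norm X hc), e]⟩) fun ⟨e, he, ρ, hρ, p, r⟩ =>
      ⟨_, coset_mem_quo _ he, _, coset_mem_quo _ hρ, f4_quo p h.mem he, by
        rw [← coset_conj (O_norm X hρ) (O_norm X h.mem), r.ρt], by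
        rw [← coset_conj (O_norm X hρ) (O_norm X he), r.ρe, coset_mul (O_norm X h.mem) (O_norm X he)]⟩⟩

theorem quo_cent (ht : t ∈ X) (t2 : t * t = 1) :
    (X ⊓ 𝐂[t]) ⁒ O X = X ⁒ O X ⊓ 𝐂[coset (O X) t] := quo_cent1_of_odd (O_norm X) (odd_O X) ht t2

theorem comm_le_iff (hQ : Q ≤ X) (he : e ∈ X) : ⁅Q, zpowers e⁆ ≤ O X ↔ Q ⁒ O X ≤ 𝐂[coset (O X) e] := by
  rw [← quo_le_cent_iff (hQ.trans (O_norm X)) (zpowers_le.2 (O_norm X he)), quo_zpowers (O_norm X he),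
    cent_zpowers]

variable (hD : DH G)
include hD

theorem quo_O (ht : t ∈ X) (t1 : t ≠ 1) (t2 : t * t = 1) :
    O (X ⊓ 𝐂[t]) ⁒ O X = O (X ⁒ O X ⊓ 𝐂[coset (O X) t]) := by
  rw [← quo_cent ht t2]
  refine le_antisymm (quo_Opi_le _ _ _) fun z hz => ?_
  obtain ⟨x, hx, hn, rfl⟩ := mem_quo.1 (Opi_le _ _ hz)
  obtain ⟨k, m, hm, e⟩ := Nat.exists_eq_two_pow_mul_odd (orderOf_pos x).ne'
  refine zpowers_le.2 (coset_pow hn (2 ^ k) ▸ coset_mem_quo _ ((hD.mem_O t1 t2 inf_le_right).2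
    ⟨pow_mem hx _, hm.of_dvd_nat (orderOf_dvd_of_pow_eq_one (by rw [← pow_mul, ← e, pow_orderOf_eq_one]))⟩))
    (ZG.mem_zp_pow ((Nat.coprime_two_left.2 (odd_of_mem (odd_O _) hz)).pow_left k))

theorem a7_lift (ht : t ∈ X) (t1 : t ≠ 1) (t2 : t * t = 1) (h : A7T (X ⁒ O X)) : A7 X t := by
  have hD' := hD.coset (O X)
  have n := O_norm X
  have k1 := fun {a} (ha : a ∈ X) => coset_ne_one (odd_O X) (n ha)
  have k2 := fun {a} (ha : a ∈ X) => coset_sq (n ha)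
  have hU := (Opi_le _ _).trans (inf_le_left : X ⊓ 𝐂[t] ≤ X) (a := O _)
  have h1 := a7_nI h (coset_mem_quo _ ht) (k1 ht t1 t2) (k2 ht t2)
  rw [nI, ← inf_relIndex_left, ← quo_cent ht t2] at h1
  obtain ⟨-, v, hv, w, hw, p, -, w3, wV, -⟩ := h.loc _ (coset_mem_quo _ ht) (k1 ht t1 t2) (k2 ht t2)
  have h2 := (quo_O hD ht t1 t2).trans (a7_O hD' h (coset_mem_quo _ ht) p.t1 p.t2
    ⟨hw, cent_le_cent1 (t_mem_S4 _ _) wV⟩ w3)
  refine ⟨fun a ha b hb a1 a2 b1 b2 => ?_, by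
      rw [nI, ← inf_relIndex_left, ← h1]; exact relIndex_quo_dvd inf_le_left n, fun e => by
      rw [nI, ← inf_relIndex_left, ← h1, relIndex_quo ((Opi_normal _ X).mono (le_inf (Opi_le _ _) e)
        inf_le_left) n], by rw [← card_quo (hU.trans n), h2, Nat.card_zpowers, w3], ?_⟩
  · obtain ⟨_, hg', e⟩ := a7_oc hD' h _ (coset_mem_quo _ ha) _ (coset_mem_quo _ hb) (k1 ha a1 a2)
      (k2 ha a2) (k1 hb b1 b2) (k2 hb b2)
    obtain ⟨g, hg, -, rfl⟩ := mem_quo.1 hg'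
    have h3 := mul_mem (mul_mem hg ha) (inv_mem hg)
    rw [← coset_conj (n hg) (n ha), coset_eq_iff (n h3) (n hb), inv_eq (conj_sq a2 g)] at e
    obtain ⟨j, e'⟩ := BSW.exists_conj_of_odd (conj_sq a2 g) b2 (odd_of_mem (odd_O X) e)
    exact ⟨_, mul_mem (pow_mem (mul_mem h3 hb) j) hg, (mul_cj _ _ _).trans e'.symm⟩
  obtain ⟨x, hx, xn, rfl⟩ := mem_quo.1 ((quo_cent ht t2).ge ⟨hv, p.e_mem⟩)
  obtain ⟨m, hm⟩ := odd_of_mem (odd_O X) ((coset_eq_one_iff (mul_mem xn xn)).1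
    ((coset_mul xn xn).trans p.e2))
  have h3 : coset (O X) (x ^ (2 * m + 1)) = coset (O X) x := by
    rw [coset_pow xn, pow_succ, pow_mul, sq, p.e2, one_pow, one_mul]
  have h4 := pow_mem hx (2 * m + 1)
  refine ⟨_, h4.1, f4_of_mem t1 t2 (fun e => p.e1 (by rw [← h3, e, coset_one])) (by
    rw [← (Commute.refl x).mul_pow, ← hm, pow_orderOf_eq_one]) h4.2 fun e => p.ne (by rw [← h3, e]), ?_⟩
  rw [comm_le_iff hU h4.1, h2, h3]
  exact zpowers_le.2 (cent_le_cent1 (s_mem_S4 _ _) wV)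

theorem four_lift (h : In X t) (hc : O X ≤ 𝐂[t]) (hs : Sm (X ⁒ O X)) :
    X ≤ 𝐂[t] ∨ ∃ v ∈ X, F4 t v ∧ X ≤ 𝐍(S4 t v) := by
  have hD' := hD.coset (O X)
  have n := O_norm X
  have h' := in_quo h
  rcases hs with hs | ⟨v, e, p, h1, -⟩
  · have h1 := mem_normal hD' h' (NormalIn.refl _).Zc (even_of_ne_bot (O_quo X) (NormalIn.refl _).Zc
      (Zc_ne_bot (nil_of_isPGroup hs) fun e => h'.t1 (mem_bot.1 (e ▸ h'.mem))))
    exact .inl (((quo_le_quo_iff_le_sup n (inf_le_left.trans n)).1 ((le_inf le_rfl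
      (le_cent1_iff.2 h1.2)).trans (quo_cent h.mem h.t2).ge)).trans (sup_le inf_le_right hc))
  refine or_iff_not_imp_left.2 fun e' => ?_
  obtain ⟨g, hg, g1⟩ := SetLike.not_le_iff_exists.1 e'
  have h2 := mem_normal hD' h' h1 (by rw [p.card]; decide)
  have h3 : t ∈ X ⊓ 𝐂(O X) := ⟨h.mem, le_cent1_iff.1 hc⟩
  have h4 := (Opi_normal _ X : O X ⊴ X).cent.conj_mem hg h3
  have h5 := h1.conj_mem (coset_mem_quo _ hg) h2
  have h6 := conj_sq h.t2 g
  have h7 := conj_ne_one (g := g).2 h.t1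
  have h8 : g * t * g⁻¹ ≠ t := fun e => g1 (mem_cent1_iff_conj.2 e)
  rw [← coset_conj (n hg) (n h.mem)] at h5
  generalize g * t * g⁻¹ = y at *
  have h9 := mul_mem h.mem h4.1
  have h10 := (coset_eq_one_iff (n (mul_mem h9 h9))).1 (by
    rw [coset_mul (n h9) (n h9), coset_mul (n h.mem) (n h4.1)]; exact p.sq (mul_mem h2 h5))
  have h11 := ZG.eq_one_of_inv (odd_of_mem (odd_O X) h10) ((mem_cent1_iff_conj.1
    (mem_cent1_comm.1 (hc h10))).symm.trans (by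
      simp only [mul_inv_rev, inv_eq h.t2, inv_eq h6, ← mul_assoc, h.t2, one_mul]))
  have q : F4 t y := f4_of_mem h.t1 h.t2 h7 h6 (mem_cent1.2 (by
    rw [← inv_eq_of_mul_eq_one_right h11, mul_inv_rev, inv_eq h.t2, inv_eq h6])) h8
  have hV := S4_le.2 ⟨h3, h4⟩
  have h12 := (hV.trans inf_le_left).trans n
  have h13 : O X ≤ 𝐍(S4 t y) := le_norm_of_le_cent (le_cent_symm (hV.trans inf_le_right))
  refine ⟨y, h4.1, q, (le_norm_sup_of_quo n h12 ?_).trans (IsSylowIn.norm_le_norm_of_normal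
    ⟨le_sup_left, q.two, ?_⟩ (sup_le (le_norm_self _) h13))⟩
  · rw [S4_quo (n h.mem) (n h4.1), eq_of_le_of_card_le (S4_le.2 ⟨h2, h5⟩) (by
      rw [p.card, (f4_quo q h.mem h4.1).card])]
    exact h1.norm
  · rw [relIndex_sup_eq' (.inr h13)]
    exact fun e => (odd_O X).not_two_dvd_nat (e.trans (relIndex_dvd_card _ _))

theorem red_quo (ih : IH.{u} (Nat.card G)) (hX : X ≠ ⊤) :
    Sm (X ⁒ O X) ∨ A7T (X ⁒ O X) ∨ ∃ L, PG (X ⁒ O X) L ∧ Cp (X ⁒ O X) L :=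
  (red (hD.coset _) ih ((card_quo_le _ _).trans_lt (card_top (G := G) ▸ card_lt hX.lt_top))
    (O_quo X)).imp_right (.imp_right fun ⟨L, h⟩ => ⟨L, h, Cq.cp_of_pg h (hD.coset _) co (O_quo X)⟩)

theorem k3 (ih : IH.{u} (Nat.card G)) (hX : X ≠ ⊤) (h : In X t) (he : e ∈ X) (q : F4 t e) :
    (∀ p : ℕ, p.Prime → p ≠ 2 → Op p (X ⁒ O X ⊓ 𝐂[coset (O X) t]) ⊓ 𝐂[coset (O X) e] ≤ ⊥) ∨ A7 X t := by
  have h' := in_quo h
  rcases red_quo hD ih hX with h1 | h1 | ⟨L, h1, c⟩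
  · refine .inl fun p hp p2 => inf_le_left.trans ?_
    have := Fact.mk hp
    exact (le_O (Op_normal _ _) (odd_of_isPGroup p2 (Op_isPGroup _ _))).trans
      (h1.O_eq (hD.coset _) h'.mem h'.t2).le
  · exact .inr (a7_lift hD h.mem h.t1 h.t2 h1)
  · exact .inl fun p hp p2 => (c.psl _ (Cq.mem_of_in h1 (hD.coset _) h') _ (coset_mem_quo _ he)
      (f4_quo q h.mem he) p hp p2).trans (O_quo X).le

end Kf

open Kf in
theorem kfp_of (cp : ∀ (G : Type u) [Group G] [Finite G] (N : Subgroup G) (t : G)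
    (L : Subgroup (Coset (O N))), DH G → In N t → O N ≤ 𝐂[t] → PG (N ⁒ O N) L → ∃ L, Cp N L ∧ t ∈ L) :
    KFP.{u} := fun G _ _ hD ih => by
  refine ⟨fun X hX u hu u1 u2 p hp p2 P hP h1 h2 => ?_, fun X hX t ht e he q Q hQ ho h1 h2 => ?_,
    fun X hX t h e he q p hp p2 => (k3 hD ih hX h he q).imp_left fun k => (quo_eq_bot_iff
      ((inf_le_left.trans ((Op_le _ _).trans inf_le_left)).trans (O_norm X))).1 (eq_bot_iff.2 ((le_inf
        ((quo_mono _ inf_le_left).trans (quo_cent h.mem h.t2 ▸ quo_Op_le _ _ _))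
        ((quo_mono _ inf_le_right).trans (quo_cent1_le (O_norm X he)))).trans (k p hp p2))),
    fun X hX t h hc => ?_, fun X hX t h e he q h1 => (k3 hD ih hX h he q).imp_left fun k => ?_⟩
  · have := Fact.mk hp
    have hD' := hD.coset (O X)
    have k1 := coset_mem_quo (O X) hu
    have k2 := coset_ne_one (odd_O X) (O_norm X hu) u1 u2
    have k3 := coset_sq (O_norm X hu) u2
    have k4 := quo_mono (O X) hP
    have k5 := odd_quo (odd_of_isPGroup p2 h1) (O X)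
    have k6 := quo_cent hu u2 ▸ quo_le_norm (O X) h2
    rw [comm_le_iff hP hu]
    rcases red_quo hD ih hX with h | h | ⟨L, h, c⟩
    exacts [(h.eq_bot hD' k1 k3 k4 k5 k6).le.trans bot_le, a7_k1 hD' h k1 k2 k3 k4 k5 k6,
      pg_k1 hD' h c (O_quo X) k1 k2 k3 k4 k5 k6]
  · have hD' := hD.coset (O X)
    have q' := f4_quo q ht he
    have k1 := coset_mem_quo (O X) ht
    have k2 := (hQ.trans inf_le_left).trans (O_norm X)
    have k3 := hD'.le_O q'.t1 q'.t2 inf_le_right (quo_cent ht q.t2 ▸ quo_mono (O X) hQ) (odd_quo ho _)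
    have : IsCyclic (Q ⁒ O X : Subgroup _) := by
      rcases red_quo hD ih hX with h | h | ⟨L, -, c⟩
      · exact isCyclic_of_le' (B := ⊥) inferInstance (k3.trans (h.O_eq hD' k1 q'.t2).le)
      · obtain ⟨-, v, -, w, hw, -, -, w3, wV, -⟩ := h.loc _ k1 q'.t1 q'.t2
        exact isCyclic_of_le' inferInstance (k3.trans (a7_O hD' h k1 q'.t1 q'.t2
          ⟨hw, cent_le_cent1 (t_mem_S4 _ _) wV⟩ w3).le)
      · have k4 := quo_commutator k2 (zpowers_le.2 (O_norm X he))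
        rw [h1, quo_zpowers (O_norm X he)] at k4
        refine isCyclic_of_le' (c.cyc _ k1 q'.t1 q'.t2) (k4.le.trans ((commutator_mono k3 le_rfl).trans
          ((c.comm _ k1 _ (coset_mem_quo _ he) q').trans ?_)))
        rw [O_quo, sup_bot_eq]
    exact isCyclic_of_injective (quoOnto k2) ((MonoidHom.ker_eq_bot_iff _).1 (by
      rw [ker_quoOnto, ← inf_subgroupOf_right, h2, bot_subgroupOf]))
  · rcases red_quo hD ih hX with h1 | h1 | ⟨L, h1, -⟩
    exacts [(four_lift hD h hc h1).imp_right .inl, .inr (.inr (.inl (a7_lift hD h.mem h.t1 h.t2 h1))),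
      .inr (.inr (.inr (cp G X t L hD h hc h1)))]
  · have h2 := (quo_mono (O X) h1).trans (quo_cent1_le (O_norm X he))
    rw [← quo_eq_bot_iff (((Opi_le _ _).trans inf_le_left).trans (O_norm X))]
    rw [quo_O hD h.mem h.t1 h.t2] at h2 ⊢
    refine by_contra fun e' => Fit_ne_bot (sol_of_odd (odd_O _)) e' (eq_bot_iff.2
      (Fit_le_of_forall fun p hp => ?_))
    by_cases p2 : p = 2
    · exact (p2 ▸ Op_eq_bot (odd_O _).not_two_dvd_nat).le
    · exact (le_inf (Op_le_of_normal p (Opi_normal _ _)) ((Op_le _ _).trans h2)).trans (k p hp.out p2)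

end Cfsg.Agent.GW2
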