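import Cfsg.Agent.Lib.GW2.D1

/-!
# Automorphisms of odd order of `L₂(q)` and the centralizer of an involution
-/

set_option autoImplicit false
set_option linter.unusedSectionVars false

namespace Cfsg.Agent.GW2

open Subgroup Cfsg.Agent.OO Cfsg.Agent.Coprime GW
open scoped commutatorElement Pointwise

universe u

variable {G : Type u} [Group G] [Finite G] {L Q X : Subgroup G} {a e t u v w x ρ : G} {p : ℕ}

namespace PG

variable (h : PG X L)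
include h

/-- no element of odd order of `L` is centralized by a four-group of `X` -/
theorem eq_one4 (k : F4 u v) (hu : u ∈ X) (hv : v ∈ X) (hx : x ∈ L ⊓ 𝐂[u] ⊓ 𝐂[v])
    (ho : Odd (orderOf x)) : x = 1 := by_contra fun x1 =>
  k.ne (h.ui x hx.1.1 ho x1 u ⟨hu, mem_cent1_comm.1 hx.1.2⟩ v ⟨hv, mem_cent1_comm.1 hx.2⟩
    k.t1 k.t2 k.e1 k.e2)

theorem inf_eq_bot4 (k : F4 u v) (hu : u ∈ X) (hv : v ∈ X) (hQ : Q ≤ L ⊓ 𝐂[u]) (ho : Odd ♯Q) :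
    Q ⊓ 𝐂[v] = ⊥ := eq_bot_iff.2 fun _ hx => h.eq_one4 k hu hv ⟨hQ hx.1, hx.2⟩ (odd_of_mem ho hx.1)

variable (hD : DH G)
include hD

theorem cent_le4 (k : F4 t e) (ht : t ∈ L) (he : e ∈ L) : L ⊓ 𝐂[t] ⊓ 𝐂[e] ≤ S4 t e := by
  have h1 := ((hD.pair_cent k).mono' (Y := L ⊓ 𝐂[t] ⊓ 𝐂[e]) (le_inf (le_inf (S4_le.2 ⟨ht, he⟩) k.le_cent)
    k.le_cent') (inf_le_inf_right _ inf_le_right)).sdprod_of_cent (inf_le_left.trans inf_le_right)
  rw [← h1.sup_eq, sup_le_iff]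
  exact ⟨fun x hx => h.eq_one4 k (h.normal.le ht) (h.normal.le he) (Opi_le _ _ hx)
    (odd_of_mem (odd_O _) hx) ▸ one_mem _, le_rfl⟩

theorem exists_rot_cent (k : F4 t e) (ht : t ∈ L) (he : e ∈ L) (hw : w ∈ X) (ho : Odd (orderOf w))
    (h1 : w ∈ 𝐂[t]) (h2 : w ∈ 𝐂[e]) : ∃ ρ ∈ L ⊓ 𝐂[w], Rot t e ρ := by
  obtain ⟨ρ, hρ, r⟩ := hD.exists_rot (hD.oc h.good.perfect) k ht he
  have hc : zpowers w ≤ 𝐂(S4 t e) := cent_S4 t e ▸ zpowers_le.2 ⟨h1, h2⟩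
  obtain ⟨y, hy, hy'⟩ := coprime_cent_lift (le_norm_of_le_cent hc) (k.coprime (by
    rwa [Nat.card_zpowers])).symm (.inl (sol_of_ab k.ab)) r.mem_norm fun a ha => h.cent_le4 hD k ht he
      (by rw [inf_assoc, ← cent_S4]; exact ⟨commutator_le_left' ((zpowers_le.2 hw).trans
        h.normal.norm) (commutator_mem_commutator hρ ha), commutator_le_right'
          (norm_le_norm_cent _) (commutator_mem_commutator r.mem_norm (hc ha))⟩)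
  exact ⟨_, ⟨mul_mem (S4_le.2 ⟨ht, he⟩ hy) hρ, cent_zpowers w ▸ hy'⟩,
    r.mul_left ⟨k.le_cent hy, k.le_cent' hy⟩⟩

theorem red (k : Pair L t e) (r : Rot t e ρ) (hρ : ρ ∈ L) : Red (L ⊔ O (X ⊓ 𝐂[t])) L t e ρ :=
  have h1 : L ⊔ O (X ⊓ 𝐂[t]) ≤ X := sup_le h.normal.le ((Opi_le _ _).trans inf_le_left)
  ⟨fun e => k.not_dvd ((Nat.Coprime.pow_left 3 (Nat.coprime_two_left.2 (odd_O _))).dvd_of_dvd_mul_right
    (e.trans (card_sup_dvd (.inr (((Opi_le _ _).trans inf_le_left).trans h.normal.norm))))),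
    h.normal.mono le_sup_left h1, h.good, r.v4 k hρ, eq_bot_iff.2 (h.cent ▸ inf_le_inf_right _ h1)⟩

theorem oc_cent (k : Cf L a e t) (hw : w ∈ X) (ho : Odd (orderOf w)) (hc : S4 a e ≤ 𝐂[w]) :
    OC (L ⊓ 𝐂[w]) := by
  have h1 := fun x (hx : x ∈ L) (e : x ∈ S4 a e) => mem_cent1_comm.1 (hc e)
  have h2 := h1 t k.t_mem (mem_sup_left k.ta)
  obtain ⟨ρ, hρ, r⟩ := h.exists_rot_cent hD k.f4 k.t_mem k.s_mem hw ho h2 (h1 _ k.s_mem (s_mem_S4 a e))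
  obtain ⟨ρ', hρ', r'⟩ := h.exists_rot_cent hD k.f4' k.t_mem k.as_mem hw ho h2
    (h1 _ k.as_mem (mul_mem (t_mem_S4 a e) (s_mem_S4 a e)))
  exact (k.mono (le_inf k.le hc) inf_le_left).oc_of_rot hρ r.ρt hρ' r'.ρt

variable (co : CO.{u})
include co

/-- J2 -/
theorem eq_one_of_cent (ht : t ∈ L) (t1 : t ≠ 1) (t2 : t * t = 1) (hw : w ∈ X) (ho : Odd (orderOf w))
    (hc : L ⊓ 𝐂[t] ≤ 𝐂[w]) : w = 1 := by
  have o := hD.oc h.good.perfect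
  obtain ⟨t', ht', e', he', k'⟩ := hD.exists_f4' h.good.smp fun e => t1 (mem_bot.1
    ((h.good.perfect.symm.trans (ab_iff_der.1 e)).le ht))
  obtain ⟨g, hg, rfl⟩ := o t' ht' t ht k'.t1 k'.t2 t1 t2
  have k := k'.conj g
  have he := mul_mem (mul_mem hg he') (inv_mem hg)
  have h1 := mem_cent1_comm.1 (hc ⟨ht, mem_cent1_self _⟩)
  obtain q | ⟨a, q⟩ := hD.pair_or_cf' k ht he o
  · obtain ⟨ρ, hρ, r⟩ := h.exists_rot_cent hD k ht he hw ho h1 (mem_cent1_comm.1 (hc ⟨he, k.e_mem⟩))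
    exact (h.red hD q r hρ.1).eq_one_of_cent charO (mem_sup_right ((hD.mem_O t1 t2 inf_le_right).2
      ⟨⟨hw, h1⟩, ho⟩)) ho hc hρ.2
  · exact mem_bot.1 (h.cent ▸ (⟨hw, le_cent1_iff.1 ((q.o1 co inf_le_left (le_inf inf_le_left hc)
      (h.oc_cent hD q hw ho (q.cent.le.trans hc))).trans inf_le_right)⟩ : w ∈ X ⊓ 𝐂(L)))

theorem eq_one_of_mem_Op [hp : Fact p.Prime] (k : Cf L a e t) (h2 : p ≠ 2)
    (hw : w ∈ Op p (X ⊓ 𝐂[t])) (hs : w ∈ 𝐂[e]) (h1 : w ^ p = 1) : w = 1 := by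
  by_contra h0
  have hwo := orderOf_eq_prime h1 h0
  have ho : Odd (orderOf w) := hwo ▸ hp.out.odd_of_ne_two h2
  have hw' := Op_le _ _ hw
  have tX := h.normal.le k.t_mem
  obtain ⟨P, hP⟩ : ∃ P, P = Op p (X ⊓ 𝐂[t]) ⊓ L := ⟨_, rfl⟩
  have hPo : Odd ♯(Op p (X ⊓ 𝐂[t])) := odd_of_isPGroup h2 (Op_isPGroup _ _)
  have hPo' : Odd ♯P := odd_of_le hPo (hP ▸ inf_le_left)
  have hPL : P ≤ L ⊓ 𝐂[t] := hP ▸ le_inf inf_le_right (inf_le_left.trans ((Op_le _ _).trans inf_le_right))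
  have hLt : L ⊓ 𝐂[t] ≤ X ⊓ 𝐂[t] := inf_le_inf_right _ h.normal.le
  have hLn := hLt.trans (Op_normal p _).norm
  have hc : ⁅Op p (X ⊓ 𝐂[t]), L ⊓ 𝐂[t]⁆ ≤ P := hP ▸ le_inf (commutator_le_left' hLn)
    ((commutator_mono ((Op_le _ _).trans inf_le_left) inf_le_left).trans
      (commutator_le_right' h.normal.norm))
  have hS : S4 a e ≤ 𝐂[w] := by
    have h3 := fun f (hf : f ∈ L) (q : F4 t f) x (hx : x ∈ P) => conj_eq_inv q.e2 (hP ▸ mem_norm_inf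
      (hLn ⟨hf, q.e_mem⟩) (le_norm_self L hf)) (h.inf_eq_bot4 q tX (h.normal.le hf) hPL hPo') hx
    have h4 : zpowers a ≤ 𝐂(P) := zpowers_le.2 (mem_cent_iff_conj.2 fun x hx => by
      have e := h3 _ k.as_mem k.f4' _ (inv_mem hx)
      rwa [mul_cj, h3 _ k.s_mem k.f4 _ (inv_mem hx), inv_inv] at e)
    have h5 := zpowers_le.2 k.cent.a_mem
    refine S4_le.2 ⟨cent_le_cent1 hw (coprime_commGG1P (h5.trans hLn) (coprime_of_isPGroup_ne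
      (Op_isPGroup _ _) (k.two.to_le le_sup_left) h2) (.inl (sol_of_odd hPo)) (commutator_eq_bot_iff'.2
        (h4.trans (cent_anti ((commutator_mono le_rfl h5).trans hc)))) (mem_zpowers a)),
      mem_cent1_comm.1 hs⟩
  have hR : P ⊔ zpowers w ≤ Op p (X ⊓ 𝐂[t]) := sup_le (hP ▸ inf_le_left) (zpowers_le.2 hw)
  have hn : L ⊓ 𝐂[t] ≤ 𝐍(Ohm p (P ⊔ zpowers w)) := le_norm_Ohm p (commutator_le_left_iff.1
    (le_sup_of_le_left ((commutator_mono hR le_rfl).trans hc)))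
  have hab : Ab (Ohm p (P ⊔ zpowers w)) := by
    by_cases e : IsCyclic ↥(P ⊔ zpowers w)
    · exact ab_of_le (ab_of_isCyclic e) (Ohm_le _ _)
    obtain ⟨x, hx⟩ := exists_zpowers_eq (h.good.cyc t k.t_mem k.t1 k.t2 P hPL hPo')
    refine (Ohm1_extremal_odd ((Op_isPGroup _ _).to_le hR) (odd_of_le hPo hR) e
      (mem_sup_left (hx ▸ mem_zpowers x)) ?_).ab
    rw [hx, relIndex_sup_eq' (.inr (hP ▸ zpowers_le.2 (mem_norm_inf (le_norm_self _ hw)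
      (h.normal.norm hw'.1)))), ← hwo, ← Nat.card_zpowers, ← card_inf_mul_relIndex P, inf_comm,
      inf_eq_bot_of_prime (by rw [Nat.card_zpowers, hwo]; exact hp.out) fun e => h0 (h.eq_one4 k.f4 tX
        (h.normal.le k.s_mem) ⟨hPL (e (mem_zpowers w)), hs⟩ ho), card_bot, one_mul]
  have hwΩ := mem_Ohm (mem_sup_right (mem_zpowers w) : w ∈ P ⊔ zpowers w) h1
  have hΩ := (Ohm_le p _).trans hR
  have hQ : Ohm p (P ⊔ zpowers w) ⊓ L ≤ L ⊓ 𝐂[w] ⊓ 𝐂[t] := le_inf (le_inf inf_le_right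
    (inf_le_left.trans (hab.le_cent.trans (cent_le_cent1 hwΩ))))
    (inf_le_left.trans (hΩ.trans ((Op_le _ _).trans inf_le_right)))
  have hQo := odd_of_le hPo (inf_le_left.trans hΩ : _ ⊓ L ≤ _)
  have key : ∀ g ∈ L ⊓ 𝐂[t], g * w * g⁻¹ * w⁻¹ ∈ Ohm p (P ⊔ zpowers w) ⊓ L := fun g hg =>
    ⟨Subgroup.mul_mem _ (conj_mem_of_norm (hn hg) hwΩ) (inv_mem hwΩ), commutator_le_left'
      ((zpowers_le.2 hw'.1).trans h.normal.norm) (commutator_mem_commutator hg.1 (mem_zpowers w))⟩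
  have h4 : ∀ f ∈ L, F4 t f → (L ⊓ 𝐂[w]).relIndex (L ⊓ 𝐂[t]) ≤ kI (L ⊓ 𝐂[w]) t f := fun f hf q => by
    refine le_trans ?_ (card_le_kI hQ (h.inf_eq_bot4 q tX (h.normal.le hf)
      (hQ.trans (inf_le_inf_right _ inf_le_left)) hQo))
    rw [← inf_relIndex_right, inf_comm L, inf_assoc, ← inf_assoc L, inf_idem, inf_relIndex_right,
      ← ncard_conj]
    refine Set.ncard_le_ncard_of_injOn (· * w⁻¹) ?_ (mul_left_injective _).injOn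
    rintro _ ⟨g, hg, rfl⟩
    exact key g hg
  have h5 := le_inf k.le hS
  refine h0 (h.eq_one_of_cent hD co k.t_mem k.t1 k.t2 hw'.1 ho ((k.count co inf_le_left h5
    (h.oc_cent hD k hw'.1 ho hS) ((h.cent_le4 hD k.f4 k.t_mem k.s_mem).trans (k.four_le.trans h5))
    ((h.cent_le4 hD k.f4' k.t_mem k.as_mem).trans (k.four_le'.trans h5)) (fun g hg hgJ x hx e => ?_)
    (h4 _ k.s_mem k.f4) (h4 _ k.as_mem k.f4')).trans inf_le_right))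
  have h6 := mul_mem (mul_mem hx (h5 (mem_sup_left k.ta))) (inv_mem hx)
  refine h.good.ui _ (key g hg).2 (odd_of_mem hQo (key g hg)) (fun e => hgJ ⟨hg.1,
    mem_cent1_iff_conj.2 (mul_inv_eq_one.1 e)⟩) _ ⟨h6.1, mem_cent1_comm.1 (mul_mem ?_
      (inv_mem (mem_cent1_comm.1 h6.2)))⟩ t ⟨k.t_mem, mem_cent1_comm.1 (hQ (key g hg)).2⟩
      (conj_ne_one.2 k.t1) (conj_sq k.t2 x) k.t1 k.t2
  rw [mem_cent1_comm, cent1_conj, mem_conj]
  exact e.2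

theorem psl_inner (hp : p.Prime) (h2 : p ≠ 2) (ht : t ∈ L) (he : e ∈ L) (k : F4 t e) :
    Op p (X ⊓ 𝐂[t]) ⊓ 𝐂[e] = ⊥ := by
  have := Fact.mk hp
  by_contra h0
  obtain ⟨w, hw, e1⟩ := cauchy hp (dvd_card_of_isPGroup ((Op_isPGroup p _).to_le inf_le_left) h0)
  have h1 : w ^ p = 1 := e1 ▸ pow_orderOf_eq_one w
  refine hp.one_lt.ne (e1 ▸ (orderOf_eq_one_iff.2 ?_).symm)
  obtain q | ⟨a, q⟩ := hD.pair_or_cf' k ht he (hD.oc h.good.perfect)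
  · obtain ⟨ρ, hρ, r⟩ := hD.exists_rot (hD.oc h.good.perfect) k ht he
    have h3 := Op_le _ _ hw.1
    exact (h.red hD q r hρ).eq_one_of_mem_Op charO h2 (Op_inf_le p (inf_le_inf_right _ (sup_le
      h.normal.le ((Opi_le _ _).trans inf_le_left))) ⟨hw.1, mem_sup_right ((hD.mem_O k.t1 k.t2
        inf_le_right).2 ⟨h3, e1 ▸ hp.odd_of_ne_two h2⟩), h3.2⟩) hw.2 h1
  · exact h.eq_one_of_mem_Op hD co q h2 hw.1 hw.2 h1

theorem Op_le_L (hp : p.Prime) (h2 : p ≠ 2) (ht : t ∈ L) (t1 : t ≠ 1) (t2 : t * t = 1) :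
    Op p (X ⊓ 𝐂[t]) ≤ L := by
  have := Fact.mk hp
  obtain ⟨t', ht', e', he', k'⟩ := hD.exists_f4' h.good.smp fun e => t1 (mem_bot.1
    ((h.good.perfect.symm.trans (ab_iff_der.1 e)).le ht))
  obtain ⟨g, hg, rfl⟩ := hD.oc h.good.perfect t' ht' t ht k'.t1 k'.t2 t1 t2
  have k := k'.conj g
  have he := mul_mem (mul_mem hg he') (inv_mem hg)
  exact (commutator_eq_of_inf_eq_bot k.e2 ((Op_normal p (X ⊓ _)).norm ⟨h.normal.le he, k.e_mem⟩)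
    (odd_of_isPGroup h2 (Op_isPGroup _ _)) (h.psl_inner hD co hp h2 ht he k)).ge.trans
    ((commutator_mono ((Op_le _ _).trans inf_le_left) (zpowers_le.2 he)).trans
      (commutator_le_right' h.normal.norm))

/-- Lemma PSL -/
theorem psl (hp : p.Prime) (h2 : p ≠ 2) (ht : t ∈ L) (he : e ∈ X) (k : F4 t e) :
    Op p (X ⊓ 𝐂[t]) ⊓ 𝐂[e] = ⊥ :=
  have := Fact.mk hp
  h.inf_eq_bot4 k (h.normal.le ht) he (le_inf (h.Op_le_L hD co hp h2 ht k.t1 k.t2)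
    ((Op_le _ _).trans inf_le_right)) (odd_of_isPGroup h2 (Op_isPGroup _ _))

end PG

end Cfsg.Agent.GW2
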