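import Cfsg.Agent.Lib.GW2.RealC
import Cfsg.Agent.Lib.GW2.Hyp
import Cfsg.Agent.Lib.JR.Main

/-!
# Package REAL: real elements of prime order in groups of Ree type
-/

set_option autoImplicit false
set_option linter.unusedSectionVars false

namespace Cfsg.Agent.GW2

open Subgroup Cfsg.Agent.OO Cfsg.Agent.Coprime Cfsg.Agent.GW Cfsg.Agent.JR Finset Classical
open scoped Pointwise

universe u

namespace Rl

variable {G : Type u} [Group G] [Fintype G] {A B K L P Q S T X : Subgroup G} {g j t u v w y z : G}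
  {l q r k m : ℕ}

theorem su (f : G → ℕ) (a b : Finset G) : ∑ z ∈ a ∪ b, f z ≤ ∑ z ∈ a, f z + ∑ z ∈ b, f z :=
  sum_union_inter (f := f) ▸ Nat.le_add_right _ _

theorem sb (f : G → ℕ) (I : Finset ℕ) (Y : ℕ → Finset G) :
    ∑ z ∈ I.biUnion Y, f z ≤ ∑ n ∈ I, ∑ z ∈ Y n, f z := by
  induction I using Finset.induction_on with
  | empty => simp
  | insert a I ha ih => rw [biUnion_insert, sum_insert ha]; exact (su f _ _).trans (by omega)

theorem real_of (hl : l.Prime) (hd : l ∣ ♯A) (h : ∀ y ∈ A, u * y * u⁻¹ = y⁻¹) :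
    ∃ y g : G, orderOf y = l ∧ g * y * g⁻¹ = y⁻¹ :=
  let ⟨y, hy, e⟩ := cauchy hl hd
  ⟨y, u, e, h y hy⟩

namespace Cx

variable (h : Cx t v j L S P T Q K X q r k m)
include h

section

variable (a : TA t A)
include a

theorem oddA : Odd ♯A := Nat.coprime_two_right.1 (a.cop.coprime_dvd_right ⟨_, h.card_cent⟩)

theorem fiveA : 5 ≤ ♯A := by
  have h1 := h.oddA a
  have h2 : ♯A ≠ 1 := fun e => a.ne (card_eq_one_iff.1 e)
  have h3 : ♯A ≠ 3 := fun e => absurd (Nat.eq_one_of_dvd_coprimes a.cop e.symm.dvd (by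
    rw [h.cardC]; exact ((h.num.2.2.2.mul_left 8).mul_right r).mul_right k)) (by norm_num)
  obtain ⟨i, hi⟩ := h1
  omega

theorem dvd_m : ♯A ∣ m := by
  have h1 := a.cop
  have h2 := card_subgroup_dvd_card A
  rw [h.cardC] at h1
  rw [h.hG, show q ^ 3 * (4 * k) * (2 * r) * m = 8 * q * r * k * (q ^ 2 * m) by ring] at h2
  exact ((h1.coprime_dvd_right ⟨8 * r * k, by ring⟩).pow_right 2).dvd_of_dvd_mul_left
    (h1.dvd_of_dvd_mul_left h2)

theorem two_dvd : 2 ∣ A.relIndex 𝐍(A) := by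
  obtain ⟨u, u1, u2, e⟩ := a.inv
  have h1 := orderOf_dvd_card (mem_norm_of_conj_mem fun y hy => e y hy ▸ inv_mem hy : u ∈ 𝐍(A))
  rw [C2.orderOf_two u1 u2, ← card_mul_relIndex (le_norm_self A)] at h1
  exact (Nat.coprime_two_left.2 (h.oddA a)).dvd_of_dvd_mul_left h1

theorem not_four : ¬ 4 ∣ A.relIndex 𝐍(A) := fun e =>
  Ind.no_four (fun _ => h.sq_of_piElt) (h.oddA a) a.ne (fun _ u1 u2 =>
    (disjoint_of_coprime_natCard (h.cardC' u1 u2 ▸ a.cop)).eq_bot) (e.trans (relIndex_dvd_card _ _))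

theorem ne_two' : A.relIndex 𝐍(A) ≠ 2 := fun e => by
  obtain ⟨n1, n2, n3, -⟩ := h.num
  have h1 := a.sc.lower
  have h2 := h.scD.lower
  have h3 := SC.lower h.loc.cent
  have h4 := a.sc.card_big (h.oddA a)
  have h5 := h.bigD
  have h6 := h.bigK
  have h7 := h.fiveA a
  obtain ⟨i, hi⟩ := h.oddA a
  have h8 := card_le_univ (cl (big A) ∪ (cl (big (𝐂[t] ⊓ 𝐂(T))) ∪ cl (big K)))
  rw [card_union_of_disjoint (disjoint_left.2 fun z h1 h2 => by
    have e1 := a.sc.card_cent h1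
    rcases mem_union.1 h2 with e2 | e2
    · have := h.cardD ▸ h.scD.card_cent e2; omega
    · have := h.loc.card ▸ SC.card_cent h.loc.cent e2; omega),
    card_union_of_disjoint (disjoint_left.2 fun z h1 h2 => by
      have := h.cardD ▸ h.scD.card_cent h1
      have := h.loc.card ▸ SC.card_cent h.loc.cent h2
      omega), ← Nat.card_eq_fintype_card] at h8
  rw [← card_mul_relIndex (le_norm_self A), e, ← h4] at h1
  rw [h.normD] at h2
  rw [h.normK] at h3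
  have h9 : 0 < Nat.card G := Nat.card_pos
  generalize Nat.card G = N, #(cl (big A)) = c1, #(cl (big (𝐂[t] ⊓ 𝐂(T)))) = c2, #(cl (big K)) = c3,
    #(big A) = b1, #(big (𝐂[t] ⊓ 𝐂(T))) = b2, #(big K) = b3 at *
  obtain ⟨b1, rfl⟩ : ∃ c, b1 = c + 4 := ⟨b1 - 4, by omega⟩
  obtain ⟨r, rfl⟩ : ∃ c, r = c + 13 := ⟨r - 13, by omega⟩
  obtain ⟨k, rfl⟩ : ∃ c, k = c + 7 := ⟨k - 7, by omega⟩
  obtain rfl : b2 = 2 * r + 24 := by omega
  obtain rfl : b3 = 4 * k + 24 := by omega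
  have e1 : 2 * N ≤ 5 * c1 := by by_contra! e1; nlinarith
  have e2 : 6 * N ≤ 13 * c2 := by by_contra! e2; nlinarith
  have e3 : N ≤ 7 * c3 := by by_contra! e3; nlinarith
  omega

theorem cong : ∃ b, ♯A * b = m ∧ (♯A : ℤ) ∣ A.relIndex 𝐍(A) * (q + 1) - 3 * b := by
  obtain ⟨n1, n2, n3, -⟩ := h.num
  obtain ⟨b, hb⟩ := h.dvd_m a
  obtain ⟨c, hc⟩ := a.sc.dvd_index (h.oddA a)
  have h1 := 𝐍(A).card_mul_index
  have h2 := Nat.pos_of_ne_zero (index_ne_zero_of_finite (H := 𝐍(A)))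
  have h3 := h.hm
  rw [← card_mul_relIndex (le_norm_self A), h.hG, hb, show 𝐍(A).index = ♯A * c + 1 by omega, mul_assoc,
    mul_left_comm _ ♯A] at h1
  have h4 := Nat.eq_of_mul_eq_mul_left (card_pos' A) h1
  refine ⟨b, hb.symm, -(q + 1) * A.relIndex 𝐍(A) * c + b * b * (q ^ 4 + 2 * q ^ 3 - 3 * q - 3), ?_⟩
  rw [hb] at h3
  zify at n1 n2 h3 h4
  rw [← n1, show 2 * (r : ℤ) = q - 1 by omega] at h4
  linear_combination (q + 1) * h4 - b * (q ^ 4 + 2 * q ^ 3 - 3 * q - 3) * h3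

theorem sum_le : (∑ z ∈ cl (big A), cc z : ℕ) ≤ (Nat.card G : ℚ) * ((♯A - 1) / A.relIndex 𝐍(A)) := by
  have h1 := a.sc.upper
  rw [← card_mul_relIndex (le_norm_self A), mul_assoc, mul_comm _ ♯A, mul_left_comm _ ♯A] at h1
  have h2 := Nat.le_of_mul_le_mul_left h1 (card_pos' A)
  rw [← a.sc.card_big (h.oddA a), ← mul_div_assoc, le_div_iff₀ (by exact_mod_cast relIndex_pos _ _), mul_comm]
  push_cast
  rw [add_sub_cancel_right]
  exact_mod_cast h2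

end

theorem sum3 : ∑ z ∈ cl {z | ∃ w ∈ zpowers z, w ∈ Q ∧ w ≠ 1}, cc z ≤
    4 * k * m * (q ^ 2 * (q ^ 2 - 1)) := by
  have h1 := (upper (N := 𝐍(Q)) (Y := {z | ∃ w ∈ zpowers z, w ∈ Q ∧ w ≠ 1}) cc cc_conj fun n hn y hy => by
    obtain ⟨w, h1, h2, h3⟩ := (mem_filter.1 hy).2
    exact mem_filter.2 ⟨mem_univ _, _, conj_zpowers n y ▸ conj_mem_conj h1, conj_mem_of_norm hn h2,
      conj_ne_one.2 h3⟩).trans (Nat.mul_le_mul_left _ (sum_cc_le (N := 𝐍(Q)) fun z hz => by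
    obtain ⟨w, h1, h2, h3⟩ := (mem_filter.1 hz).2
    refine ⟨fun e => h3 (by simpa [e] using h1), Ind.TI.mem h.ti h2 h3
      (cent1_le_of_mem_zpowers h1 (mem_cent1_self z)), fun u e => h.ti u fun e' => h3 ?_⟩
    obtain ⟨i, rfl⟩ := h1
    have h4 := conj_mem_conj (g := u) (inv_mem h2)
    rw [← cj_inv, ← conj_zpow, e, inv_zpow, inv_inv] at h4
    exact mem_bot.1 (e'.le ⟨h2, h4⟩)))
  rw [h.normQ, h.ivQ, h.hG, show q ^ 3 * (4 * k) * (2 * r) * m * (q ^ 2 * (q ^ 2 - 1)) =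
    q ^ 3 * (2 * r) * (4 * k * m * (q ^ 2 * (q ^ 2 - 1))) by ring] at h1
  exact Nat.le_of_mul_le_mul_left h1 (h.normQ ▸ card_pos' _)

theorem mem3 (hz : 3 ∣ orderOf z) : z ∈ cl {z | ∃ w ∈ zpowers z, w ∈ Q ∧ w ≠ 1} := by
  have := Fact.mk Nat.prime_three
  obtain ⟨w, hw, e⟩ := cauchy Nat.prime_three (Nat.card_zpowers z ▸ hz)
  obtain ⟨g, -, hg⟩ := h.bor.syl.exists_conj_le le_top (isP e)
  exact mem_cl.2 ⟨g, mem_filter.2 ⟨mem_univ _, _, conj_zpowers g z ▸ conj_mem_conj hw,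
    hg (conj_mem_conj (mem_zpowers w)), conj_ne_one.2 (ne_one Nat.prime_three e)⟩⟩

theorem real_m (hl : l.Prime) (hd : l ∣ m) : ∃ y g : G, orderOf y = l ∧ g * y * g⁻¹ = y⁻¹ := by
  by_contra hn
  obtain ⟨n1, n2, n3, n4⟩ := h.num
  have hm := h.hm
  let I := ({z : G | TA t 𝐂[z]} : Finset G).image fun z => ♯𝐂[z]
  have ex : ∀ n, ∃ A : Subgroup G, n ∈ I → TA t A ∧ ♯A = n := fun n => by
    by_cases e : n ∈ I
    · obtain ⟨z, hz, rfl⟩ := mem_image.1 e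
      exact ⟨_, fun _ => ⟨(mem_filter.1 hz).2, rfl⟩⟩
    · exact ⟨⊥, fun e' => (e e').elim⟩
  choose A hA using ex
  have h1 : l * ∏ n ∈ I, n ∣ m := Nat.Coprime.mul_dvd_of_dvd_of_dvd
    (Nat.Coprime.prod_right fun n e => hl.coprime_iff_not_dvd.2 fun e' => by
      obtain ⟨u, -, -, hu⟩ := (hA n e).1.inv
      exact hn (real_of hl ((hA n e).2.symm ▸ e') hu)) hd
    (Finset.prod_dvd_of_isRelPrime (fun a ha b hb e => Nat.coprime_iff_isRelPrime.1 (by_contra fun e' => by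
      obtain ⟨g, hg⟩ := (hA a ha).1.sc.eq_conj (hA b hb).1.sc (h.oddA (hA a ha).1)
        (by rwa [(hA a ha).2, (hA b hb).2])
      exact e (by rw [← (hA a ha).2, ← (hA b hb).2, hg, card_conj])))
      fun n e => (hA n e).2 ▸ h.dvd_m (hA n e).1)
  have l5 : 5 ≤ l := by
    obtain ⟨c, rfl⟩ := n4
    obtain ⟨d, rfl⟩ := hd
    refine hl.five_le_of_ne_two_of_ne_three ?_ ?_ <;> rintro rfl
    · rw [← n2, show (2 * r + 1) * (2 * r + 1) = 2 * (2 * r * r + 2 * r) + 1 by ring] at hm; omega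
    · rw [show 3 * c * (3 * c) = 3 * (3 * c * c) by ring] at hm; omega
  have m0 : 0 < m := by nlinarith
  have h2 := arith I (fun n => (A n).relIndex 𝐍(A n)) n1 n2 hm n3 n4
    ((Nat.mul_le_mul_right _ l5).trans (Nat.le_of_dvd m0 h1)) fun n e => by
      obtain ⟨a, e'⟩ := hA n e
      have k1 := h.two_dvd a
      have k2 := h.not_four a
      have k3 := h.ne_two' a
      have k4 := relIndex_pos (A n) 𝐍(A n)
      exact ⟨e' ▸ card_pos' _, by omega, k2, k1, by simpa only [e'] using h.cong a, fun s hs hd =>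
        ⟨e' ▸ a.sc.dvd_pred (h.oddA a) hs hd,
          h.hG ▸ hd.trans ((relIndex_dvd_card _ _).trans (card_subgroup_dvd_card _))⟩⟩
  have h3 : ∑ z : G, cc z ≤ ∑ z ∈ {1} ∪ (iv ⊤ ∪ (cl {z | ∃ w ∈ zpowers z, w ∈ Q ∧ w ≠ 1} ∪
      (cl (big (𝐂[t] ⊓ 𝐂(T))) ∪ (cl (big K) ∪ I.biUnion fun n => cl (big (A n)))))), cc z := by
    refine sum_le_sum_of_ne_zero fun z _ e => ?_
    obtain ⟨u, hu, h3⟩ := exists_of e
    simp only [mem_union, mem_singleton, mem_biUnion]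
    by_cases z1 : z = 1
    · exact .inl z1
    by_cases z2 : z * z = 1
    · exact .inr (.inl (mem_iv.2 ⟨trivial, z1, z2⟩))
    by_cases z3 : 3 ∣ orderOf z
    · exact .inr (.inr (.inl (h.mem3 z3)))
    by_cases z4 : (♯𝐂[z]).Coprime ♯𝐂[t]
    · have a := h.ta z1 z4 hu (inv_of hu h3)
      have h4 : ♯𝐂[z] ∈ I := mem_image.2 ⟨z, mem_filter.2 ⟨mem_univ _, a⟩, rfl⟩
      obtain ⟨g, hg⟩ := a.sc.eq_conj (hA _ h4).1.sc (h.oddA a) (by
        rw [(hA _ h4).2, Nat.coprime_self]; have := h.fiveA a; omega)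
      exact .inr (.inr (.inr (.inr (.inr ⟨_, h4, mem_cl.2 ⟨g, mem_big.2 ⟨hg ▸ conj_mem_conj
        (mem_cent1_self z), by rwa [cj_mul, Ne, cj_one]⟩⟩⟩))))
    obtain ⟨a, ha, h4⟩ := h.inv_cent z1 z3 z4
    exact .inr (.inr (.inr ((h.cl_or ha h4 z2 z3).imp id .inl)))
  have h4 := h3.trans ((su _ _ _).trans (Nat.add_le_add_left ((su _ _ _).trans (Nat.add_le_add_left
    ((su _ _ _).trans (Nat.add_le_add h.sum3 ((su _ _ _).trans (Nat.add_le_add_left ((su _ _ _).trans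
      (Nat.add_le_add_left (sb _ _ _) _)) _)))) _)) _))
  have h5 : cc (1 : G) ≤ q ^ 2 * m := h.ivG ▸ card_filter_le _ _
  have h6 := sum_le_card_nsmul _ _ _ fun u (hu : u ∈ iv (⊤ : Subgroup G)) => h.cc_inv hu
  have h7 := h.scD.upper
  have h8 := SC.upper h.loc.cent
  have h9 : ((∑ n ∈ I, ∑ z ∈ cl (big (A n)), cc z : ℕ) : ℚ) ≤
      Nat.card G * ∑ n ∈ I, ((n : ℚ) - 1) / (A n).relIndex 𝐍(A n) := by
    rw [Nat.cast_sum, mul_sum]
    exact sum_le_sum fun n e => by simpa only [(hA n e).2] using h.sum_le (hA n e).1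
  have h10 := mul_lt_mul_of_pos_left h2 (show (0 : ℚ) < Nat.card G by exact_mod_cast Nat.card_pos)
  have h11 := h.bigD
  have h12 := h.bigK
  rw [h.normD, h.cardD, show 4 * r = 2 * r * 2 by ring, mul_assoc, ← mul_assoc (Nat.card G),
    mul_comm _ (2 * r)] at h7
  rw [h.normK, h.loc.card, show 24 * k = 4 * k * 6 by ring, mul_assoc, ← mul_assoc (Nat.card G),
    mul_comm _ (4 * k)] at h8
  have h7 := Nat.le_of_mul_le_mul_left h7 (by omega)
  have h8 := Nat.le_of_mul_le_mul_left h8 (by omega)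
  rw [sum_cc, sum_singleton, h.ivG] at h4
  rw [h.ivG, smul_eq_mul] at h6
  have hG := h.hG
  have h13 : 1 ≤ q ^ 2 := Nat.one_le_pow _ _ (by omega)
  generalize Nat.card G = N, ∑ z ∈ cl (big K), cc z = x1, ∑ z ∈ cl (big (𝐂[t] ⊓ 𝐂(T))), cc z = x2,
    ∑ n ∈ I, ∑ z ∈ cl (big (A n)), cc z = x3, ∑ z ∈ iv (⊤ : Subgroup G), cc z = x4, cc (1 : G) = x5,
    #(big (𝐂[t] ⊓ 𝐂(T))) = b2, #(big K) = b3 at *
  qify [h13] at h4 h5 h6 h7 h8 h11 h12 n1 n2 hm hG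
  have h14 := h9.trans_lt h10
  rw [show (b2 : ℚ) = q - 3 by linarith] at h7
  rw [show (b3 : ℚ) = q - 3 by linarith] at h8
  rw [← n1] at h4 hG
  rw [show 2 * (r : ℚ) = q - 1 by linarith] at hG
  rw [show 2 * ((q : ℚ) * r) = q * (q - 1) by rw [← n2]; ring] at h6
  rw [show (m : ℚ) = q * q + 1 - q by linarith] at h4 h5 h6 hG
  rw [hG] at h7 h8 h14
  linarith

theorem real (hl : l.Prime) (hd : l ∣ Nat.card G) :
    ∃ y g : G, orderOf y = l ∧ g * y * g⁻¹ = y⁻¹ := by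
  have k1 : l ∣ 2 * r → ∃ y g : G, orderOf y = l ∧ g * y * g⁻¹ = y⁻¹ := fun e => by
    rcases hl.dvd_mul.1 e with e | e
    · exact ⟨t, 1, by rw [C2.orderOf_two h.t1 h.t2, (Nat.prime_dvd_prime_iff_eq hl Nat.prime_two).1 e],
        by simpa using eq_inv_of_mul_eq_one_left h.t2⟩
    · obtain ⟨a, -, -, -, ha⟩ := KK.tor_exists_inv h.tor
      exact real_of hl (h.cardT ▸ e) ha
  simp only [h.hG, hl.dvd_mul (m := _ * _), hl.dvd_mul (m := q ^ 3)] at hd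
  rcases hd with ((e | e) | e) | e
  · obtain rfl := h.eq_three hl (hl.dvd_of_dvd_pow e)
    have ht : t ∈ 𝐍(Q) := h.bor.norm.ge (mem_sup_right (mem_sup_left (mem_sup_left (mem_zpowers t))))
    obtain ⟨y, hy, h1⟩ : ∃ y ∈ Q, y ∉ 𝐂[t] := by
      by_contra! e'
      have h2 := h.cardQ
      have h3 := h.num.2.2.1
      rw [← inf_eq_left.2 (show Q ≤ 𝐂[t] from e'), h.bor.inf, h.uni.card] at h2
      have : q * 1 < q * q ^ 2 := Nat.mul_lt_mul_of_pos_left (by nlinarith) (by omega)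
      rw [pow_succ'] at h2
      omega
    have h2 : y * (t * y⁻¹ * t⁻¹) ∈ Q := mul_mem hy (conj_mem_of_norm ht (inv_mem hy))
    refine real_of (A := zpowers (y * (t * y⁻¹ * t⁻¹))) (u := t) hl (dvd_card_of_isPGroup
      (h.bor.syl.isPGroup.to_le (zpowers_le.2 h2)) (zpowers_ne_bot.2 fun e' => h1 (mem_cent1.2 ?_))) ?_
    · rw [← mul_inv_eq_one, ← e']; group
    rintro _ ⟨i, rfl⟩
    simp only
    rw [← conj_zpow, ← inv_zpow, ← cj_mul, ← mul_cj, h.t2]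
    group
  · exact real_of hl (h.loc.card ▸ e) h.loc.sinv
  · exact k1 e
  · exact h.real_m hl e

end Cx

end Rl

open Rl

theorem real : REAL.{u} := by
  intro G _ _ t L F _ _ hJ h5 l hl hd
  have := Fintype.ofFinite G
  obtain ⟨W, S, P, T, p, r, k, h, -⟩ := fr2 G t L L F hJ
  obtain rfl : W = ⊥ := by rw [← h.inf, inf_eq_right.2 h.W_le]
  obtain ⟨Θ, hΘ⟩ := ch1 G t L L S P T p _ r k h
  have h6 := h.five.lt_of_ne' h5
  have h0 := kf G t L L S P T p _ r k h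
  obtain ⟨rfl, hG⟩ := ch2 G t L L S P T p _ r k Θ h h6 h0 hΘ
  have h1 : ∀ x ∈ T, x ≠ 1 → 𝐂[x] ≤ 𝐂[t] := fun x hx x1 => by
    obtain ⟨y, hy, hp⟩ := exists_prime_order_mem (zpowers_ne_bot.2 x1)
    have hy' := zpowers_le.2 hx hy
    exact (cent1_le_of_mem_zpowers hy).trans (JR.iv kl G t L L ⊥ S P T _ r k h y hy' hp
      (by simpa using hp.ne_one) (h.tor.cent hy' (KK.ne_sq (odd_of_mem (La.cardT h ▸ h.par.1) hy')
        (Rl.ne_one hp rfl))))
  obtain ⟨x, hx, hp, h3, h4⟩ := h.exx rfl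
  have hc := Ind.cent_le h hx hp h3 h4
  have hY := y1 G t L L S P T _ r k h h1 h0 hG
  obtain ⟨Q, hB⟩ := la gzl G t L L ⊥ S P T _ r k h x hx hp hc hY
  obtain ⟨-, v, j, K, X, h7, h8⟩ := C2.exists_loc h h6 h0
  obtain ⟨n1, n2, -⟩ := LBx.num h
  obtain ⟨f, -, e⟩ := h.pow
  generalize Fintype.card F = q at *
  obtain ⟨m, hm⟩ : ∃ m, m + q = q * q + 1 := ⟨q * q + 1 - q, by have := Nat.le_mul_self q; omega⟩
  have h9 : q ^ 3 + 1 = 4 * k * m := by zify at n1 hm ⊢; rw [← n1]; linear_combination -(q + 1) * hm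
  obtain ⟨ti, h10⟩ := lb G t L L ⊥ S P T Q _ r k h x hx hp hc hY hB
  have := Fact.mk Nat.prime_three
  refine Cx.real ⟨h, hB, ti, (h10 (Nat.le_of_dvd (card_pos' Q) ?_)).1, hm, ?_, h1, h7, h8⟩ hl hd
  · rw [hB.syl.card_eq_partn]
    exact dvd_partn (card_pos' _).ne' (by rw [card_top, hG, mul_assoc]; exact dvd_mul_right _ _)
      (e ▸ (isPiNum_singleton_pow Nat.prime_three f).pow 3)
  · rw [hG, h9, show q - 1 = 2 * r by omega]; ring

end Cfsg.Agent.GW2
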