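import Cfsg.Agent.Lib.JR.Ind3

/-!
# Package REAL: arithmetic and double counting
-/

set_option autoImplicit false
set_option linter.unusedSectionVars false

namespace Cfsg.Agent.GW2.Rl

open Subgroup Cfsg.Agent.OO Cfsg.Agent.Coprime Cfsg.Agent.GW Finset
open scoped Pointwise

universe u

theorem sum_le_prod (S : Finset ℕ) (h : ∀ a ∈ S, 1 ≤ a) :
    ∑ a ∈ S, ((a : ℚ) - 1) + 1 ≤ ∏ a ∈ S, (a : ℚ) := by
  induction S using Finset.induction_on with
  | empty => simp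
  | insert a S ha ih =>
    rw [sum_insert ha, prod_insert ha]
    have h1 := ih fun b hb => h b (mem_insert_of_mem hb)
    have h2 : (1 : ℚ) ≤ a := by exact_mod_cast h a (mem_insert_self _ _)
    have h3 : 0 ≤ ∑ a ∈ S, ((a : ℚ) - 1) := sum_nonneg fun b hb => by
      have : (1 : ℚ) ≤ b := by exact_mod_cast h b (mem_insert_of_mem hb)
      linarith
    nlinarith

theorem sum_le_split (S : Finset ℕ) {M : ℚ} (hM : 0 ≤ M) (h : ∀ a ∈ S, 1 ≤ a ∧ (a : ℚ) ≤ M) :
    ∀ X : ℚ, 0 < X → ∑ a ∈ S, ((a : ℚ) - 1) ≤ X + M + (∏ a ∈ S, (a : ℚ)) / X := by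
  induction S using Finset.induction_on with
  | empty => intro X hX; simp; positivity
  | insert a S ha ih =>
    intro X hX
    rw [sum_insert ha, prod_insert ha]
    have h1 := ih fun b hb => h b (mem_insert_of_mem hb)
    obtain ⟨h2, h3⟩ := h a (mem_insert_self _ _)
    have h2 : (1 : ℚ) ≤ a := by exact_mod_cast h2
    have h4 := sum_le_prod S fun b hb => (h b (mem_insert_of_mem hb)).1
    have h5 : (0 : ℚ) ≤ ∏ a ∈ S, (a : ℚ) := prod_nonneg fun b _ => by positivity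
    rcases le_total (a : ℚ) X with e | e
    · have h6 := h1 (X / a) (by positivity)
      rw [div_div_eq_mul_div, mul_comm] at h6
      have h7 : a - 1 + X / a ≤ X := by
        rw [← sub_nonneg, show X - (a - 1 + X / a) = (X - a) * (a - 1) / a by field_simp; ring]
        exact div_nonneg (mul_nonneg (by linarith) (by linarith)) (by linarith)
      linarith
    · have h6 : ∏ a ∈ S, (a : ℚ) ≤ a * (∏ a ∈ S, (a : ℚ)) / X := by
        rw [le_div_iff₀ hX, mul_comm]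
        exact mul_le_mul_of_nonneg_right e h5
      linarith

theorem one {q r k m a h e : ℕ} (n1 : q + 1 = 4 * k) (n2 : 2 * r + 1 = q) (hm : m + q = q * q + 1)
    (ha : q ≤ a) (hq : 27 ≤ q) (q3 : 3 ∣ q) (e6 : 6 ≤ e) (e4 : ¬ 4 ∣ e) (e2 : 2 ∣ e) (hh : a * h = m)
    (hd : (a : ℤ) ∣ e * (q + 1) - 3 * h)
    (hs : ∀ s, s.Prime → s ∣ e → s ∣ a - 1 ∧ s ∣ q ^ 3 * (4 * k) * (2 * r) * m) :
    h ≤ q ∧ (7 * a ≤ e * (q + 1) ∨ e = 6 ∧ a + h = 2 * (q + 1)) := by
  have h1 : h ≤ q := by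
    by_contra! h1
    have := Nat.mul_le_mul ha h1
    nlinarith
  refine ⟨h1, ?_⟩
  obtain ⟨c, hc⟩ := hd
  have hm' : (m : ℤ) + q = q * q + 1 := by exact_mod_cast hm
  have hh' : (a : ℤ) * h = m := by exact_mod_cast hh
  have n1' : (q : ℤ) + 1 = 4 * k := by exact_mod_cast n1
  have c0 : 0 < c := by
    by_contra! c0
    have : (a : ℤ) * c ≤ 0 := mul_nonpos_of_nonneg_of_nonpos (by positivity) c0
    have : (6 : ℤ) * (q + 1) ≤ e * (q + 1) := by gcongr; exact_mod_cast e6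
    omega
  have mo : (m : ℤ) = 4 * (4 * k * k - 3 * k) + 3 := by
    have : (q : ℤ) = 4 * k - 1 := by omega
    rw [this] at hm'; linarith
  have ho : (h : ℤ) % 2 = 1 := by
    rcases Int.emod_two_eq_zero_or_one h with e | e
    · obtain ⟨j, hj⟩ := Int.dvd_of_emod_eq_zero e
      rw [hj, mo, show (a : ℤ) * (2 * j) = 2 * (a * j) by ring] at hh'; omega
    · exact e
  have c4 : c % 4 = 3 := by
    obtain ⟨j, hj⟩ : ∃ j : ℤ, h = 2 * j + 1 := ⟨h / 2, by omega⟩
    have h2 : c * m = e * (q + 1) * h - 3 * h * h := by rw [← hh']; linear_combination -h * hc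
    rw [n1', mo, hj] at h2
    have h3 : 4 * (c * (4 * k * k - 3 * k) + c - e * k * (2 * j + 1) + 3 * j * j + 3 * j) + 3 = c := by
      linarith
    omega
  rcases (show c = 3 ∨ 7 ≤ c by omega) with rfl | c7
  swap
  · left
    have : (a : ℤ) * 7 ≤ a * c := by gcongr
    zify; omega
  right
  have h3 : 3 ∣ e := by
    have h5 : 3 ∣ e * (q + 1) := ⟨a + h, by zify; linarith⟩
    exact ((Nat.Prime.dvd_mul Nat.prime_three).1 h5).resolve_right fun e' => by omega
  obtain ⟨f, rfl⟩ : ∃ f, e = 6 * f := ⟨e / 6, by omega⟩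
  have h6 : a + h = 2 * f * (q + 1) := by zify; push_cast at hc; linarith
  obtain rfl : f = 1 := by
    by_contra f1
    obtain ⟨s, hp, hf⟩ := Nat.exists_prime_and_dvd f1
    obtain ⟨h7, h8⟩ := hs s hp (hf.mul_left 6)
    have s2 : ¬ s ∣ 4 := fun e' => by
      obtain rfl := (Nat.prime_dvd_prime_iff_eq hp Nat.prime_two).1 (hp.dvd_of_dvd_pow (n := 2) e')
      omega
    have h9 : (s : ℤ) ∣ m + 1 := by
      have e1 : (s : ℤ) ∣ a - 1 := by
        rw [show (a : ℤ) - 1 = (a - 1 : ℕ) by omega]; exact_mod_cast h7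
      have e2 : (s : ℤ) ∣ a + h := by exact_mod_cast h6 ▸ (hf.mul_left 2).mul_right _
      exact ((e1.mul_right (h - 1)).add e2).trans (dvd_of_eq (by rw [← hh']; ring))
    have n2' : 2 * (r : ℤ) + 1 = q := by exact_mod_cast n2
    simp only [hp.dvd_mul] at h8
    refine s2 (Int.natCast_dvd_natCast.1 ?_)
    rcases h8 with ((e' | e') | e') | e'
    · have := Int.natCast_dvd_natCast.2 (hp.dvd_of_dvd_pow e')
      exact ((h9.sub (this.mul_right (q - 1))).mul_left 2).trans (dvd_of_eq (by push_cast; linarith))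
    · have : (s : ℤ) ∣ q + 1 := by rw [n1']; exact_mod_cast hp.dvd_mul.2 e'
      exact (h9.sub (this.mul_right (q - 2))).trans (dvd_of_eq (by push_cast; linarith))
    · have : (s : ℤ) ∣ q - 1 := by rw [← n2', add_sub_cancel_right]; exact_mod_cast hp.dvd_mul.2 e'
      exact ((h9.sub (this.mul_right q)).mul_left 2).trans (dvd_of_eq (by push_cast; linarith))
    · exact ((h9.sub (Int.natCast_dvd_natCast.2 e')).mul_left 4).trans (dvd_of_eq (by push_cast; ring))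
  exact ⟨rfl, by simpa using h6⟩

theorem arith {q r k m : ℕ} (S : Finset ℕ) (e : ℕ → ℕ) (n1 : q + 1 = 4 * k) (n2 : 2 * r + 1 = q)
    (hm : m + q = q * q + 1) (hq : 27 ≤ q) (q3 : 3 ∣ q) (hP : 5 * ∏ a ∈ S, a ≤ m)
    (h : ∀ a ∈ S, 1 ≤ a ∧ 6 ≤ e a ∧ ¬ 4 ∣ e a ∧ 2 ∣ e a ∧
      (∃ h, a * h = m ∧ (a : ℤ) ∣ e a * (q + 1) - 3 * h) ∧
      ∀ s, s.Prime → s ∣ e a → s ∣ a - 1 ∧ s ∣ q ^ 3 * (4 * k) * (2 * r) * m) :
    ∑ a ∈ S, ((a : ℚ) - 1) / e a < q / 3 := by
  have h6 : ∀ S' ⊆ S, ∑ a ∈ S', ((a : ℚ) - 1) / e a ≤ (∑ a ∈ S', ((a : ℚ) - 1)) / 6 := fun S' hS => by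
    rw [sum_div]
    refine sum_le_sum fun a ha => ?_
    obtain ⟨h1, h2, -⟩ := h a (hS ha)
    have h1 : (1 : ℚ) ≤ a := by exact_mod_cast h1
    exact div_le_div_of_nonneg_left (by linarith) (by norm_num) (by exact_mod_cast h2)
  have hq' : (27 : ℚ) ≤ q := by exact_mod_cast hq
  by_cases ha : ∃ a ∈ S, q ≤ a
  · obtain ⟨a, ha, h1⟩ := ha
    obtain ⟨a1, e6, e4, e2, ⟨b, hb, hd⟩, hs⟩ := h a ha
    obtain ⟨h2, h3⟩ := one n1 n2 hm h1 hq q3 e6 e4 e2 hb hd hs
    rw [← mul_prod_erase S (fun a => a) ha, ← hb, mul_left_comm] at hP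
    have h4 : (5 : ℚ) * ∏ a ∈ S.erase a, (a : ℚ) ≤ b := by
      rw [← Nat.cast_prod]; exact_mod_cast Nat.le_of_mul_le_mul_left hP a1
    have h5 := sum_le_prod (S.erase a) fun b hb => (h b (mem_of_mem_erase hb)).1
    have h7 := h6 _ (erase_subset a S)
    have h2 : (b : ℚ) ≤ q := by exact_mod_cast h2
    have h8 : (0 : ℚ) < b := by
      exact_mod_cast Nat.pos_of_ne_zero fun e => by rw [e, mul_zero] at hb; nlinarith
    rw [← add_sum_erase S _ ha]
    rcases h3 with h3 | ⟨h3, h9⟩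
    · have h3 : (7 : ℚ) * a ≤ e a * (q + 1) := by exact_mod_cast h3
      have : ((a : ℚ) - 1) / e a ≤ (q + 1) / 7 := by
        rw [div_le_div_iff₀ (by exact_mod_cast (show 0 < e a by omega)) (by norm_num)]; linarith
      linarith
    · have h9 : (a : ℚ) + b = 2 * (q + 1) := by exact_mod_cast h9
      rw [h3]; push_cast; linarith
  · push Not at ha
    have h1 := sum_le_split S (M := q) (by positivity) (fun a h1 =>
      ⟨(h a h1).1, by exact_mod_cast (ha a h1).le⟩) (q / 2) (by positivity)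
    have h2 : (∏ a ∈ S, (a : ℚ)) / (q / 2) ≤ 2 * q / 5 := by
      have h3 : (5 : ℚ) * ∏ a ∈ S, (a : ℚ) ≤ m := by rw [← Nat.cast_prod]; exact_mod_cast hP
      have h4 : (m : ℚ) + q = q * q + 1 := by exact_mod_cast hm
      rw [div_le_iff₀ (by positivity)]; nlinarith
    have := h6 S Subset.rfl
    linarith

variable {G : Type u} [Group G] [Fintype G] {K N : Subgroup G} {g y z : G}

open Classical

theorem dc (c : G → ℕ) (hc : ∀ g z, c (g * z * g⁻¹) = c z) (Y : Finset G) :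
    ∑ z, #{g | g * z * g⁻¹ ∈ Y} * c z = Nat.card G * ∑ y ∈ Y, c y := by
  simp only [card_filter, sum_mul, ite_mul, one_mul, zero_mul]
  rw [sum_comm, Nat.card_eq_fintype_card, ← smul_eq_mul, ← card_univ, ← sum_const]
  refine sum_congr rfl fun g _ => ?_
  rw [← sum_filter]
  refine sum_bij (fun z _ => g * z * g⁻¹) (fun z hz => (mem_filter.1 hz).2) (fun a _ b _ e => by simpa using e)
    (fun y hy => ⟨g⁻¹ * y * g, by simpa [mul_assoc] using hy, by group⟩) fun z _ => (hc g z).symm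

/-- the union of the conjugates -/
noncomputable def cl (Y : Finset G) : Finset G := {z | ∃ g, g * z * g⁻¹ ∈ Y}

theorem mem_cl {Y : Finset G} : z ∈ cl Y ↔ ∃ g, g * z * g⁻¹ ∈ Y := by simp [cl]

theorem card_eq (N : Subgroup G) : ♯N = #{g | g ∈ N} := by
  rw [Nat.card_eq_fintype_card, Fintype.card_subtype]

theorem upper (c : G → ℕ) (hc : ∀ g z, c (g * z * g⁻¹) = c z) {Y : Finset G}
    (hN : ∀ n ∈ N, ∀ y ∈ Y, n * y * n⁻¹ ∈ Y) : ♯N * ∑ z ∈ cl Y, c z ≤ Nat.card G * ∑ y ∈ Y, c y := by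
  rw [← dc c hc, mul_sum]
  refine (sum_le_sum fun z hz => Nat.mul_le_mul_right _ ?_).trans (sum_le_univ_sum_of_nonneg fun _ => Nat.zero_le _)
  obtain ⟨g, hg⟩ := mem_cl.1 hz
  rw [card_eq]
  refine card_le_card_of_injOn (· * g) (fun n hn => ?_) fun a _ b _ e => by simpa using e
  simpa [mul_assoc] using hN n (by simpa using hn) _ hg

theorem lower {Y : Finset G} (hN : ∀ g, ∀ y ∈ Y, g * y * g⁻¹ ∈ Y → g ∈ N) :
    Nat.card G * #Y ≤ ♯N * #(cl Y) := by
  rw [card_eq_sum_ones Y, ← dc (fun _ => 1) (fun _ _ => rfl), card_eq_sum_ones (cl Y), mul_sum,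
    ← sum_subset (subset_univ (cl Y)) fun z _ hz => by simpa [mem_cl] using hz]
  refine sum_le_sum fun z hz => Nat.mul_le_mul_right _ ?_
  obtain ⟨g, hg⟩ := mem_cl.1 hz
  rw [card_eq]
  refine card_le_card_of_injOn (· * g⁻¹) (fun n hn => ?_) fun a _ b _ e => by simpa using e
  simpa using hN _ _ hg (by simpa [mul_assoc] using hn)

end Cfsg.Agent.GW2.Rl
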