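import Cfsg.Agent.Lib.GW2.RealA

/-!
# Package REAL: pairs of involutions and self-centralizing subgroups
-/

set_option autoImplicit false
set_option linter.unusedSectionVars false

namespace Cfsg.Agent.GW2.Rl

open Subgroup Cfsg.Agent.OO Cfsg.Agent.Coprime Cfsg.Agent.GW Cfsg.Agent.JR Finset Classical
open scoped Pointwise

universe u

variable {G : Type u} [Group G] [Fintype G] {A B K N Q : Subgroup G} {g t u w y z : G} {s : ℕ}

/-- the involutions -/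
noncomputable def iv (N : Subgroup G) : Finset G := {u | u ∈ N ∧ u ≠ 1 ∧ u * u = 1}

theorem mem_iv : u ∈ iv N ↔ u ∈ N ∧ u ≠ 1 ∧ u * u = 1 := by simp [iv]

/-- the number of pairs of involutions with product `z` -/
noncomputable def cc (z : G) : ℕ := #{u ∈ iv ⊤ | u * z ∈ iv ⊤}

theorem cj_iv : g * u * g⁻¹ ∈ iv ⊤ ↔ u ∈ iv ⊤ := by simp only [mem_iv, mem_top, cj_mul, Ne, cj_one]

theorem cc_conj (g z : G) : cc (g * z * g⁻¹) = cc z :=
  (card_bij (fun u _ => g * u * g⁻¹) (fun u hu => by simpa only [mem_filter, cj_mul, cj_iv] using hu)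
    (fun _ _ _ _ e => cj_inj.1 e) fun u hu => ⟨g⁻¹ * u * g, by
      rw [show u = g * (g⁻¹ * u * g) * g⁻¹ by group] at hu
      simpa only [mem_filter, cj_mul, cj_iv] using hu, by group⟩).symm

theorem inv_of (h1 : u ∈ iv ⊤) (h2 : u * z ∈ iv ⊤) : u * z * u⁻¹ = z⁻¹ := by
  rw [inv_eq_of_mul_eq_one_right (mem_iv.1 h1).2.2, eq_inv_iff_mul_eq_one, mul_assoc]
  exact (mem_iv.1 h2).2.2

theorem exists_of (h : cc z ≠ 0) : ∃ u, u ∈ iv ⊤ ∧ u * z ∈ iv ⊤ := by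
  obtain ⟨u, hu⟩ := card_ne_zero.1 h
  exact ⟨u, mem_filter.1 hu⟩

theorem cc_le (z : G) : cc z ≤ ♯𝐂[z] := by
  by_cases h : cc z = 0
  · omega
  obtain ⟨u, h1, h2⟩ := exists_of h
  rw [card_eq]
  refine card_le_card_of_injOn (u⁻¹ * ·) (fun a ha => ?_) fun a _ b _ e => by simpa using e
  simp only [coe_filter, Set.mem_ofPred_eq, mem_univ, true_and] at ha ⊢
  rw [mem_cent1_iff_conj, mul_inv_rev, inv_inv,
    show u⁻¹ * a * z * (a⁻¹ * u) = u⁻¹ * (a * z * a⁻¹) * u by group, inv_of ha.1 ha.2, ← inv_of h1 h2]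
  group

theorem sum_cc : ∑ z : G, cc z = #(iv (⊤ : Subgroup G)) ^ 2 := by
  simp only [cc, card_filter]
  rw [sum_comm, sq, ← smul_eq_mul, ← sum_const]
  refine sum_congr rfl fun u _ => ?_
  rw [← card_filter]
  exact card_bij (fun z _ => u * z) (fun z hz => (mem_filter.1 hz).2) (fun _ _ _ _ e => by simpa using e)
    fun a ha => ⟨u⁻¹ * a, by simpa using ha, by group⟩

theorem sum_cc_le {Y : Finset G} (h : ∀ z ∈ Y, z ≠ 1 ∧ z ∈ N ∧ ∀ u, u * z * u⁻¹ = z⁻¹ → u ∈ N) :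
    ∑ z ∈ Y, cc z ≤ #(iv N) * (#(iv N) - 1) := by
  rw [Nat.mul_sub_one, ← offDiag_card]
  simp only [cc]
  rw [← card_sigma]
  refine card_le_card_of_injOn (fun a => (a.2, a.2 * a.1)) (fun a ha => ?_) fun a _ b _ e => ?_
  · simp only [coe_sigma, Set.mem_sigma_iff, mem_coe, mem_filter] at ha
    obtain ⟨h1, h2, h3⟩ := h _ ha.1
    have h4 := h3 _ (inv_of ha.2.1 ha.2.2)
    exact mem_coe.2 (mem_offDiag.2 ⟨mem_iv.2 ⟨h4, (mem_iv.1 ha.2.1).2⟩,
      mem_iv.2 ⟨mul_mem h4 h2, (mem_iv.1 ha.2.2).2⟩, by simpa using h1⟩)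
  · obtain ⟨e1, e2⟩ := Prod.mk.inj e
    exact Sigma.ext (mul_left_cancel (e1 ▸ e2)) (heq_of_eq e1)

theorem card_iv (ht : t ∈ iv N) (h : ∀ u ∈ iv N, ∃ g ∈ N, g * t * g⁻¹ = u) :
    #(iv N) = 𝐂[t].relIndex N := by
  rw [← GW.ncard_conj, ← Set.ncard_coe_finset]
  refine congrArg _ (Set.ext fun u => ⟨fun hu => h u hu, ?_⟩)
  rintro ⟨g, hg, rfl⟩
  obtain ⟨h1, h2⟩ := mem_iv.1 ht
  exact mem_iv.2 ⟨mul_mem (mul_mem hg h1) (inv_mem hg), (mem_iv.1 (cj_iv.2 (mem_iv.2 ⟨trivial, h2⟩))).2⟩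

/-- self-centralizing subgroups -/
def SC (K : Subgroup G) : Prop := ∀ y ∈ K, y * y ≠ 1 → 𝐂[y] = K

/-- the elements of order greater than two -/
noncomputable def big (K : Subgroup G) : Finset G := {y | y ∈ K ∧ y * y ≠ 1}

theorem mem_big : y ∈ big K ↔ y ∈ K ∧ y * y ≠ 1 := by simp [big]

theorem sq_ne (hs : s.Prime) (s2 : s ≠ 2) (h : PiElt {s} y) (y1 : y ≠ 1) : y * y ≠ 1 := fun e =>
  have := Fact.mk hs
  y1 (eq_one_of_odd_of_sq (odd_of_mem (odd_of_isPGroup s2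
    (isPGroup_zpowers_iff.2 h)) (mem_zpowers y)) e)

theorem ne_one (hs : s.Prime) (ho : orderOf y = s) : y ≠ 1 := fun e => hs.ne_one (by simp [← ho, e])

theorem isP (ho : orderOf y = s) : IsPGroup s (zpowers y) :=
  IsPGroup.of_card (n := 1) (by rw [Nat.card_zpowers, ho, pow_one])

theorem ne_two (ho : Odd ♯K) (hd : s ∣ ♯K) : s ≠ 2 := fun e => by
  subst e; exact (Nat.not_even_iff_odd.2 ho) (even_iff_two_dvd.2 hd)

namespace SC

variable (h : SC K)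
include h

theorem conj (g : G) : SC (g •ᶜ K) := forall_conj.2 fun y hy y2 => by
  rw [cent1_conj, h y hy (by rwa [cj_mul, Ne, cj_one] at y2)]

theorem syl (hs : s.Prime) (s2 : s ≠ 2) (hd : s ∣ ♯K) : ∃ S, Syl s S ⊤ ∧ S ≤ K ∧ S ≠ ⊥ := by
  have := Fact.mk hs
  obtain ⟨y, hy, ho⟩ := cauchy hs hd
  have y1 := ne_one hs ho
  obtain ⟨S, hS, h1⟩ := exists_syl_ge (M := ⊤) le_top (isP ho)
  have h0 : S ≠ ⊥ := fun e => y1 (mem_bot.1 (e ▸ zpowers_le.1 h1))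
  obtain ⟨z, hz, z1⟩ := exists_mem_ne_one (Zc_ne_bot hS.nil h0)
  have h2 := fun a ha => sq_ne hs s2 (hS.piGrp.piElt (x := a) ha)
  have h3 : z ∈ K := (h y hy (h2 y (zpowers_le.1 h1) y1)).le
    (mem_cent1_comm.1 (mem_cent1.2 (hz.2 y (zpowers_le.1 h1))))
  exact ⟨S, hS, fun a ha => (h z h3 (h2 z hz.1 z1)).le (mem_cent1.2 (hz.2 a ha)), h0⟩

theorem exists_conj (hs : s.Prime) (s2 : s ≠ 2) (hd : s ∣ ♯K) (ho : orderOf w = s) :
    ∃ g, g * w * g⁻¹ ∈ big K := by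
  have := Fact.mk hs
  obtain ⟨S, hS, h1, -⟩ := h.syl hs s2 hd
  obtain ⟨g, -, e⟩ := hS.exists_conj_le le_top (isP ho)
  have h2 := e (conj_mem_conj (mem_zpowers w))
  exact ⟨g, mem_big.2 ⟨h1 h2, sq_ne hs s2 (hS.piGrp.piElt h2)
    (conj_ne_one.2 (ne_one hs ho))⟩⟩

theorem not_dvd (hs : s.Prime) (s2 : s ≠ 2) (hd : s ∣ ♯K) : ¬ s ∣ K.index := fun e => by
  obtain ⟨S, hS, h1, -⟩ := h.syl hs s2 hd
  exact hS.not_dvd (by rw [relIndex_top_right]; exact e.trans (index_dvd_of_le h1))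

theorem mem_norm (hy : y ∈ big K) (hg : g * y * g⁻¹ ∈ big K) : g ∈ 𝐍(K) := by
  rw [← conj_eq_self_iff, ← h _ (mem_big.1 hy).1 (mem_big.1 hy).2, ← cent1_conj,
    h _ (mem_big.1 hg).1 (mem_big.1 hg).2, h _ (mem_big.1 hy).1 (mem_big.1 hy).2]

theorem card_cent (hz : z ∈ cl (big K)) : ♯𝐂[z] = ♯K := by
  obtain ⟨g, hg⟩ := mem_cl.1 hz
  rw [← h _ (mem_big.1 hg).1 (mem_big.1 hg).2, cent1_conj, card_conj]

theorem upper : ♯𝐍(K) * ∑ z ∈ cl (big K), cc z ≤ Nat.card G * (#(big K) * ♯K) :=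
  (Rl.upper cc cc_conj fun n hn y hy => mem_big.2 ⟨conj_mem_of_norm hn (mem_big.1 hy).1, by
    rw [cj_mul, Ne, cj_one]; exact (mem_big.1 hy).2⟩).trans (Nat.mul_le_mul_left _
      (sum_le_card_nsmul _ _ _ fun y hy => h _ (mem_big.1 hy).1 (mem_big.1 hy).2 ▸ cc_le y))

theorem lower : Nat.card G * #(big K) ≤ ♯𝐍(K) * #(cl (big K)) := Rl.lower fun _ _ => h.mem_norm

theorem eq_conj (h' : SC B) (ho : Odd ♯K) (hc : ¬ (♯K).Coprime ♯B) : ∃ g : G, B = g •ᶜ K := by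
  obtain ⟨s, hs, h1, h2⟩ := Nat.Prime.not_coprime_iff_dvd.1 hc
  obtain ⟨w, hw, e⟩ := cauchy hs h2
  obtain ⟨g, hg⟩ := h.exists_conj hs (ne_two ho h1) h1 e
  have h3 := (mem_big.1 hg).2
  refine ⟨g⁻¹, ?_⟩
  rw [← h _ (mem_big.1 hg).1 h3, cent1_conj, conj_conj, inv_mul_cancel, one_conj,
    h' w hw (by rwa [cj_mul, Ne, cj_one] at h3)]

variable (ho : Odd ♯K)
include ho

theorem big_of (hy : y ∈ K) (y1 : y ≠ 1) : y ∈ big K :=
  mem_big.2 ⟨hy, KK.ne_sq (odd_of_mem ho hy) y1⟩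

theorem card_big : #(big K) + 1 = ♯K := by
  rw [card_eq, ← card_insert_of_notMem (a := 1) (by simp [mem_big])]
  refine congrArg _ (Finset.ext fun y => ?_)
  simp only [mem_insert, mem_filter, mem_univ, true_and]
  exact ⟨fun e => e.elim (fun e => e ▸ one_mem K) fun e => (mem_big.1 e).1,
    fun e => (_root_.em _).imp id (h.big_of ho e)⟩

theorem cop : (♯K).Coprime K.index := Nat.coprime_of_dvd fun s hs hd =>
  h.not_dvd hs (ne_two ho hd) hd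

theorem dvd_index : ♯K ∣ 𝐍(K).index - 1 := by
  rw [show 𝐍(K).index - 1 = ({((1 : G) : G ⧸ 𝐍(K))}ᶜ : Set _).ncard by
    rw [Set.ncard_compl, Set.ncard_singleton]; rfl]
  refine SE.dvd_ncard_of_free (fun a ha w hw e => ?_) fun a ha w hw e => ?_
  · induction w using QuotientGroup.induction_on with | H g =>
    have := (QuotientGroup.eq (a := a * g) (b := 1)).1 e
    rw [mul_one, inv_mem_iff, mul_mem_cancel_left (le_norm_self _ ha)] at this
    exact hw (QuotientGroup.eq.2 (by simpa using this))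
  induction w using QuotientGroup.induction_on with | H g =>
  have h3 : g⁻¹ * a * g⁻¹⁻¹ ∈ 𝐍(K) := by
    simpa [mul_assoc] using inv_mem ((QuotientGroup.eq (a := a * g) (b := g)).1 e)
  by_contra a1
  have h4 : zpowers (g⁻¹ * a * g⁻¹⁻¹) ≤ K := le_of_coprime_relIndex (zpowers_le.2 h3) le_rfl (by
    rw [← conj_zpowers, card_conj]
    exact ((h.cop ho).coprime_dvd_left (card_dvd (zpowers_le.2 ha))).coprime_dvd_right
      (relIndex_dvd_index_of_le (le_norm_self K)))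
  exact hw (QuotientGroup.eq.2 (by
    simpa using h.mem_norm (h.big_of ho ha a1) (h.big_of ho (zpowers_le.1 h4) (conj_ne_one.2 a1))))

theorem dvd_pred (hs : s.Prime) (hd : s ∣ K.relIndex 𝐍(K)) : s ∣ ♯K - 1 := by
  obtain ⟨g, hg, e⟩ := cauchy hs (hd.trans (relIndex_dvd_card K 𝐍(K)))
  rw [← e, ← Nat.card_zpowers]
  refine regular_norm_dvd_pred (zpowers_le.2 hg) (semiregular_prime (by rwa [Nat.card_zpowers, e])
    (eq_bot_iff.2 fun y hy => by_contra fun y1 => ?_))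
  have h1 := h.big_of ho hy.1 y1
  have h2 := (h y hy.1 (mem_big.1 h1).2).le (mem_cent1_comm.1 (cent_zpowers g ▸ hy.2))
  have h3 := e ▸ orderOf_dvd_card h2
  exact h.not_dvd hs (ne_two ho h3) h3 (hd.trans (relIndex_dvd_index_of_le (le_norm_self K)))

end SC

end Cfsg.Agent.GW2.Rl
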