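import Cfsg.Agent.Lib.GW2.RealB
import Cfsg.Agent.Lib.JR.CH2Loc

/-!
# Package REAL: the local structure of a group of Ree type
-/

set_option autoImplicit false
set_option linter.unusedSectionVars false

namespace Cfsg.Agent.GW2.Rl

open Subgroup Cfsg.Agent.OO Cfsg.Agent.Coprime Cfsg.Agent.GW Cfsg.Agent.JR Finset Classical
open scoped Pointwise

universe u

variable {G : Type u} [Group G] [Fintype G] {A B K L P Q S T X : Subgroup G} {g j t u v w y z : G}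
  {l q r k m : ℕ}

/-- the data -/
structure Cx (t v j : G) (L S P T Q K X : Subgroup G) (q r k m : ℕ) : Prop
    extends Fr t L L ⊥ S P T 3 q r k where
  bor : Bor t ⊥ P T Q
  ti : TI Q
  cardQ : ♯Q = q ^ 3
  hm : m + q = q * q + 1
  hG : Nat.card G = q ^ 3 * (4 * k) * (2 * r) * m
  cT : ∀ x ∈ T, x ≠ 1 → 𝐂[x] ≤ 𝐂[t]
  torK : Tor L X (2 * k)
  loc : C2.Loc t v j K X k

/-- real self-centralizing subgroups of order prime to the order of `C(t)` -/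
structure TA (t : G) (A : Subgroup G) : Prop where
  sc : SC A
  cop : (♯A).Coprime ♯𝐂[t]
  ne : A ≠ ⊥
  inv : ∃ u, u ≠ 1 ∧ u * u = 1 ∧ ∀ y ∈ A, u * y * u⁻¹ = y⁻¹

namespace Cx

variable (h : Cx t v j L S P T Q K X q r k m)
include h

theorem num : q + 1 = 4 * k ∧ 2 * r + 1 = q ∧ 27 ≤ q ∧ 3 ∣ q := LBx.num h.toFr

theorem cardC : ♯𝐂[t] = 8 * q * r * k := by rw [h.card_cent, h.card]; ring

theorem cardC' (u1 : u ≠ 1) (u2 : u * u = 1) : ♯𝐂[u] = ♯𝐂[t] := by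
  obtain ⟨g, rfl⟩ := h.conj u u1 u2
  rw [cent1_conj, card_conj]

theorem sq_t (hy : y ∈ 𝐂[t]) : y * t * (y * t) = y * y := by
  rw [mul_assoc, ← mul_assoc t, ← mem_cent1.1 hy, mul_assoc y t, h.t2, mul_one]

theorem cardT : ♯T = r := La.cardT h.toFr

theorem oddT : Odd ♯T := h.cardT ▸ h.par.1

theorem TC : T ≤ 𝐂[t] := h.tor.le.trans h.L_le

theorem tT : t ∉ T := fun e => h.tL (h.tor.le e)

theorem TD : T ≤ 𝐂[t] ⊓ 𝐂(T) := le_inf h.TC h.tor.ab.le_cent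

theorem tD : t ∈ 𝐂[t] ⊓ 𝐂(T) := ⟨mem_cent1_self t, le_cent1_iff.1 h.TC⟩

theorem or_of (hy : y ∈ T) (y1 : y ≠ 1) (hg : g ∈ 𝐂[y]) : g ∈ T ∨ g * t ∈ T :=
  have h1 := h.tor.cent hy (KK.ne_sq (odd_of_mem h.oddT hy) y1)
  ((h.cent g).1 (h.cT y hy y1 hg)).imp (fun e => h1.le ⟨e, hg⟩) fun e =>
    h1.le ⟨e, mul_mem hg (mem_cent1_comm.1 (h.TC hy))⟩

theorem orD (hg : g ∈ 𝐂[t] ⊓ 𝐂(T)) : g ∈ T ∨ g * t ∈ T := by
  obtain ⟨x, hx, hp, -⟩ := h.exx rfl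
  exact h.or_of hx (ne_one hp rfl) (cent_le_cent1 hx hg.2)

theorem memD (hg : g ∈ T ∨ g * t ∈ T) : g ∈ 𝐂[t] ⊓ 𝐂(T) :=
  hg.elim (h.TD ·) fun e => (mul_mem_cancel_right h.tD).1 (h.TD e)

theorem cardD : ♯(𝐂[t] ⊓ 𝐂(T) : Subgroup G) = 2 * r :=
  h.cardT ▸ C2.card_two h.tT h.TD h.tD fun _ => h.orD

theorem scD : SC (𝐂[t] ⊓ 𝐂(T)) := fun y hy y2 => by
  refine le_antisymm (fun g hg => h.memD (h.or_of (y := y * y) ((h.orD hy).elim (fun e => mul_mem e e)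
    fun e => h.sq_t hy.1 ▸ mul_mem e e) y2 (mem_cent1_comm.1
      (mul_mem (mem_cent1_comm.1 hg) (mem_cent1_comm.1 hg))))) fun g hg => ?_
  exact (h.orD hg).elim (fun e => mem_cent1_comm.1 (cent_le_cent1 e hy.2)) fun e =>
    (mul_mem_cancel_right (mem_cent1_comm.1 hy.1)).1 (mem_cent1_comm.1 (cent_le_cent1 e hy.2))

theorem invD (hy : y ∈ 𝐂[t] ⊓ 𝐂(T)) (y2 : y * y = 1) : y = 1 ∨ y = t :=
  (h.orD hy).imp (fun e => eq_one_of_odd_of_sq (odd_of_mem h.oddT e) y2) fun e =>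
    mul_right_cancel ((eq_one_of_odd_of_sq (odd_of_mem h.oddT e) (h.sq_t hy.1 ▸ y2)).trans h.t2.symm)

theorem bigD : #(big (𝐂[t] ⊓ 𝐂(T))) + 2 = 2 * r := by
  rw [← h.cardD, card_eq, ← card_pair h.t1.symm, ← card_union_of_disjoint (disjoint_left.2 fun y hy e => by
    rcases (by simpa using e : y = 1 ∨ y = t) with rfl | rfl <;> simp [mem_big, h.t2] at hy)]
  refine congrArg _ (Finset.ext fun y => ?_)
  simp only [mem_union, mem_insert, mem_singleton, mem_filter, mem_univ, true_and, mem_big]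
  exact ⟨fun e => e.elim (·.1) fun e => e.elim (fun e => e ▸ one_mem _) fun e => e ▸ h.tD,
    fun e => (_root_.em (y * y = 1)).symm.imp (⟨e, ·⟩) (h.invD e)⟩

theorem normD : ♯𝐍((𝐂[t] ⊓ 𝐂(T) : Subgroup G)) = 4 * r := by
  have nK : ∀ g ∈ L, g ∈ 𝐍((𝐂[t] ⊓ 𝐂(T) : Subgroup G)) ↔ g ∈ 𝐍(T) := fun g hg =>
    ⟨fun e => mem_norm_of_conj_mem fun y hy => (h.orD (conj_mem_of_norm e (h.TD hy))).resolve_right
      fun h' => h.tH ((mul_mem_cancel_left (conj_mem_of_norm (le_norm_self _ hg) (h.tor.le hy))).1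
        (h.tor.le h')), fun e => mem_norm_inf (le_norm_self _ (h.L_le hg)) (norm_le_norm_cent _ e)⟩
  rw [C2.card_two (A := L ⊓ 𝐍(T)) (a := t) (fun e => h.tL e.1) (fun g hg => (nK g hg.1).2 hg.2)
    (le_norm_self _ h.tD) fun g hg => ?_, h.tor.card_norm, ← h.tor.card, h.cardT]
  · ring
  exact ((h.cent g).1 (mem_cent1_iff_conj.2 ((h.invD (conj_mem_of_norm hg h.tD)
    (conj_sq h.t2 g)).resolve_left (conj_ne_one.2 h.t1)))).imp (fun e => ⟨e, (nK g e).1 hg⟩)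
      fun e => ⟨e, (nK _ e).1 (mul_mem hg (le_norm_self _ h.tD))⟩

theorem KC : K ≤ 𝐂[t] := le_cent1_iff.2 (h.loc.ab.le_cent h.loc.tK)

theorem ivK : iv K = {t, v, v * t} := Finset.ext fun y => by
  simp only [mem_iv, mem_insert, mem_singleton]
  refine ⟨fun e => (h.loc.inv y e.1 e.2.2).resolve_left e.2.1, ?_⟩
  rintro (rfl | rfl | rfl)
  · exact ⟨h.loc.tK, h.t1, h.t2⟩
  · exact ⟨h.loc.vK, h.loc.v1, h.loc.v2⟩
  · exact ⟨mul_mem h.loc.vK h.loc.tK, fun e => h.loc.vt (mul_right_cancel (e.trans h.t2.symm)),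
      (h.sq_t (h.KC h.loc.vK)).trans h.loc.v2⟩

theorem card_ivK : #(iv K) = 3 := by
  rw [h.ivK]
  exact card_eq_three.2 ⟨_, _, _, h.loc.vt.symm, by simpa using h.loc.v1, by simpa using h.t1, rfl⟩

theorem bigK : #(big K) + 4 = 4 * k := by
  rw [← h.loc.card, card_eq, show 4 = 3 + 1 from rfl, ← h.card_ivK,
    ← card_insert_of_notMem (a := 1) (by simp [mem_iv]), ← card_union_of_disjoint
      (disjoint_left.2 fun y hy e => (mem_big.1 hy).2 ((mem_insert.1 e).elim (by simp [·])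
        fun e => (mem_iv.1 e).2.2))]
  refine congrArg _ (Finset.ext fun y => ?_)
  simp only [mem_union, mem_insert, mem_filter, mem_univ, true_and, mem_big, mem_iv]
  exact ⟨fun e => e.elim (·.1) fun e => e.elim (fun e => e ▸ one_mem _) (·.1), by tauto⟩

theorem normK : ♯𝐍(K) = 24 * k := by
  rw [← card_inf_mul_relIndex 𝐂[t], inf_comm, h.loc.card_NC, h.loc.card, ← GW.ncard_conj,
    show (fun x => x * t * x⁻¹) '' 𝐍(K) = iv K from Set.ext fun u => ⟨?_, fun hu =>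
      h.loc.conj u (mem_iv.1 hu).1 (mem_iv.1 hu).2.1 (mem_iv.1 hu).2.2⟩, Set.ncard_coe_finset, h.card_ivK]
  · ring
  rintro ⟨g, hg, rfl⟩
  exact mem_iv.2 ⟨conj_mem_of_norm hg h.loc.tK, conj_ne_one.2 h.t1, conj_sq h.t2 g⟩

theorem XK : X ≤ K := by
  obtain ⟨l, hl, hk⟩ := Nat.exists_prime_and_dvd (show k ≠ 1 by have := h.num; omega)
  obtain ⟨x, hx, e⟩ := cauchy hl (h.loc.card ▸ hk.mul_left 4 : l ∣ ♯K)
  have ho : Odd (orderOf x) := e ▸ h.loc.odd.of_dvd_nat hk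
  rw [← h.loc.cent x hx (KK.ne_sq ho (ne_one hl e))]
  exact le_cent1_iff.2 (h.torK.ab.le_cent (h.loc.mem x hx ho))

theorem normQ : ♯𝐍(Q) = q ^ 3 * (2 * r) := by
  rw [← (LBx.sdpN h.toFr h.bor).card, LBx.card_K h.toFr, h.cardQ, card_bot, mul_one]

theorem ivQ : #(iv 𝐍(Q)) = q ^ 2 := by
  have h5 : 𝐂[t].relIndex 𝐍(Q) * q = ♯Q := by
    rw [← h.uni.card, ← h.bor.inf, inf_comm, mul_comm, ← card_inf_mul_relIndex 𝐂[t] Q, h.bor.norm,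
      sup_comm, relIndex_sup_of_le (LBx.K_le h.toFr) (LBx.sdpN h.toFr h.bor).right_le]
  rw [← card_iv (mem_iv.2 ⟨h.bor.norm.ge (mem_sup_right (mem_sup_left (mem_sup_left (mem_zpowers t)))),
    h.t1, h.t2⟩) fun u hu => LBx.exists_conj h.toFr h.bor (mem_iv.1 hu).1 (mem_iv.1 hu).2.1
      (mem_iv.1 hu).2.2, h.cardQ, pow_succ] at h5
  exact Nat.eq_of_mul_eq_mul_right (by have := h.num; omega) h5

theorem ivG : #(iv (⊤ : Subgroup G)) = q ^ 2 * m := by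
  obtain ⟨n1, n2, n3, -⟩ := h.num
  have h1 := 𝐂[t].card_mul_index
  rw [card_iv (N := ⊤) (mem_iv.2 ⟨trivial, h.t1, h.t2⟩) fun u hu => (h.conj u (mem_iv.1 hu).2.1
    (mem_iv.1 hu).2.2).imp fun _ e => ⟨trivial, e⟩, relIndex_top_right]
  refine Nat.eq_of_mul_eq_mul_left (card_pos' 𝐂[t]) ?_
  rw [h1, h.hG, h.cardC]; ring

theorem ivL : #(iv L) = q * r := by
  obtain ⟨a, ha, a1, a2⟩ := La.exists_inv h.toFr
  obtain ⟨Y, hY, h1⟩ := h.exists_torK ha a1 a2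
  have h2 := card_inf_mul_relIndex 𝐂[a] L
  rw [inf_comm, hY.cent_inv h1 a1 a2, hY.card_norm, h.card, ← card_iv (mem_iv.2 ⟨ha, a1, a2⟩)
    fun u hu => h.inv a ha a1 a2 u (mem_iv.1 hu).1 (mem_iv.1 hu).2.1 (mem_iv.1 hu).2.2] at h2
  refine Nat.eq_of_mul_eq_mul_left (show 0 < 2 * (2 * k) by have := h.num; omega) ?_
  rw [h2]; ring

theorem cc_inv (hu : u ∈ iv ⊤) : cc u ≤ 2 * (q * r) := by
  obtain ⟨g, rfl⟩ := h.conj u (mem_iv.1 hu).2.1 (mem_iv.1 hu).2.2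
  rw [cc_conj, ← h.ivL, two_mul]
  refine (card_le_card (t := iv L ∪ (iv L).image (· * t)) fun a ha => ?_).trans
    ((card_union_le _ _).trans (Nat.add_le_add_left card_image_le _))
  obtain ⟨h1, h2⟩ := mem_filter.1 ha
  exact mem_union.2 (((h.cent a).1 (mem_cent1_iff_conj.2 ((inv_of h1 h2).trans
    (inv_eq_of_mul_eq_one_right h.t2)))).imp (fun e => mem_iv.2 ⟨e, (mem_iv.1 h1).2⟩) fun e =>
      mem_image.2 ⟨_, mem_iv.2 ⟨e, (mem_iv.1 h2).2⟩, by rw [mul_assoc, h.t2, mul_one]⟩)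

theorem inv_cent' (hl : l.Prime) (hd : l ∣ 8 * r * k) (ho : orderOf w = l) (hz : z ∈ 𝐂[w]) :
    ∃ u ∈ iv ⊤, z ∈ 𝐂[u] := by
  by_cases l2 : l = 2
  · exact ⟨w, mem_iv.2 ⟨trivial, ne_one hl ho, by rw [← sq, ← l2, ← ho, pow_orderOf_eq_one]⟩, hz⟩
  have key : ∀ D, SC D → D ≤ 𝐂[t] → l ∣ ♯D → ∃ u ∈ iv ⊤, z ∈ 𝐂[u] := fun D h1 h2 h3 => by
    obtain ⟨g, hg⟩ := h1.exists_conj hl l2 h3 ho
    refine ⟨g⁻¹ * t * g⁻¹⁻¹, cj_iv.2 (mem_iv.2 ⟨trivial, h.t1, h.t2⟩), ?_⟩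
    rw [cent1_conj, mem_conj, inv_inv]
    exact h2 ((h1 _ (mem_big.1 hg).1 (mem_big.1 hg).2).le (cent1_conj g w ▸ conj_mem_conj hz))
  rcases hl.dvd_mul.1 hd with e | e
  · rcases hl.dvd_mul.1 e with e | e
    · exact (l2 ((Nat.prime_dvd_prime_iff_eq hl Nat.prime_two).1 (hl.dvd_of_dvd_pow (n := 3) e))).elim
    · exact key _ h.scD inf_le_left (h.cardD ▸ e.mul_left 2)
  · exact key K h.loc.cent h.KC (h.loc.card ▸ e.mul_left 4)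

theorem eq_three (hl : l.Prime) (hd : l ∣ q) : l = 3 := by
  obtain ⟨f, -, e⟩ := h.pow
  exact (Nat.prime_dvd_prime_iff_eq hl Nat.prime_three).1 (hl.dvd_of_dvd_pow (e ▸ hd))

theorem inv_cent (z1 : z ≠ 1) (z3 : ¬ 3 ∣ orderOf z) (hc : ¬ (♯𝐂[z]).Coprime ♯𝐂[t]) :
    ∃ u ∈ iv ⊤, z ∈ 𝐂[u] := by
  have := Fact.mk Nat.prime_three
  obtain ⟨l, hl, h1, h2⟩ := Nat.Prime.not_coprime_iff_dvd.1 hc
  obtain ⟨w, hw, ho⟩ := cauchy hl h1
  rw [h.cardC, show 8 * q * r * k = q * (8 * r * k) by ring] at h2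
  rcases hl.dvd_mul.1 h2 with e | e
  swap
  · exact h.inv_cent' hl e ho (mem_cent1_comm.1 hw)
  obtain rfl := h.eq_three hl e
  obtain ⟨g, -, hg⟩ := h.bor.syl.exists_le_conj' le_top (isP ho)
  have h3 := Ind.TI.mem (Ind.TI.conj h.ti g) (zpowers_le.1 hg) (ne_one hl ho) (mem_cent1_comm.1 hw)
  obtain ⟨y, hy, hp⟩ := exists_prime_order_mem (zpowers_ne_bot.2 z1)
  have h4 := orderOf_dvd_card (zpowers_le.2 h3 hy)
  rw [norm_conj, card_conj, h.normQ] at h4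
  refine h.inv_cent' hp ?_ rfl (cent1_le_of_mem_zpowers hy (mem_cent1_self z))
  rcases hp.dvd_mul.1 h4 with e | e
  · exact (z3 (h.eq_three hp (hp.dvd_of_dvd_pow e) ▸ orderOf_dvd_of_mem_zpowers hy)).elim
  · exact e.trans ⟨4 * k, by ring⟩

theorem cl_or (hu : u ∈ iv ⊤) (hz : z ∈ 𝐂[u]) (z2 : z * z ≠ 1) (z3 : ¬ 3 ∣ orderOf z) :
    z ∈ cl (big (𝐂[t] ⊓ 𝐂(T))) ∨ z ∈ cl (big K) := by
  obtain ⟨g, rfl⟩ := h.conj u (mem_iv.1 hu).2.1 (mem_iv.1 hu).2.2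
  rw [cent1_conj] at hz
  obtain ⟨z, rfl⟩ := KK.mem_conj' hz
  rw [conj_mem_conj_iff] at hz
  rw [cj_mul, Ne, cj_one] at z2
  have hL : z * z ∈ L := ((h.cent z).1 hz).elim (fun e => mul_mem e e) fun e => h.sq_t hz ▸ mul_mem e e
  have key : ∀ D Y, SC D → Y ≤ D → (∀ y ∈ D, y * y * (y * y) = 1 → y * y = 1) → ∀ c ∈ L,
      c * (z * z) * c⁻¹ ∈ Y → g * z * g⁻¹ ∈ cl (big D) := fun D Y h1 h2 h3 c hc e => by
    have h4 : c * (z * z) * c⁻¹ * (c * (z * z) * c⁻¹) ≠ 1 := fun e => by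
      rw [cj_mul, cj_one] at e
      exact z2 (h.sq_of_four z (by rw [← e, show 4 = 2 + 2 from rfl, pow_add, sq]))
    refine mem_cl.2 ⟨c * g⁻¹, mem_big.2 ⟨?_, by simpa only [cj_mul, Ne, cj_one] using z2⟩⟩
    rw [show c * g⁻¹ * (g * z * g⁻¹) * (c * g⁻¹)⁻¹ = c * z * c⁻¹ by group, ← h1 _ (h2 e) h4, cent1_conj]
    exact conj_mem_conj (mem_cent1.2 (mul_assoc z z z).symm)
  have four : ∀ y : G, y * y * (y * y) = 1 → y * y = 1 := fun y e =>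
    h.sq_of_four y (by rw [← e, show 4 = 2 + 2 from rfl, pow_add, sq])
  obtain ⟨Y, hY, e | e | e⟩ := h.part _ hL z2
  · refine (z3 ?_).elim
    have h1 : orderOf (z * z) = 3 := orderOf_eq_prime (e.elem.2 _ hY) z2
    rw [orderOf_conj, ← h1, ← sq]
    exact orderOf_pow_dvd 2
  · obtain ⟨c, hc, e'⟩ := h.conjR Y T e (by have := h.tor; rwa [h.tor.card.symm.trans h.cardT] at this)
    exact .inl (key _ T h.scD h.TD (fun y _ => four y) c hc (e' ▸ conj_mem_conj hY))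
  · obtain ⟨c, hc, e'⟩ := h.conjK Y X e h.torK
    exact .inr (key _ X h.loc.cent h.XK (fun y _ => four y) c hc (e' ▸ conj_mem_conj hY))

theorem ta (z1 : z ≠ 1) (hc : (♯𝐂[z]).Coprime ♯𝐂[t]) (hu : u ∈ iv ⊤) (e : u * z * u⁻¹ = z⁻¹) :
    TA t 𝐂[z] := by
  obtain ⟨-, u1, u2⟩ := mem_iv.1 hu
  have key : ∀ y, (♯𝐂[y]).Coprime ♯𝐂[t] → u * y * u⁻¹ = y⁻¹ → u ∈ 𝐍(𝐂[y]) ∧ 𝐂[y] ⊓ 𝐂[u] = ⊥ :=
    fun y h1 h2 => ⟨KK.norm_zp_le y (KK.mem_norm_of_inv h2),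
      (disjoint_of_coprime_natCard (h.cardC' u1 u2 ▸ h1)).eq_bot⟩
  obtain ⟨h1, h2⟩ := key z hc e
  refine ⟨fun y hy y2 => le_antisymm ?_ (le_cent1_iff.2 ((ab_of_inf_eq_bot u2 h1 h2).le_cent hy)), hc,
    fun e => z1 (mem_bot.1 (e ▸ mem_cent1_self z)), u, u1, u2, fun y => conj_eq_inv u2 h1 h2⟩
  have h3 := hc.coprime_dvd_left (orderOf_dvd_card hy)
  have y1 : y ≠ 1 := fun e => y2 (by simp [e])
  obtain ⟨h4, h5⟩ := key y (by_contra fun e => by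
    obtain ⟨a, ha, h6⟩ := h.inv_cent y1 (fun e => absurd (Nat.eq_one_of_dvd_coprimes h3 e (by
      rw [h.cardC]; exact ((h.num.2.2.2.mul_left 8).mul_right r).mul_right k)) (by norm_num)) e
    exact y1 (orderOf_eq_one_iff.1 (Nat.eq_one_of_dvd_coprimes h3 dvd_rfl
      (h.cardC' (mem_iv.1 ha).2.1 (mem_iv.1 ha).2.2 ▸ orderOf_dvd_card h6)))) (conj_eq_inv u2 h1 h2 hy)
  exact le_cent1_iff.2 ((ab_of_inf_eq_bot u2 h4 h5).le_cent (mem_cent1_comm.1 hy))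

end Cx

end Cfsg.Agent.GW2.Rl
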